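import Mathlib
import Groth.Agent.H4.SmRed2
import Groth.Agent.Lib.Helper5.AlgSp.PointsTop
import Groth.Agent.Lib.Helper5.AlgSp.OpenSubspace

set_option autoImplicit false
set_option linter.unusedSectionVars false

universe u

open CategoryTheory CategoryTheory.Limits AlgebraicGeometry MorphismProperty Opposite Topology

namespace Groth.Agent.H3.AlgSpProp

open _root_.AlgSp Groth.Agent.H5.AlgSp

variable {S : Scheme.{u}}

/-- A pointed property of schemes that is invariant under étale morphisms. -/
def EtaleLocalAt (Q : ∀ U : Scheme.{u}, ↥U → Prop) : Prop :=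
  ∀ ⦃Z U : Scheme.{u}⦄ (g : Z ⟶ U) [Etale g] (z : ↥Z), Q Z z ↔ Q U (g z)

/-- For an étale-local pointed property, `HasAt` can be checked on any chart. -/
theorem hasAt_iff_forall {Q : ∀ U : Scheme.{u}, ↥U → Prop} (hQ : EtaleLocalAt Q) {X : Sp S}
    (hX : IsAlgSpace X) (x : Points X) :
    HasAt Q X x ↔ ∀ (U : Over S) (a : (yon S).obj U ⟶ X) (u : ↥U.left),
      RepWith @Etale a → Points.ofPt a u = x → Q U.left u := by
  constructor
  · rintro ⟨U₁, a₁, u₁, ha₁, rfl, hq⟩ U a u ha hu
    have sq := ha₁.rep.isPullback a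
    have hx : Points.map a₁ (Points.ofScheme U₁ u₁) = Points.ofPt a u := by
      rw [← Points.ofPt_eq_map_ofScheme, hu]
    obtain ⟨v, hv1, hv2⟩ := exists_point_of_isPullback sq _ _ hx
    obtain ⟨q, hq'⟩ := (yon S).map_surjective (ha₁.rep.fst a)
    have hqe : Etale q.left := by
      have : RepWith @Etale ((yon S).map q) := by
        rw [hq']
        exact MorphismProperty.of_isPullback (P := RepWith @Etale) sq.flip ha
      exact (repWith_yon_map_iff @Etale q).1 this
    have hπe : Etale (ha₁.rep.snd a).left := ha₁.property_snd a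
    have hqv : q.left v = u₁ := by
      rw [← hq'] at hv2
      have h2 := congrArg (Points.toScheme U₁) hv2
      rwa [Points.toScheme_ofPt, Points.toScheme_ofScheme] at h2
    rw [← hv1]
    rw [← hqv] at hq
    exact (hQ (ha₁.rep.snd a).left v).1 ((hQ q.left v).2 hq)
  · intro h
    obtain ⟨U, a, hae, has⟩ := hX.atlas
    obtain ⟨u, hu⟩ := ofPt_surjective_of_repWith has x
    exact ⟨U, a, u, hae, hu, h U a u hae hu⟩

/-- Reducedness of the local ring is étale local. -/
theorem etaleLocalAt_isReduced_stalk :
    EtaleLocalAt (fun U u => _root_.IsReduced ↥(U.presheaf.stalk u)) := by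
  intro Z U g _ z
  constructor
  · intro h
    have hfl : (g.stalkMap z).hom.Flat := Flat.stalkMap g z
    algebraize [(g.stalkMap z).hom]
    have hloc : IsLocalHom (algebraMap (U.presheaf.stalk (g z)) (Z.presheaf.stalk z)) :=
      inferInstanceAs (IsLocalHom (g.stalkMap z).hom)
    have : Module.FaithfullyFlat (U.presheaf.stalk (g z)) (Z.presheaf.stalk z) :=
      Module.FaithfullyFlat.of_flat_of_isLocalHom
    exact isReduced_of_injective (algebraMap (U.presheaf.stalk (g z)) (Z.presheaf.stalk z))
      (FaithfulSMul.algebraMap_injective _ _)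
  · intro h
    exact Groth.Agent.H4.SmRed.isReduced_stalk_of_smooth g z

end Groth.Agent.H3.AlgSpProp
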