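import Mathlib
import Groth.Agent.Lib.Helper5.AlgSp.PointsTop
import Groth.Agent.Lib.Helper5.AlgSp.OpenSubspace
import Groth.Agent.Lib.Helper5.AlgSp.OpenSub
import Groth.Agent.Lib.Helper5.AlgSp.ImmersionTop

set_option autoImplicit false
set_option linter.unusedSectionVars false

universe u

open CategoryTheory CategoryTheory.Limits AlgebraicGeometry MorphismProperty Opposite Topology

namespace Groth.Agent.H3.AlgSpProp

open _root_.AlgSp Groth.Agent.H5.AlgSp

variable {S : Scheme.{u}} {F : Sp S}

/-- The image of an étale chart is open. -/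
lemma isOpen_range_ofPt {V : Over S} {a : (yon S).obj V ⟶ F} (ha : RepWith @Etale a) :
    IsOpen (Set.range (Points.ofPt a)) :=
  (isOpenMap_ofPt_of_etale ha).isOpen_range

/-- An étale chart `a : h_V ⟶ F` factors through the open subspace given by its image, via a
representable étale surjective map. -/
theorem exists_factor_image {V : Over S} {a : (yon S).obj V ⟶ F} (ha : RepWith @Etale a) :
    ∃ y : (yon S).obj V ⟶ openSub F (Set.range (Points.ofPt a)),
      y ≫ openSubι F (Set.range (Points.ofPt a)) = a ∧ RepWith @Etale y ∧ RepWith @Surjective y := by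
  obtain ⟨y, hy⟩ := (factors_openSubι_iff F (Set.range (Points.ofPt a)) a).2 fun t => ⟨t, rfl⟩
  have hye : RepWith @Etale y := by
    apply repWith_of_comp_mono (openSubι F (Set.range (Points.ofPt a)))
    rw [hy]; exact ha
  refine ⟨y, hy, hye, repWith_surjective_of_ofPt hye.rep fun z => ?_⟩
  have hz : Points.map (openSubι F (Set.range (Points.ofPt a))) z ∈ Set.range (Points.ofPt a) := by
    have := range_points_map_openSubι (F := F) (Set.range (Points.ofPt a))
    exact this.subset ⟨z, rfl⟩
  obtain ⟨t, ht⟩ := hz
  refine ⟨t, points_map_injective_of_mono (openSubι F (Set.range (Points.ofPt a))) ?_⟩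
  rw [Points.map_ofPt, hy, ht]

end Groth.Agent.H3.AlgSpProp
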