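import Mathlib
import Groth.Agent.Lib.Helper5.AlgSp.PointsTop
import Groth.Agent.Lib.Helper5.AlgSp.OpenSubspace

set_option autoImplicit false
set_option linter.unusedSectionVars false

universe u

open CategoryTheory CategoryTheory.Limits AlgebraicGeometry MorphismProperty Opposite Topology

namespace Groth.Agent.H3.AlgSpProp

open _root_.AlgSp Groth.Agent.H5.AlgSp

variable {S : Scheme.{u}}

/-- **Sections of a coproduct of sheaves locally lift to a summand.** -/
theorem cofan_locally_lifts {ι : Type*} {Y : ι → Sp S} (c : Cofan Y) (hc : IsColimit c)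
    {T : Over S} (ξ : (yon S).obj T ⟶ c.pt) :
    ∃ R ∈ J S T, ∀ ⦃T' : Over S⦄ (f : T' ⟶ T), R f →
      ∃ (i : ι) (l : (yon S).obj T' ⟶ Y i), l ≫ c.inj i = (yon S).map f ≫ ξ := by
  let G : Subfunctor c.pt.obj := ⨆ i, Subfunctor.range (c.inj i).hom
  have hF : Presieve.IsSheaf (J S) c.pt.obj := (isSheaf_iff_isSheaf_of_type _ _).1 c.pt.property
  have hI : Presieve.IsSheaf (J S) (G.sheafify (J S)).toFunctor := G.sheafify_isSheaf hF
  let Ish : Sp S := ⟨(G.sheafify (J S)).toFunctor, (isSheaf_iff_isSheaf_of_type _ _).2 hI⟩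
  let a : ∀ i, Y i ⟶ Ish := fun i =>
    ⟨Subfunctor.lift (c.inj i).hom ((le_iSup (fun i => Subfunctor.range (c.inj i).hom) i).trans
      (G.le_sheafify (J S)))⟩
  let r : c.pt ⟶ Ish := Cofan.IsColimit.desc hc a
  let ιI : Ish ⟶ c.pt := ⟨(G.sheafify (J S)).ι⟩
  have hr : r ≫ ιI = 𝟙 _ := by
    apply Cofan.IsColimit.hom_ext hc
    intro i
    rw [← Category.assoc, Cofan.IsColimit.fac, Category.comp_id]
    rfl
  let s := yEquiv c.pt T ξ
  have hs : s ∈ (G.sheafify (J S)).obj (op T) := by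
    have h1 : ιI.hom.app (op T) (r.hom.app (op T) s) = s := by
      have := congrArg (fun m => m.hom.app (op T) s) hr
      exact this
    rw [← h1]
    exact (r.hom.app (op T) s).2
  refine ⟨G.sieveOfSection s, hs, fun T' f hf => ?_⟩
  have hf' : c.pt.obj.map f.op s ∈ G.obj (op T') := hf
  rw [Subfunctor.iSup_obj] at hf'
  obtain ⟨i, l', hl'⟩ := Set.mem_iUnion.1 hf'
  refine ⟨i, (yEquiv (Y i) T').symm l', ?_⟩
  apply (yEquiv c.pt T').injective
  rw [yEquiv_comp, Equiv.apply_symm_apply, hl']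
  exact (J S).uliftYonedaEquiv_naturality ξ f

/-- Points of a coproduct of sheaves come from the summands. -/
theorem exists_point_of_cofan {ι : Type*} {Y : ι → Sp S} (c : Cofan Y) (hc : IsColimit c)
    (x : Points c.pt) : ∃ (i : ι) (y : Points (Y i)), Points.map (c.inj i) y = x := by
  obtain ⟨K, _, str, ξ, rfl⟩ := exists_fpOfHom x
  obtain ⟨R, hR, hlift⟩ := cofan_locally_lifts c hc ξ
  obtain ⟨V, f, hf, v, hv⟩ := exists_mem_range_of_mem_J hR (IsLocalRing.closedPoint K)
  obtain ⟨i, l, hl⟩ := hlift f hf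
  refine ⟨i, Points.ofPt l v, ?_⟩
  rw [Points.map_ofPt, hl, ofPt_yon_map_comp, hv, ofPt_closedPoint]

end Groth.Agent.H3.AlgSpProp
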