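import Groth.Agent.Lib.Helper3.AlgSpProp.ElemNbhd2
import Groth.Agent.Lib.Helper3.AG.CompsStalk
import Groth.Agent.Lib.Helper8.Brnch.EtaleCountSch
import Groth.Agent.Lib.Helper8.Hens.EtaleNbhdSch
import Groth.Agent.Lib.Helper8.Brnch.NumBranches
import Groth.Agent.S9752
import Groth.Agent.S9781

set_option autoImplicit false
set_option linter.unusedSectionVars false

universe u

open CategoryTheory CategoryTheory.Limits AlgebraicGeometry MorphismProperty Opposite Topology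

namespace Groth.Agent.H3.ElemNbhd

open _root_.AlgSp Groth.Agent.H5.AlgSp Groth.Agent.H3.AlgSpProp

variable {S : Scheme.{u}} {X : Sp S}

/-- the branch number at the marked point is independent of the elementary étale neighbourhood. -/
theorem numBranchesAt_eq (hX : IsAlgSpace X) (x : Points X) {U₁ U₂ : Over S}
    (a₁ : (yon S).obj U₁ ⟶ X) (a₂ : (yon S).obj U₂ ⟶ X) (u₁ : ↥U₁.left) (u₂ : ↥U₂.left)
    (h₁ : IsElemEtaleNbhd a₁ u₁ x) (h₂ : IsElemEtaleNbhd a₂ u₂ x) :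
    Brnch.numBranchesAt U₁.left u₁ = Brnch.numBranchesAt U₂.left u₂ := by
  obtain ⟨U, a, v, k₁, k₂, h, rfl, e₂, rfl, rfl⟩ :=
    exists_common_refinement hX x a₁ a₂ u₁ u₂ h₁ h₂
  have E₁ := isEtaleNbhd_of_isElemEtaleNbhd hX x a₁ k₁ v h h₁
  have E₂ := isEtaleNbhd_of_isElemEtaleNbhd hX x a₂ k₂ v (e₂ ▸ h) h₂
  have := E₁.etale
  have := E₂.etale
  rw [← Groth.Agent.H8.Brnch.numBranchesAt_eq_of_etaleNbhd k₁.left v E₁.residue_bijective.2,
    ← Groth.Agent.H8.Brnch.numBranchesAt_eq_of_etaleNbhd k₂.left v E₂.residue_bijective.2]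

/-- unibranchness at the marked point is independent of the elementary étale neighbourhood. -/
theorem isUnibranch_iff (hX : IsAlgSpace X) (x : Points X) {U₁ U₂ : Over S}
    (a₁ : (yon S).obj U₁ ⟶ X) (a₂ : (yon S).obj U₂ ⟶ X) (u₁ : ↥U₁.left) (u₂ : ↥U₂.left)
    (h₁ : IsElemEtaleNbhd a₁ u₁ x) (h₂ : IsElemEtaleNbhd a₂ u₂ x) :
    CAlg2.IsUnibranch ↥(U₁.left.presheaf.stalk u₁) ↔
      CAlg2.IsUnibranch ↥(U₂.left.presheaf.stalk u₂) := by
  obtain ⟨U, a, v, k₁, k₂, h, rfl, e₂, rfl, rfl⟩ :=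
    exists_common_refinement hX x a₁ a₂ u₁ u₂ h₁ h₂
  have E₁ := isEtaleNbhd_of_isElemEtaleNbhd hX x a₁ k₁ v h h₁
  have E₂ := isEtaleNbhd_of_isElemEtaleNbhd hX x a₂ k₂ v (e₂ ▸ h) h₂
  have := E₁.etale
  have := E₂.etale
  rw [← Groth.Agent.H8.Hens.EH.isUnibranch_stalk_iff_of_etaleNbhd k₁.left v E₁.residue_bijective.2,
    ← Groth.Agent.H8.Hens.EH.isUnibranch_stalk_iff_of_etaleNbhd k₂.left v E₂.residue_bijective.2]

/-- a scheme-theoretic elementary étale neighbourhood of an elementary étale neighbourhood is an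
elementary étale neighbourhood. -/
theorem exists_of_isEtaleNbhd (x : Points X) {U₀ : Over S} (a₀ : (yon S).obj U₀ ⟶ X)
    (u₀ : ↥U₀.left) (h₀ : IsElemEtaleNbhd a₀ u₀ x) {V : Scheme.{u}} (g : V ⟶ U₀.left) (v : V)
    (hg : Hens2.IsEtaleNbhd g v u₀) :
    ∃ (a : (yon S).obj (Over.mk (g ≫ U₀.hom)) ⟶ X), IsElemEtaleNbhd a v x := by
  obtain ⟨hge, rfl, hb⟩ := hg
  let k : Over.mk (g ≫ U₀.hom) ⟶ U₀ := Over.homMk g rfl
  exact ⟨(yon S).map k ≫ a₀, isElemEtaleNbhd_of_isEtaleNbhd x a₀ k v h₀ ⟨hge, rfl, hb⟩⟩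

/-- the number of components through the marked point is at most the branch number. -/
theorem encard_components_le_numBranchesAt (Y : Scheme.{u}) (y : Y) :
    {Z : Set ↥Y | Z ∈ irreducibleComponents ↥Y ∧ y ∈ Z}.encard ≤ Brnch.numBranchesAt Y y := by
  rw [Groth.Agent.S9752.result Y y]
  refine le_trans ?_ (le_iSup _ Y)
  refine le_trans ?_ (le_iSup _ (𝟙 Y))
  refine le_trans ?_ (le_iSup _ y)
  refine le_trans ?_ (le_iSup _ ⟨inferInstance, rfl, ?_⟩)
  · exact le_rfl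
  · have : IsIso ((𝟙 Y : Y ⟶ Y).residueFieldMap y) := inferInstance
    exact (ConcreteCategory.isIso_iff_bijective _).mp this

end Groth.Agent.H3.ElemNbhd
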