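import Groth.Agent.Lib.Helper3.AlgSpProp.ElemBranch

set_option autoImplicit false
set_option linter.unusedSectionVars false

universe u

open CategoryTheory CategoryTheory.Limits AlgebraicGeometry MorphismProperty Opposite Topology

namespace Groth.Agent.H3.ElemNbhd

open _root_.AlgSp Groth.Agent.H5.AlgSp Groth.Agent.H3.AlgSpProp

variable {S : Scheme.{u}} {X : Sp S}

/-- branch-number version of the count. -/
theorem numBranches_count_iff (hX : IsAlgSpace X) (x : Points X) (n : ℕ) {U₀ : Over S}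
    (a₀ : (yon S).obj U₀ ⟶ X) (u₀ : ↥U₀.left) (h₀ : IsElemEtaleNbhd a₀ u₀ x) :
    ((∀ (U : Over S) (a : (yon S).obj U ⟶ X) (u : ↥U.left), IsElemEtaleNbhd a u x →
        Brnch.numBranchesAt U.left u ≤ n) ∧
      (∃ (U : Over S) (a : (yon S).obj U ⟶ X) (u : ↥U.left), IsElemEtaleNbhd a u x ∧
        Brnch.numBranchesAt U.left u = n)) ↔ Brnch.numBranchesAt U₀.left u₀ = n := by
  constructor
  · rintro ⟨-, U, a, u, h, e⟩
    rw [← e]
    exact numBranchesAt_eq hX x a₀ a u₀ u h₀ h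
  · intro e
    refine ⟨fun U a u h => ?_, U₀, a₀, u₀, h₀, e⟩
    rw [numBranchesAt_eq hX x a a₀ u u₀ h h₀, e]

/-- components version of the count. -/
theorem components_count_iff (hX : IsAlgSpace X) (x : Points X) (n : ℕ) (hn : 1 ≤ n)
    {U₀ : Over S} (a₀ : (yon S).obj U₀ ⟶ X) (u₀ : ↥U₀.left) (h₀ : IsElemEtaleNbhd a₀ u₀ x) :
    ((∀ (U : Over S) (a : (yon S).obj U ⟶ X) (u : ↥U.left), IsElemEtaleNbhd a u x →
        {Z : Set ↥U.left | Z ∈ irreducibleComponents ↥U.left ∧ u ∈ Z}.encard ≤ n) ∧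
      (∃ (U : Over S) (a : (yon S).obj U ⟶ X) (u : ↥U.left), IsElemEtaleNbhd a u x ∧
        {Z : Set ↥U.left | Z ∈ irreducibleComponents ↥U.left ∧ u ∈ Z}.encard = n)) ↔
      Brnch.numBranchesAt U₀.left u₀ = n := by
  constructor
  · rintro ⟨hle, U, a, u, h, e⟩
    apply le_antisymm
    · rw [Groth.Agent.S9752.result U₀.left u₀]
      refine iSup_le fun V => iSup_le fun g => iSup_le fun v => iSup_le fun hg => ?_
      obtain ⟨a', h'⟩ := exists_of_isEtaleNbhd x a₀ u₀ h₀ g v hg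
      exact hle _ a' v h'
    · rw [numBranchesAt_eq hX x a₀ a u₀ u h₀ h, ← e]
      exact encard_components_le_numBranchesAt U.left u
  · intro e
    have hle : ∀ (U : Over S) (a : (yon S).obj U ⟶ X) (u : ↥U.left), IsElemEtaleNbhd a u x →
        {Z : Set ↥U.left | Z ∈ irreducibleComponents ↥U.left ∧ u ∈ Z}.encard ≤ n := by
      intro U a u h
      rw [← e, numBranchesAt_eq hX x a₀ a u₀ u h₀ h]
      exact encard_components_le_numBranchesAt U.left u
    refine ⟨hle, ?_⟩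
    by_contra hcon
    push Not at hcon
    obtain ⟨m, rfl⟩ : ∃ m : ℕ, n = m + 1 := ⟨n - 1, by omega⟩
    have hlt : Brnch.numBranchesAt U₀.left u₀ ≤ m := by
      rw [Groth.Agent.S9752.result U₀.left u₀]
      refine iSup_le fun V => iSup_le fun g => iSup_le fun v => iSup_le fun hg => ?_
      obtain ⟨a', h'⟩ := exists_of_isEtaleNbhd x a₀ u₀ h₀ g v hg
      have h1 := hle _ a' v h'
      have h2 := hcon _ a' v h'
      have h3 := lt_of_le_of_ne h1 h2
      have h4 : ((m + 1 : ℕ) : ℕ∞) = (m : ℕ∞) + 1 := by push_cast; rfl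
      rw [h4] at h3
      exact (ENat.lt_add_one_iff (ENat.natCast_ne_top m)).mp h3
    rw [e] at hlt
    have : ((m + 1 : ℕ) : ℕ∞) ≤ (m : ℕ∞) := hlt
    have := ENat.natCast_le_natCast.mp this
    omega

/-- the henselization counts the branch number. -/
theorem encard_minimalPrimes_henselization (Y : Scheme.{u}) (y : Y)
    (R : Type u) [CommRing R] [IsLocalRing R] [Algebra ↥(Y.presheaf.stalk y) R]
    [IsLocalHom (algebraMap ↥(Y.presheaf.stalk y) R)]
    [Hensel.IsHenselization ↥(Y.presheaf.stalk y) R] :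
    (minimalPrimes R).encard = Brnch.numBranchesAt Y y :=
  Groth.Agent.H8.Brnch.card_minimalPrimes_eq_numBranches ↥(Y.presheaf.stalk y) R

end Groth.Agent.H3.ElemNbhd

namespace Groth.Agent.H3.ElemNbhd

open _root_.AlgSp Groth.Agent.H5.AlgSp Groth.Agent.H3.AlgSpProp

variable {S : Scheme.{u}} {X : Sp S}

theorem unibranch_forall_iff (hX : IsAlgSpace X) (x : Points X) {U₀ : Over S}
    (a₀ : (yon S).obj U₀ ⟶ X) (u₀ : ↥U₀.left) (h₀ : IsElemEtaleNbhd a₀ u₀ x) :
    (∀ (U : Over S) (a : (yon S).obj U ⟶ X) (u : ↥U.left), IsElemEtaleNbhd a u x →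
        CAlg2.IsUnibranch ↥(U.left.presheaf.stalk u)) ↔
      CAlg2.IsUnibranch ↥(U₀.left.presheaf.stalk u₀) :=
  ⟨fun H => H U₀ a₀ u₀ h₀, fun H _ a u h => (isUnibranch_iff hX x a a₀ u u₀ h h₀).mpr H⟩

theorem components_forall_iff (hX : IsAlgSpace X) (x : Points X) {U₀ : Over S}
    (a₀ : (yon S).obj U₀ ⟶ X) (u₀ : ↥U₀.left) (h₀ : IsElemEtaleNbhd a₀ u₀ x) :
    (∀ (U : Over S) (a : (yon S).obj U ⟶ X) (u : ↥U.left), IsElemEtaleNbhd a u x →
        {Z : Set ↥U.left | Z ∈ irreducibleComponents ↥U.left ∧ u ∈ Z}.encard = 1) ↔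
      CAlg2.IsUnibranch ↥(U₀.left.presheaf.stalk u₀) := by
  constructor
  · intro H
    rw [Groth.Agent.S9781.result U₀.left u₀]
    intro V g v hg
    obtain ⟨a', h'⟩ := exists_of_isEtaleNbhd x a₀ u₀ h₀ g v hg
    exact H _ a' v h'
  · intro H U a u h
    have hU := (isUnibranch_iff hX x a a₀ u u₀ h h₀).mpr H
    rw [Groth.Agent.S9781.result U.left u] at hU
    refine hU U.left (𝟙 _) u ⟨inferInstance, rfl, ?_⟩
    have : IsIso ((𝟙 U.left : U.left ⟶ U.left).residueFieldMap u) := inferInstance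
    exact (ConcreteCategory.isIso_iff_bijective _).mp this

theorem hasUniqueMinimalPrime_iff_encard (B : Type u) [CommRing B] :
    CAlgX.HasUniqueMinimalPrime B ↔ (minimalPrimes B).encard = 1 := by
  rw [Set.encard_eq_one]
  constructor
  · rintro ⟨P, hP, huniq⟩
    refine ⟨P, ?_⟩
    ext Q
    simp only [Set.mem_singleton_iff]
    exact ⟨fun hQ => huniq Q hQ, fun h => h ▸ hP⟩
  · rintro ⟨P, hP⟩
    refine ⟨P, by rw [hP]; rfl, fun Q hQ => ?_⟩
    rw [hP] at hQ
    exact hQ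

end Groth.Agent.H3.ElemNbhd
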