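import Mathlib
import Groth.Agent.Lib.Helper5.AlgSp.PointsTop
import Groth.Agent.Lib.Helper5.AlgSp.OpenSubspace
import Groth.Prelude.Def_AlgSpDec

set_option autoImplicit false
set_option linter.unusedSectionVars false

universe u

open CategoryTheory CategoryTheory.Limits AlgebraicGeometry MorphismProperty Opposite Topology

namespace Groth.Agent.H3.AlgSpProp

open _root_.AlgSp Groth.Agent.H5.AlgSp

variable {S : Scheme.{u}}

/-- A monomorphism from a nonempty scheme to the spectrum of a field is an isomorphism. -/
lemma isIso_of_mono_of_field {P : Scheme.{u}} {L : Type u} [Field L] (f : P ⟶ Spec (.of L))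
    [Mono f] [Nonempty P] : IsIso f := by
  have hinj : Function.Injective f := f.injective
  have : Subsingleton P := hinj.subsingleton
  have : CompactSpace P := inferInstance
  have : QuasiCompact f := (HasAffineProperty.iff_of_isAffine (P := @QuasiCompact)).mpr inferInstance
  have : Surjective f := ⟨fun y => ⟨Classical.arbitrary P, Subsingleton.elim _ _⟩⟩
  exact Flat.isIso_of_surjective_of_mono f

end Groth.Agent.H3.AlgSpProp

namespace Groth.Agent.H3.AlgSpProp

open _root_.AlgSp Groth.Agent.H5.AlgSp

variable {S : Scheme.{u}}

theorem existsUnique_factor_of_mono_fieldPt {F : Sp S} (hF : IsAlgSpace F) (p q : FieldPt F)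
    (h : Points.mk p = Points.mk q) [Mono p.toHom] :
    ∃! c : q.pt ⟶ p.pt, (yon S).map c ≫ p.toHom = q.toHom := by
  have hrep : Representable p.toHom := hF.representable_from_yon p.toHom
  have sq := hrep.isPullback q.toHom
  have hm : Mono ((yon S).map (hrep.snd q.toHom)) :=
    PullbackCone.mono_snd_of_is_pullback_of_mono sq.isLimit
  have hm' : Mono (hrep.snd q.toHom) := (yon S).mono_of_mono_map hm
  have hm'' : Mono (hrep.snd q.toHom).left := inferInstance
  have hne : Nonempty ↥(hrep.pullback q.toHom).left := by
    have hx : Points.map p.toHom (Points.ofScheme p.pt (IsLocalRing.closedPoint p.K)) =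
        Points.ofPt q.toHom (IsLocalRing.closedPoint q.K) := by
      rw [← Points.ofPt_eq_map_ofScheme, Points.ofPt_toHom, Points.ofPt_toHom, h]
    obtain ⟨v, -, -⟩ := exists_point_of_isPullback sq _ _ hx
    exact ⟨v⟩
  have hiso : IsIso (hrep.snd q.toHom).left := isIso_of_mono_of_field _
  have hiso' : IsIso (hrep.snd q.toHom) :=
    have : IsIso ((Over.forget S).map (hrep.snd q.toHom)) := hiso
    isIso_of_reflects_iso _ (Over.forget S)
  refine ⟨inv (hrep.snd q.toHom) ≫ (yon S).preimage (hrep.fst q.toHom), ?_, fun c' hc' => ?_⟩
  · simp only [Functor.map_comp, Functor.map_preimage, Category.assoc]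
    rw [sq.w, ← Category.assoc, ← Functor.map_comp, IsIso.inv_hom_id,
      CategoryTheory.Functor.map_id, Category.id_comp]
  · apply (yon S).map_injective
    rw [← cancel_mono p.toHom, hc']
    simp only [Functor.map_comp, Functor.map_preimage, Category.assoc]
    rw [sq.w, ← Category.assoc, ← Functor.map_comp, IsIso.inv_hom_id,
      CategoryTheory.Functor.map_id, Category.id_comp]

end Groth.Agent.H3.AlgSpProp
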