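import Mathlib
import Groth.Agent.Lib.Helper5.AlgSp.KPoints
import Groth.Agent.Lib.Helper5.AlgSp.FTPoints
import Groth.Agent.Lib.Helper5.AlgSp.EtaleMor
import Groth.Prelude.Def_AlgSpDec

set_option autoImplicit false
set_option linter.unusedSectionVars false

universe u

open CategoryTheory CategoryTheory.Limits AlgebraicGeometry MorphismProperty Opposite Topology

namespace Groth.Agent.H3.AlgSpProp

open _root_.AlgSp Groth.Agent.H5.AlgSp

variable {S : Scheme.{u}}

/-- A scheme étale over an algebraically closed field has a section through any given point. -/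
lemma exists_section_through_point {k : Type u} [Field k] [IsAlgClosed k] {P : Scheme.{u}}
    (g : P ⟶ Spec (.of k)) [Etale g] (v : ↥P) :
    ∃ s : Spec (.of k) ⟶ P, s ≫ g = 𝟙 _ ∧ s (IsLocalRing.closedPoint k) = v := by
  have : LocallyQuasiFinite g := locallyQuasiFinite_of_etale g
  have hd : DiscreteTopology ↥P := discreteTopology_of_lqf_field g
  let V : P.Opens := ⟨{v}, isOpen_discrete _⟩
  have : Nonempty ↥(V : Scheme.{u}) := ⟨⟨v, rfl⟩⟩
  obtain ⟨p, hp⟩ := exists_section_of_nonempty (K := k) (V.ι ≫ g)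
  refine ⟨p ≫ V.ι, by rw [Category.assoc, hp], ?_⟩
  rw [Scheme.Hom.comp_apply]
  exact (p (IsLocalRing.closedPoint k)).2

/-- Lifting geometric points along étale morphisms of algebraic spaces. -/
theorem exists_lift_geometric_point {U X : Sp S} (hU : IsAlgSpace U) (φ : U ⟶ X)
    (hφ : IsEtaleMor φ) (xbar : FieldPt X) (hx : xbar.IsGeometric)
    (u : Points U) (hu : Points.map φ u = Points.mk xbar) :
    ∃ ubar : (yon S).obj xbar.pt ⟶ U,
      ubar ≫ φ = xbar.toHom ∧ Points.ofPt ubar (IsLocalRing.closedPoint xbar.K) = u := by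
  have : IsAlgClosed xbar.K := hx
  obtain ⟨W, c, hce, hcs⟩ := hU.atlas
  obtain ⟨w, rfl⟩ := ofPt_surjective_of_repWith hcs u
  have he : RepWith @Etale (c ≫ φ) := hφ c hce
  have sq := he.rep.isPullback xbar.toHom
  have hx' : Points.map (c ≫ φ) (Points.ofScheme W w) =
      Points.ofPt xbar.toHom (IsLocalRing.closedPoint xbar.K) := by
    rw [← Points.ofPt_eq_map_ofScheme, Points.ofPt_toHom, ← hu, Points.map_ofPt]
  obtain ⟨v, hv1, hv2⟩ := exists_point_of_isPullback sq _ _ hx'
  have het : Etale (he.rep.snd xbar.toHom).left := he.property_snd xbar.toHom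
  obtain ⟨s, hs1, hs2⟩ := exists_section_through_point (k := xbar.K)
    (he.rep.snd xbar.toHom).left v
  have hw : s ≫ (he.rep.pullback xbar.toHom).hom = xbar.str := by
    have := Over.w (he.rep.snd xbar.toHom)
    change (he.rep.snd xbar.toHom).left ≫ xbar.str = _ at this
    rw [← this, ← Category.assoc, hs1, Category.id_comp]
  let s' : xbar.pt ⟶ he.rep.pullback xbar.toHom := Over.homMk s hw
  have hs' : s' ≫ he.rep.snd xbar.toHom = 𝟙 _ := Over.OverMorphism.ext hs1
  refine ⟨(yon S).map s' ≫ he.rep.fst xbar.toHom ≫ c, ?_, ?_⟩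
  · rw [Category.assoc, Category.assoc, sq.w, ← Category.assoc, ← Functor.map_comp, hs',
      CategoryTheory.Functor.map_id, Category.id_comp]
  · rw [ofPt_yon_map_comp]
    change Points.ofPt _ (s (IsLocalRing.closedPoint xbar.K)) = _
    rw [hs2, ← Points.map_ofPt, hv2, ← Points.ofPt_eq_map_ofScheme]

end Groth.Agent.H3.AlgSpProp
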