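import Mathlib
import Groth.Agent.Lib.Helper3.AlgSpProp.GeomPoint
import Groth.Prelude.Def_AlgSpOX3

set_option autoImplicit false
set_option linter.unusedSectionVars false
set_option backward.isDefEq.respectTransparency false

universe u

open CategoryTheory CategoryTheory.Limits AlgebraicGeometry MorphismProperty Opposite Topology

namespace Groth.Agent.H3.AlgSpProp

open _root_.AlgSp Groth.Agent.H5.AlgSp

variable {S : Scheme.{u}} {X : Sp S}

/-- A geometric point lifts through a jointly surjective family in the small étale site. -/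
theorem exists_lift_etNbhd (p : FieldPt X) (hp : p.IsGeometric)
    (N : EtNbhd p) {ι : Type*} (Ui : ι → EtOver X) (g : ∀ i, Ui i ⟶ N.1)
    (hcov : Presieve.ofArrows Ui g ∈ etPre X N.1) :
    ∃ (i : ι) (ui : (FieldPt.liftsTo p).obj (Ui i)), (FieldPt.liftsTo p).map (g i) ui = N.2 := by
  have : IsAlgClosed p.K := hp
  rw [ofArrows_mem_etPre_iff] at hcov
  obtain ⟨i, y, hy⟩ := hcov (N.2.1.left (default : ↥(Spec (CommRingCat.of p.K))))
  have : Etale (g i).hom.left.left := EtOver.etale_left (g i)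
  obtain ⟨l, hl1, hl2⟩ := Scheme.exists_fac_of_etale_of_isSepClosed (g i).hom.left.left
    N.2.1.left y hy
  have hw : l ≫ (Ui i).obj.left.hom = p.str := by
    have h1 := Over.w (g i).hom.left
    have h2 := Over.w N.2.1
    change _ = p.str at h2
    rw [← h2, ← hl1, Category.assoc, h1]
  let ui : p.pt ⟶ (Ui i).obj.left := Over.homMk l hw
  have hui : ui ≫ (g i).hom.left = N.2.1 := Over.OverMorphism.ext hl1
  refine ⟨i, ⟨ui, ?_⟩, Subtype.ext hui⟩
  rw [← EtOver.w (g i), ← Category.assoc, ← Functor.map_comp, hui]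
  exact N.2.2

/-- The graph of a morphism in the small étale site. -/
noncomputable def graph {E₁ E₂ : EtOver X} (f : E₁ ⟶ E₂) : E₁ ⟶ EtOver.prodObj E₁ E₂ :=
  (EtOver.prodIsLimit E₁ E₂).lift (BinaryFan.mk (𝟙 E₁) f)

lemma graph_fst {E₁ E₂ : EtOver X} (f : E₁ ⟶ E₂) : graph f ≫ EtOver.prodFst E₁ E₂ = 𝟙 _ :=
  (EtOver.prodIsLimit E₁ E₂).fac (BinaryFan.mk (𝟙 E₁) f) ⟨WalkingPair.left⟩

lemma graph_snd {E₁ E₂ : EtOver X} (f : E₁ ⟶ E₂) : graph f ≫ EtOver.prodSnd E₁ E₂ = f :=
  (EtOver.prodIsLimit E₁ E₂).fac (BinaryFan.mk (𝟙 E₁) f) ⟨WalkingPair.right⟩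

/-- The étale neighbourhoods of a geometric point of an algebraic space form a cofiltered
category. -/
theorem isCofiltered_etNbhd (hX : IsAlgSpace X) (p : FieldPt X) (hp : p.IsGeometric) :
    IsCofiltered (EtNbhd p) := by
  have hne : Nonempty (EtNbhd p) := by
    obtain ⟨U, a, hae, has⟩ := hX.atlas
    obtain ⟨u, hu⟩ := ofPt_surjective_of_repWith has (Points.mk p)
    obtain ⟨ubar, h1, -⟩ := exists_lift_geometric_point (IsAlgSpace.yon_obj U) a
      (isEtaleMor_of_repWith a hae) p hp (Points.ofScheme U u)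
      (by rw [← Points.ofPt_eq_map_ofScheme, hu])
    obtain ⟨u', hu'⟩ := (yon S).map_surjective ubar
    exact ⟨⟨EtOver.mk a hae, ⟨u', by rw [hu']; exact h1⟩⟩⟩
  refine { cone_objs := ?_, cone_maps := ?_, nonempty := hne }
  · rintro ⟨E₁, u₁⟩ ⟨E₂, u₂⟩
    let l : p.pt ⟶ (EtOver.prodObj E₁ E₂).obj.left :=
      E₂.property.1.lift' u₂.1 u₁.1 (by rw [u₁.2, u₂.2])
    have hl1 : l ≫ (EtOver.prodFst E₁ E₂).hom.left = u₁.1 :=
      Functor.relativelyRepresentable.lift'_snd _ _ _ _
    have hl2 : l ≫ (EtOver.prodSnd E₁ E₂).hom.left = u₂.1 :=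
      Functor.relativelyRepresentable.lift'_fst _ _ _ _
    have hl : (yon S).map l ≫ (EtOver.prodObj E₁ E₂).obj.hom = p.toHom := by
      rw [← EtOver.w (EtOver.prodFst E₁ E₂), ← Category.assoc, ← Functor.map_comp, hl1]
      exact u₁.2
    exact ⟨⟨EtOver.prodObj E₁ E₂, ⟨l, hl⟩⟩, ⟨EtOver.prodFst E₁ E₂, Subtype.ext hl1⟩,
      ⟨EtOver.prodSnd E₁ E₂, Subtype.ext hl2⟩, trivial⟩
  · rintro ⟨E₁, u₁⟩ ⟨E₂, u₂⟩ ⟨f, hf⟩ ⟨g, hg⟩
    have hf' : u₁.1 ≫ f.hom.left = u₂.1 := congrArg Subtype.val hf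
    have hg' : u₁.1 ≫ g.hom.left = u₂.1 := congrArg Subtype.val hg
    have hgr : u₁.1 ≫ (graph f).hom.left = u₁.1 ≫ (graph g).hom.left := by
      apply Functor.relativelyRepresentable.hom_ext' E₂.property.1
      · have e1 : (graph f).hom.left ≫ (EtOver.prodSnd E₁ E₂).hom.left = f.hom.left :=
          congrArg (fun k => k.hom.left) (graph_snd f)
        have e2 : (graph g).hom.left ≫ (EtOver.prodSnd E₁ E₂).hom.left = g.hom.left :=
          congrArg (fun k => k.hom.left) (graph_snd g)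
        change (u₁.1 ≫ (graph f).hom.left) ≫ (EtOver.prodSnd E₁ E₂).hom.left =
          (u₁.1 ≫ (graph g).hom.left) ≫ (EtOver.prodSnd E₁ E₂).hom.left
        rw [Category.assoc, Category.assoc, e1, e2, hf', hg']
      · have e1 : (graph f).hom.left ≫ (EtOver.prodFst E₁ E₂).hom.left = 𝟙 _ :=
          congrArg (fun k => k.hom.left) (graph_fst f)
        have e2 : (graph g).hom.left ≫ (EtOver.prodFst E₁ E₂).hom.left = 𝟙 _ :=
          congrArg (fun k => k.hom.left) (graph_fst g)
        change (u₁.1 ≫ (graph f).hom.left) ≫ (EtOver.prodFst E₁ E₂).hom.left =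
          (u₁.1 ≫ (graph g).hom.left) ≫ (EtOver.prodFst E₁ E₂).hom.left
        rw [Category.assoc, Category.assoc, e1, e2]
    let l : p.pt ⟶ (EtOver.pullbackObj (graph f) (graph g)).obj.left :=
      pullback.lift u₁.1 u₁.1 hgr
    have hl1 : l ≫ (EtOver.pullbackFst (graph f) (graph g)).hom.left = u₁.1 :=
      pullback.lift_fst _ _ _
    have hl : (yon S).map l ≫ (EtOver.pullbackObj (graph f) (graph g)).obj.hom = p.toHom := by
      rw [← EtOver.w (EtOver.pullbackFst (graph f) (graph g)), ← Category.assoc,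
        ← Functor.map_comp, hl1]
      exact u₁.2
    have hπ : EtOver.pullbackFst (graph f) (graph g) = EtOver.pullbackSnd (graph f) (graph g) := by
      have := congrArg (fun k => k ≫ EtOver.prodFst E₁ E₂) (EtOver.pullback_condition (graph f) (graph g))
      simpa only [Category.assoc, graph_fst, Category.comp_id] using this
    refine ⟨⟨EtOver.pullbackObj (graph f) (graph g), ⟨l, hl⟩⟩,
      ⟨EtOver.pullbackFst (graph f) (graph g), Subtype.ext hl1⟩, ?_⟩
    apply Subtype.ext
    change EtOver.pullbackFst (graph f) (graph g) ≫ f = EtOver.pullbackFst (graph f) (graph g) ≫ g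
    have := congrArg (fun k => k ≫ EtOver.prodSnd E₁ E₂) (EtOver.pullback_condition (graph f) (graph g))
    simp only [Category.assoc, graph_snd] at this
    rw [this, hπ]

end Groth.Agent.H3.AlgSpProp
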