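import Mathlib
import Groth.Agent.Lib.Helper3.AlgSpProp.EtNbhd

set_option autoImplicit false
set_option linter.unusedSectionVars false
set_option backward.isDefEq.respectTransparency false

universe u

open CategoryTheory CategoryTheory.Limits AlgebraicGeometry MorphismProperty Opposite Topology

namespace Groth.Agent.H3.AlgSpProp

open _root_.AlgSp Groth.Agent.H5.AlgSp

variable {S : Scheme.{u}} {X : Sp S}

/-- Covering sieves of the small étale site are jointly surjective on lifts of a geometric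
point. -/
theorem liftsTo_jointly_surjective (p : FieldPt X) (hp : p.IsGeometric) {E : EtOver X}
    (R : Sieve E) (h : R ∈ etTop X E) (x : (FieldPt.liftsTo p).obj E) :
    ∃ (Y : EtOver X) (f : Y ⟶ E) (_ : R f) (y : (FieldPt.liftsTo p).obj Y),
      (FieldPt.liftsTo p).map f y = x := by
  unfold etTop at h
  rw [Precoverage.mem_toGrothendieck_iff_of_isStableUnderComposition] at h
  obtain ⟨R₀, hR₀, hle⟩ := h
  obtain ⟨ι, V, g, rfl⟩ := R₀.exists_eq_ofArrows
  obtain ⟨i, ui, hui⟩ := exists_lift_etNbhd p hp ⟨E, x⟩ V g hR₀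
  exact ⟨V i, g i, hle _ _ (Presieve.ofArrows.mk i), ui, hui⟩

/-- A geometric point of an algebraic space lifts to any atlas. -/
theorem nonempty_liftsTo_of_surjective (p : FieldPt X) (hp : p.IsGeometric) {U : Over S}
    (a : (yon S).obj U ⟶ X) (hae : RepWith @Etale a) (has : RepWith @Surjective a) :
    Nonempty ((FieldPt.liftsTo p).obj (EtOver.mk a hae)) := by
  obtain ⟨u, hu⟩ := ofPt_surjective_of_repWith has (Points.mk p)
  obtain ⟨ubar, h1, -⟩ := exists_lift_geometric_point (IsAlgSpace.yon_obj U) a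
    (isEtaleMor_of_repWith a hae) p hp (Points.ofScheme U u)
    (by rw [← Points.ofPt_eq_map_ofScheme, hu])
  obtain ⟨u', hu'⟩ := (yon S).map_surjective ubar
  exact ⟨⟨u', by rw [hu']; exact h1⟩⟩

theorem initiallySmall_etNbhd (hX : IsAlgSpace X) (p : FieldPt X) (hp : p.IsGeometric) :
    InitiallySmall.{u} (EtNbhd p) := by
  have := isCofiltered_etNbhd hX p hp
  obtain ⟨U₀, a₀, ha₀, hs₀⟩ := hX.atlas
  obtain ⟨u₀⟩ := nonempty_liftsTo_of_surjective p hp a₀ ha₀ hs₀
  let E₀ : EtOver X := EtOver.mk a₀ ha₀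
  let Φ : U₀.left.AffineEtale ⥤ EtOver X :=
    Scheme.AffineEtale.Spec U₀.left ⋙ EtOver.ofChart a₀ ha₀
  refine initiallySmall_of_essentiallySmall_weakly_initial_objectProperty
    (Functor.Elements.precomp Φ (FieldPt.liftsTo p)).essImage ?_
  rintro ⟨E, u⟩
  -- the product neighbourhood
  let l : p.pt ⟶ (EtOver.prodObj E E₀).obj.left :=
    E₀.property.1.lift' u₀.1 u.1 (by rw [u.2, u₀.2])
  have hl1 : l ≫ (EtOver.prodFst E E₀).hom.left = u.1 :=
    Functor.relativelyRepresentable.lift'_snd _ _ _ _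
  have hl2 : l ≫ (EtOver.prodSnd E E₀).hom.left = u₀.1 :=
    Functor.relativelyRepresentable.lift'_fst _ _ _ _
  have hπ₂ : Etale (EtOver.prodSnd E E₀).hom.left.left := EtOver.etale_left _
  -- an affine open neighbourhood of the point
  obtain ⟨R, j, _, y', hy'⟩ : ∃ (R : CommRingCat.{u}) (j : Spec R ⟶ (EtOver.prodObj E E₀).obj.left.left)
      (_ : IsOpenImmersion j) (y' : Spec (CommRingCat.of p.K) ⟶ Spec R), y' ≫ j = l.left := by
    obtain ⟨R, j, _, hj, _⟩ := Scheme.exists_affine_mem_range_and_range_subset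
      (x := l.left (default : ↥(Spec (CommRingCat.of p.K)))) (U := ⊤) (by simp)
    refine ⟨R, j, inferInstance, _, IsOpenImmersion.lift_fac j l.left ?_⟩
    rintro _ ⟨a, rfl⟩
    have ha : a = (default : ↥(Spec (CommRingCat.of p.K))) :=
      Subsingleton.elim (α := ↥(Spec (CommRingCat.of p.K))) _ _
    rw [ha]
    exact hj
  let A : U₀.left.AffineEtale := Scheme.AffineEtale.mk (j ≫ (EtOver.prodSnd E E₀).hom.left.left)
  have hw1 := Over.w (EtOver.prodFst E E₀).hom.left
  have hw2 := Over.w (EtOver.prodSnd E E₀).hom.left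
  have hwu := Over.w u.1
  have hwu₀ := Over.w u₀.1
  have hll1 : l.left ≫ (EtOver.prodFst E E₀).hom.left.left = u.1.left :=
    congrArg (fun k => k.left) hl1
  have hll2 : l.left ≫ (EtOver.prodSnd E E₀).hom.left.left = u₀.1.left :=
    congrArg (fun k => k.left) hl2
  -- the lift of the point
  let yA : p.pt ⟶ (Φ.obj A).obj.left := Over.homMk y' (by
    change y' ≫ (j ≫ (EtOver.prodSnd E E₀).hom.left.left) ≫ U₀.hom = p.str
    rw [← Category.assoc, ← Category.assoc, hy', hll2]
    exact hwu₀)
  have hyA : (yon S).map yA ≫ (Φ.obj A).obj.hom = p.toHom := by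
    change (yon S).map yA ≫ (yon S).map (EtOver.homOfEtale _) ≫ a₀ = p.toHom
    rw [← Category.assoc, ← Functor.map_comp]
    have : yA ≫ EtOver.homOfEtale ((Scheme.AffineEtale.Spec U₀.left).obj A) = u₀.1 := by
      apply Over.OverMorphism.ext
      change y' ≫ j ≫ (EtOver.prodSnd E E₀).hom.left.left = u₀.1.left
      rw [← Category.assoc, hy', hll2]
    rw [this]
    exact u₀.2
  let jW : (Φ.obj A).obj.left ⟶ (EtOver.prodObj E E₀).obj.left := Over.homMk j (by
    change j ≫ (EtOver.prodObj E E₀).obj.left.hom = (j ≫ (EtOver.prodSnd E E₀).hom.left.left) ≫ U₀.hom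
    rw [Category.assoc]
    congr 1
    exact hw2.symm)
  have hjW2 : jW ≫ (EtOver.prodSnd E E₀).hom.left =
      EtOver.homOfEtale ((Scheme.AffineEtale.Spec U₀.left).obj A) :=
    Over.OverMorphism.ext rfl
  let m : Φ.obj A ⟶ E := EtOver.homMk (jW ≫ (EtOver.prodFst E E₀).hom.left) (by
    change _ = (yon S).map (EtOver.homOfEtale _) ≫ a₀
    rw [← hjW2, Functor.map_comp, Functor.map_comp, Category.assoc, Category.assoc,
      EtOver.w (EtOver.prodFst E E₀)]
    congr 1
    exact (EtOver.w (EtOver.prodSnd E E₀)).symm)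
  refine ⟨(Functor.Elements.precomp Φ (FieldPt.liftsTo p)).obj ⟨A, ⟨yA, hyA⟩⟩,
    ⟨_, ⟨Iso.refl _⟩⟩, ⟨⟨m, Subtype.ext ?_⟩⟩⟩
  apply Over.OverMorphism.ext
  change y' ≫ j ≫ (EtOver.prodFst E E₀).hom.left.left = u.1.left
  rw [← Category.assoc, hy', hll1]

/-- The point of the small étale site of an algebraic space defined by a geometric point. -/
noncomputable def etPoint (hX : IsAlgSpace X) (p : FieldPt X) (hp : p.IsGeometric) :
    GrothendieckTopology.Point.{u} (etTop X) where
  fiber := FieldPt.liftsTo p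
  isCofiltered := isCofiltered_etNbhd hX p hp
  initiallySmall := initiallySmall_etNbhd hX p hp
  jointly_surjective R h x := liftsTo_jointly_surjective p hp R h x

@[simp] lemma etPoint_fiber (hX : IsAlgSpace X) (p : FieldPt X) (hp : p.IsGeometric) :
    (etPoint hX p hp).fiber = FieldPt.liftsTo p := rfl

section

variable (hX : IsAlgSpace X) (p : FieldPt X) (hp : p.IsGeometric)
  (A : Type (u + 2)) [Category.{u + 1} A] [HasColimitsOfSize.{u, u} A]
  [HasColimitsOfShape (EtNbhd p)ᵒᵖ A]

theorem etPoint_presheafFiber_eq :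
    (etPoint hX p hp).presheafFiber (A := A) = stalkEtPshFunctor A p := rfl

theorem etPoint_sheafFiber_eq :
    (etPoint hX p hp).sheafFiber (A := A) = stalkEtFunctor A p := rfl

end

theorem ab5TypeSucc : AB5OfSize.{u, u} (Type (u + 1)) :=
  AB5OfSize_shrink.{u, u, u + 1, u + 1} (Type (u + 1))

theorem ab5AbSucc : AB5OfSize.{u, u} (AddCommGrpCat.{u + 1}) :=
  AB5OfSize_shrink.{u, u, u + 1, u + 1} (AddCommGrpCat.{u + 1})

section

variable (hX : IsAlgSpace X) (p : FieldPt X) (hp : p.IsGeometric)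

attribute [local instance] ab5TypeSucc ab5AbSucc

include hX hp

theorem preservesFiniteLimits_stalkEtPshFunctor_type :
    PreservesFiniteLimits (stalkEtPshFunctor (Type (u + 1)) p) := by
  rw [← etPoint_presheafFiber_eq hX p hp (Type (u + 1))]
  infer_instance

theorem preservesFiniteLimits_stalkEtPshFunctor_ab :
    PreservesFiniteLimits (stalkEtPshFunctor AddCommGrpCat.{u + 1} p) := by
  rw [← etPoint_presheafFiber_eq hX p hp AddCommGrpCat.{u + 1}]
  infer_instance

theorem preservesFiniteLimits_stalkEtFunctor_type :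
    PreservesFiniteLimits (stalkEtFunctor (Type (u + 1)) p) := by
  rw [← etPoint_sheafFiber_eq hX p hp (Type (u + 1))]
  infer_instance

theorem preservesFiniteLimits_stalkEtFunctor_ab :
    PreservesFiniteLimits (stalkEtFunctor AddCommGrpCat.{u + 1} p) := by
  rw [← etPoint_sheafFiber_eq hX p hp AddCommGrpCat.{u + 1}]
  infer_instance

theorem preservesFiniteColimits_stalkEtFunctor_type :
    PreservesFiniteColimits (stalkEtFunctor (Type (u + 1)) p) := by
  rw [← etPoint_sheafFiber_eq hX p hp (Type (u + 1))]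
  infer_instance

theorem preservesFiniteColimits_stalkEtFunctor_ab :
    PreservesFiniteColimits (stalkEtFunctor AddCommGrpCat.{u + 1} p) := by
  rw [← etPoint_sheafFiber_eq hX p hp AddCommGrpCat.{u + 1}]
  infer_instance

theorem preservesFiniteColimits_stalkEtPshFunctor_ab :
    PreservesFiniteColimits (stalkEtPshFunctor AddCommGrpCat.{u + 1} p) := by
  rw [← etPoint_presheafFiber_eq hX p hp AddCommGrpCat.{u + 1}]
  have : PreservesColimitsOfSize.{u, u}
      ((etPoint hX p hp).presheafFiber (A := AddCommGrpCat.{u + 1})) := inferInstance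
  exact PreservesColimitsOfSize.preservesFiniteColimits _

theorem isIso_stalkEtPshFunctor_map_toSheafify (P : (EtOver X)ᵒᵖ ⥤ Type (u + 1)) :
    IsIso ((stalkEtPshFunctor (Type (u + 1)) p).map (toSheafify (etTop X) P)) := by
  rw [← etPoint_presheafFiber_eq hX p hp (Type (u + 1))]
  infer_instance

end

end Groth.Agent.H3.AlgSpProp
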