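import Mathlib
import Groth.Agent.Lib.Helper3.AlgSpProp.EtPoint

set_option autoImplicit false
set_option linter.unusedSectionVars false
set_option backward.isDefEq.respectTransparency false

universe u

open CategoryTheory CategoryTheory.Limits AlgebraicGeometry MorphismProperty Opposite Topology

namespace Groth.Agent.H3.AlgSpProp

open _root_.AlgSp Groth.Agent.H5.AlgSp

variable {S : Scheme.{u}} {X : Sp S}

/-- Every point of a scheme étale over `X` is the image of a lift of a geometric point of `X`. -/
theorem exists_geometric_lift (E : EtOver X) (e : ↥E.obj.left.left) :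
    ∃ (p : FieldPt X) (_ : p.IsGeometric) (l : (FieldPt.liftsTo p).obj E),
      l.1.left (IsLocalRing.closedPoint p.K) = e := by
  let κ := E.obj.left.left.residueField e
  let K := AlgebraicClosure κ
  let g : Spec (CommRingCat.of K) ⟶ E.obj.left.left :=
    Spec.map (CommRingCat.ofHom (algebraMap κ K)) ≫ E.obj.left.left.fromSpecResidueField e
  let str : Spec (CommRingCat.of K) ⟶ S := g ≫ E.obj.left.hom
  let l₀ : Over.mk str ⟶ E.obj.left := Over.homMk g rfl
  let p : FieldPt X := fpOfHom str ((yon S).map l₀ ≫ E.obj.hom)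
  have hp : p.IsGeometric := inferInstanceAs (IsAlgClosed K)
  have htoHom : p.toHom = (yon S).map l₀ ≫ E.obj.hom :=
    (yEquiv X (Over.mk str)).symm_apply_apply _
  refine ⟨p, hp, ⟨l₀, htoHom.symm⟩, ?_⟩
  change g (IsLocalRing.closedPoint K) = e
  rw [Scheme.Hom.comp_apply]
  exact Scheme.fromSpecResidueField_apply _ _

section Concrete

variable (hX : IsAlgSpace X) {A : Type (u + 2)} [Category.{u + 1} A] [HasColimitsOfSize.{u, u} A]
  {FC : A → A → Type*} {CC : A → Type (u + 1)} [∀ X Y, FunLike (FC X Y) (CC X) (CC Y)]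
  [ConcreteCategory.{u + 1} A FC] [PreservesFilteredColimitsOfSize.{u, u} (forget A)]

include hX

/-- **Enough geometric points, separatedness form.** Two sections of a separated presheaf with the
same germs at all geometric points are equal. -/
theorem eq_of_forall_germ_eq {P : (EtOver X)ᵒᵖ ⥤ A} (hsep : Presheaf.IsSeparated (etTop X) P)
    {E : EtOver X} (s t : ToType (P.obj (op E)))
    (h : ∀ (p : FieldPt X) (hp : p.IsGeometric) (l : (FieldPt.liftsTo p).obj E),
      (etPoint hX p hp).toPresheafFiber E l P s = (etPoint hX p hp).toPresheafFiber E l P t) :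
    s = t := by
  have key : ∀ e : ↥E.obj.left.left, ∃ (Y : EtOver X) (f : Y ⟶ E),
      P.map f.op s = P.map f.op t ∧ e ∈ Set.range f.hom.left.left := by
    intro e
    obtain ⟨p, hp, l, hl⟩ := exists_geometric_lift E e
    obtain ⟨Y, f, y, hy, hst⟩ := ((etPoint hX p hp).toPresheafFiber_eq_iff' E l s t).1 (h p hp l)
    refine ⟨Y, f, hst, y.1.left (IsLocalRing.closedPoint p.K), ?_⟩
    rw [← hl, ← hy]
    rfl
  choose Y f hf1 hf2 using key
  refine hsep E (Sieve.ofArrows Y f) (ofArrows_mem_etTop Y f fun e => ⟨e, hf2 e⟩) s t ?_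
  rintro Z g ⟨W, a, b, ⟨e⟩, rfl⟩
  rw [op_comp, P.map_comp, ConcreteCategory.comp_apply, ConcreteCategory.comp_apply, hf1]

/-- **Enough geometric points, local surjectivity form.** -/
theorem isLocallySurjective_of_forall_stalk_surjective {P Q : (EtOver X)ᵒᵖ ⥤ A} (a : P ⟶ Q)
    (h : ∀ (p : FieldPt X) (hp : p.IsGeometric),
      Function.Surjective ((etPoint hX p hp).presheafFiber.map a)) :
    Presheaf.IsLocallySurjective (etTop X) a := by
  refine ⟨fun {E} t => ?_⟩
  have key : ∀ e : ↥E.obj.left.left, ∃ (Y : EtOver X) (f : Y ⟶ E),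
      Presheaf.imageSieve a t f ∧ e ∈ Set.range f.hom.left.left := by
    intro e
    obtain ⟨p, hp, l, hl⟩ := exists_geometric_lift E e
    let Φ := etPoint hX p hp
    obtain ⟨σ, hσ⟩ := h p hp (Φ.toPresheafFiber E l Q t)
    obtain ⟨E', l', s', rfl⟩ := Φ.toPresheafFiber_jointly_surjective σ
    rw [Φ.toPresheafFiber_naturality_apply] at hσ
    -- common refinement
    have : IsCofiltered Φ.fiber.Elements := Φ.isCofiltered
    let N : Φ.fiber.Elements := IsCofiltered.min (⟨E, l⟩ : Φ.fiber.Elements) ⟨E', l'⟩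
    let m₁ : N ⟶ ⟨E, l⟩ := IsCofiltered.minToLeft _ _
    let m₂ : N ⟶ ⟨E', l'⟩ := IsCofiltered.minToRight _ _
    have h1 : Φ.toPresheafFiber E l Q t = Φ.toPresheafFiber N.1 N.2 Q (Q.map m₁.1.op t) := by
      rw [Φ.toPresheafFiber_w_apply, m₁.2]
    have h2 : Φ.toPresheafFiber E' l' Q (a.app _ s') =
        Φ.toPresheafFiber N.1 N.2 Q (Q.map m₂.1.op (a.app _ s')) := by
      rw [Φ.toPresheafFiber_w_apply, m₂.2]
    rw [h1, h2] at hσ
    obtain ⟨Y, g, y, hy, hst⟩ := (Φ.toPresheafFiber_eq_iff' N.1 N.2 _ _).1 hσ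
    refine ⟨Y, g ≫ m₁.1, ⟨P.map (g ≫ m₂.1).op s', ?_⟩, y.1.left (IsLocalRing.closedPoint p.K), ?_⟩
    · rw [NatTrans.naturality_apply, op_comp, Q.map_comp, ConcreteCategory.comp_apply, hst,
        op_comp, Q.map_comp, ConcreteCategory.comp_apply]
    · rw [← hl]
      have e1 : ((FieldPt.liftsTo p).map m₁.1 N.2).1 = l.1 := congrArg Subtype.val m₁.2
      have e2 : ((FieldPt.liftsTo p).map g y).1 = N.2.1 := congrArg Subtype.val hy
      rw [FieldPt.liftsTo_map_coe] at e1 e2
      have e3 : l.1 = y.1 ≫ (g ≫ m₁.1).hom.left := by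
        rw [← e1, ← e2, Category.assoc]
        rfl
      rw [e3]
      rfl
  choose Y f hf1 hf2 using key
  refine (etTop X).superset_covering ?_ (ofArrows_mem_etTop Y f fun e => ⟨e, hf2 e⟩)
  rw [Sieve.ofArrows, Sieve.generate_le_iff]
  rintro _ _ ⟨e⟩
  exact hf1 e

end Concrete

section TypeValued

variable (hX : IsAlgSpace X) {F G : EtSh X (Type (u + 1))} (a : F ⟶ G)

include hX

theorem mono_iff_stalk_injective :
    Mono a ↔ ∀ p : FieldPt X, p.IsGeometric →
      Function.Injective ((stalkEtFunctor (Type (u + 1)) p).map a) := by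
  constructor
  · intro _ p hp
    have := preservesFiniteLimits_stalkEtFunctor_type hX p hp
    exact (mono_iff_injective _).1 inferInstance
  · intro h
    have hinj : ∀ E : (EtOver X)ᵒᵖ, Function.Injective (a.hom.app E) := by
      rintro ⟨E⟩ s t hst
      refine eq_of_forall_germ_eq hX (Sheaf.isSeparated F) s t fun p hp l => ?_
      apply h p hp
      change (etPoint hX p hp).presheafFiber.map a.hom ((etPoint hX p hp).toPresheafFiber E l F.obj s) =
        (etPoint hX p hp).presheafFiber.map a.hom ((etPoint hX p hp).toPresheafFiber E l F.obj t)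
      rw [(etPoint hX p hp).toPresheafFiber_naturality_apply,
        (etPoint hX p hp).toPresheafFiber_naturality_apply, hst]
    have : ∀ E, Mono (a.hom.app E) := fun E => (mono_iff_injective _).2 (hinj E)
    have : Mono a.hom := NatTrans.mono_of_mono_app _
    exact (sheafToPresheaf _ _).mono_of_mono_map this

theorem epi_iff_stalk_surjective :
    Epi a ↔ ∀ p : FieldPt X, p.IsGeometric →
      Function.Surjective ((stalkEtFunctor (Type (u + 1)) p).map a) := by
  constructor
  · intro _ p hp
    have := preservesFiniteColimits_stalkEtFunctor_type hX p hp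
    exact (epi_iff_surjective _).1 inferInstance
  · intro h
    have : Presheaf.IsLocallySurjective (etTop X) a.hom :=
      isLocallySurjective_of_forall_stalk_surjective hX a.hom fun p hp => h p hp
    have : Sheaf.IsLocallySurjective a := this
    infer_instance

end TypeValued

end Groth.Agent.H3.AlgSpProp
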