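import Mathlib
import Groth.Agent.Lib.Helper3.AlgSpProp.EnoughPoints
import Groth.Prelude.Def_AlgSpOX

set_option autoImplicit false
set_option linter.unusedSectionVars false
set_option backward.isDefEq.respectTransparency false

universe u

open CategoryTheory CategoryTheory.Limits AlgebraicGeometry MorphismProperty Opposite Topology

namespace Groth.Agent.H3.AlgSpProp

open _root_.AlgSp Groth.Agent.H5.AlgSp

variable {S : Scheme.{u}} {X : Sp S}

theorem preservesFilteredColimits_forget_ab :
    PreservesFilteredColimitsOfSize.{u, u} (forget AddCommGrpCat.{u + 1}) :=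
  preservesFilteredColimitsOfSize_shrink.{u, u + 1, u, u + 1} (forget AddCommGrpCat.{u + 1})

attribute [local instance] preservesFilteredColimits_forget_ab ab5AbSucc ab5TypeSucc

section Ab

variable (hX : IsAlgSpace X)

include hX

/-- An abelian sheaf all of whose stalks at geometric points vanish is zero. -/
theorem isZero_of_forall_isZero_stalk (H : AbEt X)
    (h : ∀ p : FieldPt X, p.IsGeometric → IsZero ((stalkEtFunctor AddCommGrpCat.{u + 1} p).obj H)) :
    IsZero H := by
  rw [IsZero.iff_id_eq_zero]
  ext E x
  change x = 0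
  obtain ⟨E⟩ := E
  refine eq_of_forall_germ_eq hX (Sheaf.isSeparated H) x 0 fun p hp l => ?_
  have : Subsingleton ↥((stalkEtFunctor AddCommGrpCat.{u + 1} p).obj H) :=
    AddCommGrpCat.subsingleton_of_isZero (h p hp)
  exact Subsingleton.elim (α := ↥((stalkEtFunctor AddCommGrpCat.{u + 1} p).obj H)) _ _

theorem mono_stalk_map_ab {F G : AbEt X} (a : F ⟶ G) [Mono a] (p : FieldPt X)
    (hp : p.IsGeometric) : Mono ((stalkEtFunctor AddCommGrpCat.{u + 1} p).map a) := by
  have := preservesFiniteLimits_stalkEtFunctor_ab hX p hp
  have : (stalkEtFunctor AddCommGrpCat.{u + 1} p).PreservesMonomorphisms :=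
    preservesMonomorphisms_of_preservesLimitsOfShape _
  exact Functor.map_mono _ a

theorem epi_stalk_map_ab {F G : AbEt X} (a : F ⟶ G) [Epi a] (p : FieldPt X)
    (hp : p.IsGeometric) : Epi ((stalkEtFunctor AddCommGrpCat.{u + 1} p).map a) := by
  have := preservesFiniteColimits_stalkEtFunctor_ab hX p hp
  have : (stalkEtFunctor AddCommGrpCat.{u + 1} p).PreservesEpimorphisms :=
    preservesEpimorphisms_of_preservesColimitsOfShape _
  exact Functor.map_epi _ a

/-- **Exactness of abelian sheaves on the small étale site is detected on stalks.** -/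
theorem exact_iff_stalk (C : ShortComplex (AbEt X)) :
    C.Exact ↔ ∀ p : FieldPt X, p.IsGeometric →
      ∀ y : ↥((stalkEtFunctor AddCommGrpCat.{u + 1} p).obj C.X₂),
        ((stalkEtFunctor AddCommGrpCat.{u + 1} p).map C.g) y = 0 →
          ∃ x : ↥((stalkEtFunctor AddCommGrpCat.{u + 1} p).obj C.X₁),
            ((stalkEtFunctor AddCommGrpCat.{u + 1} p).map C.f) x = y := by
  constructor
  · intro hC p hp
    have := preservesFiniteLimits_stalkEtFunctor_ab hX p hp
    have := preservesFiniteColimits_stalkEtFunctor_ab hX p hp
    have : (stalkEtFunctor AddCommGrpCat.{u + 1} p).PreservesZeroMorphisms := inferInstance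
    have : (stalkEtFunctor AddCommGrpCat.{u + 1} p).PreservesHomology := inferInstance
    exact (ShortComplex.ab_exact_iff _).1 (hC.map (stalkEtFunctor AddCommGrpCat.{u + 1} p))
  · intro h
    rw [ShortComplex.exact_iff_isZero_homology]
    apply isZero_of_forall_isZero_stalk hX
    intro p hp
    have := preservesFiniteLimits_stalkEtFunctor_ab hX p hp
    have := preservesFiniteColimits_stalkEtFunctor_ab hX p hp
    have : (stalkEtFunctor AddCommGrpCat.{u + 1} p).PreservesZeroMorphisms := inferInstance
    have : (stalkEtFunctor AddCommGrpCat.{u + 1} p).PreservesHomology := inferInstance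
    have hex : (C.map (stalkEtFunctor AddCommGrpCat.{u + 1} p)).Exact :=
      (ShortComplex.ab_exact_iff _).2 (h p hp)
    rw [ShortComplex.exact_iff_isZero_homology] at hex
    exact IsZero.of_iso hex (C.mapHomologyIso (stalkEtFunctor AddCommGrpCat.{u + 1} p)).symm

end Ab

end Groth.Agent.H3.AlgSpProp
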