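import Mathlib
import Groth.Agent.Lib.Helper3.AlgSpProp.StalkExact

set_option autoImplicit false
set_option linter.unusedSectionVars false
set_option backward.isDefEq.respectTransparency false

universe u

open CategoryTheory CategoryTheory.Limits AlgebraicGeometry MorphismProperty Opposite Topology

namespace Groth.Agent.H3.AlgSpProp

open _root_.AlgSp Groth.Agent.H5.AlgSp

variable {S : Scheme.{u}} {X : Sp S}

attribute [local instance] preservesFilteredColimits_forget_ab ab5AbSucc ab5TypeSucc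

/-- The point of `X` under a lift of a field point to a scheme étale over `X`. -/
theorem ofPt_lift_closedPoint (p : FieldPt X) {E : EtOver X} (l : (FieldPt.liftsTo p).obj E) :
    Points.ofPt E.obj.hom (l.1.left (IsLocalRing.closedPoint p.K)) = Points.mk p := by
  rw [← ofPt_yon_map_comp, l.2, Points.ofPt_toHom]

/-- The set of points of `U` near which the section `σ` vanishes. -/
def vanishingSet (F : AbEt X) {U : EtOver X} (σ : ↥(F.obj.obj (op U))) : Set ↥U.obj.left.left :=
  {u | ∃ (V : EtOver X) (φ : V ⟶ U), (F.obj.map φ.op).hom σ = 0 ∧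
    u ∈ Set.range φ.hom.left.left}

theorem isOpen_vanishingSet (F : AbEt X) {U : EtOver X} (σ : ↥(F.obj.obj (op U))) :
    IsOpen (vanishingSet F σ) := by
  rw [isOpen_iff_forall_mem_open]
  rintro u ⟨V, φ, hφ, hu⟩
  have : Etale φ.hom.left.left := EtOver.etale_left φ
  exact ⟨Set.range φ.hom.left.left, fun u' hu' => ⟨V, φ, hφ, hu'⟩,
    φ.hom.left.left.isOpenMap.isOpen_range, hu⟩

theorem map_eq_zero_iff (F : AbEt X) {U : EtOver X} (σ : ↥(F.obj.obj (op U)))
    {V : EtOver X} (φ : V ⟶ U) :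
    (F.obj.map φ.op).hom σ = 0 ↔
      Set.range (fun v => φ.hom.left.left v) ⊆ vanishingSet F σ := by
  constructor
  · rintro h _ ⟨v, rfl⟩
    exact ⟨V, φ, h, v, rfl⟩
  · intro h
    have key : ∀ v : ↥V.obj.left.left, ∃ (Y : EtOver X) (f : Y ⟶ V),
        (F.obj.map f.op).hom ((F.obj.map φ.op).hom σ) = 0 ∧ v ∈ Set.range f.hom.left.left := by
      intro v
      obtain ⟨V', ψ, hψ, w, hw⟩ := h ⟨v, rfl⟩
      have sq := (EtOver.isPullback φ ψ).map (EtOver.toScheme X)
      obtain ⟨z, hz1, -⟩ := Scheme.exists_preimage_of_isPullback sq v w hw.symm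
      refine ⟨EtOver.pullbackObj φ ψ, EtOver.pullbackFst φ ψ, ?_, z, hz1⟩
      have e1 : (F.obj.map (EtOver.pullbackFst φ ψ).op).hom ((F.obj.map φ.op).hom σ) =
          (F.obj.map (EtOver.pullbackSnd φ ψ).op).hom ((F.obj.map ψ.op).hom σ) := by
        rw [← AddCommGrpCat.comp_apply, ← AddCommGrpCat.comp_apply, ← F.obj.map_comp,
          ← F.obj.map_comp, ← op_comp, ← op_comp, EtOver.pullback_condition]
      rw [e1, hψ, map_zero]
    choose Y f hf1 hf2 using key
    refine Sheaf.isSeparated F V (Sieve.ofArrows Y f)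
      (ofArrows_mem_etTop Y f fun v => ⟨v, hf2 v⟩) _ 0 ?_
    rintro Z g ⟨W, a, b, ⟨v⟩, rfl⟩
    rw [op_comp, F.obj.map_comp, ConcreteCategory.comp_apply, ConcreteCategory.comp_apply]
    have := hf1 v
    change (ConcreteCategory.hom (F.obj.map (f v).op)) _ = 0 at this
    rw [this, map_zero, map_zero, map_zero]

/-- A lift of a geometric point lifts further along a morphism of the small étale site through any
point of the fibre. -/
theorem exists_lift_through (p : FieldPt X) (hp : p.IsGeometric) {V U : EtOver X} (φ : V ⟶ U)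
    (l : (FieldPt.liftsTo p).obj U) (v : ↥V.obj.left.left)
    (hv : φ.hom.left.left v = l.1.left (IsLocalRing.closedPoint p.K)) :
    ∃ y : (FieldPt.liftsTo p).obj V, (FieldPt.liftsTo p).map φ y = l ∧
      y.1.left (IsLocalRing.closedPoint p.K) = v := by
  have : IsAlgClosed p.K := hp
  have : Etale φ.hom.left.left := EtOver.etale_left φ
  have hdef : (default : ↥(Spec (CommRingCat.of p.K))) = IsLocalRing.closedPoint p.K :=
    Subsingleton.elim (α := ↥(Spec (CommRingCat.of p.K))) _ _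
  obtain ⟨l', hl1, hl2⟩ := Scheme.exists_fac_of_etale_of_isSepClosed φ.hom.left.left
    l.1.left v (by rw [hdef]; exact hv)
  rw [hdef] at hl2
  have hw : l' ≫ V.obj.left.hom = p.str := by
    have h1 := Over.w φ.hom.left
    have h2 := Over.w l.1
    change _ = p.str at h2
    rw [← h2, ← hl1, Category.assoc, h1]
  let y : p.pt ⟶ V.obj.left := Over.homMk l' hw
  have hy : y ≫ φ.hom.left = l.1 := Over.OverMorphism.ext hl1
  refine ⟨⟨y, ?_⟩, Subtype.ext hy, hl2⟩
  rw [← EtOver.w φ, ← Category.assoc, ← Functor.map_comp, hy]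
  exact l.2

theorem germ_eq_zero_iff (hX : IsAlgSpace X) (F : AbEt X) {U : EtOver X}
    (σ : ↥(F.obj.obj (op U))) (p : FieldPt X) (hp : p.IsGeometric)
    (l : (FieldPt.liftsTo p).obj U) :
    (stalkEtι p F ⟨U, l⟩).hom σ = 0 ↔
      l.1.left (IsLocalRing.closedPoint p.K) ∈ vanishingSet F σ := by
  let Φ := etPoint hX p hp
  have e0 : (stalkEtι p F ⟨U, l⟩).hom σ = Φ.toPresheafFiber U l F.obj σ := rfl
  rw [e0]
  constructor
  · intro h
    have h' : Φ.toPresheafFiber U l F.obj σ = Φ.toPresheafFiber U l F.obj 0 := by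
      rw [h, map_zero]
    obtain ⟨Y, f, y, hy, hst⟩ := (Φ.toPresheafFiber_eq_iff' U l σ 0).1 h'
    refine ⟨Y, f, ?_, y.1.left (IsLocalRing.closedPoint p.K), ?_⟩
    · rw [map_zero] at hst
      exact hst
    · have e1 : ((FieldPt.liftsTo p).map f y).1 = l.1 := congrArg Subtype.val hy
      rw [FieldPt.liftsTo_map_coe] at e1
      rw [← e1]
      rfl
  · rintro ⟨V, φ, hφ, v, hv⟩
    obtain ⟨y, hy, -⟩ := exists_lift_through p hp φ l v hv
    have e1 : Φ.toPresheafFiber U l F.obj σ =
        Φ.toPresheafFiber V y F.obj (F.obj.map φ.op σ) := by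
      rw [Φ.toPresheafFiber_w_apply]
      have hy' : Φ.fiber.map φ y = l := hy
      rw [hy']
    rw [e1]
    have : (F.obj.map φ.op) σ = 0 := hφ
    rw [this, map_zero]

theorem exists_stalk_ne_zero_iff (hX : IsAlgSpace X) (F : AbEt X) (x : Points X) :
    (∃ p : FieldPt X, p.IsGeometric ∧ Points.mk p = x ∧ ¬ IsZero (stalkEt p F)) ↔
      ∃ (U : EtOver X) (σ : ↥(F.obj.obj (op U))) (u : ↥U.obj.left.left),
        Points.ofPt U.obj.hom u = x ∧
          ∀ (V : EtOver X) (φ : V ⟶ U), (F.obj.map φ.op).hom σ = 0 →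
            u ∉ Set.range (fun v => φ.hom.left.left v) := by
  constructor
  · rintro ⟨p, hp, rfl, hF⟩
    have hne : ∃ τ : ↥(stalkEt p F), τ ≠ 0 := by
      by_contra hcon
      apply hF
      have : Subsingleton ↥(stalkEt p F) :=
        ⟨fun a b => (not_not.1 (not_exists.1 hcon a)).trans (not_not.1 (not_exists.1 hcon b)).symm⟩
      exact AddCommGrpCat.isZero_of_subsingleton _
    obtain ⟨τ, hτ⟩ := hne
    obtain ⟨U, l, σ, rfl⟩ := (etPoint hX p hp).toPresheafFiber_jointly_surjective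
      (P := F.obj) τ
    refine ⟨U, σ, l.1.left (IsLocalRing.closedPoint p.K), ofPt_lift_closedPoint p l,
      fun V φ hφ hu => hτ ?_⟩
    exact (germ_eq_zero_iff hX F σ p hp l).2 ⟨V, φ, hφ, hu⟩
  · rintro ⟨U, σ, u, rfl, h⟩
    obtain ⟨p, hp, l, hl⟩ := exists_geometric_lift U u
    refine ⟨p, hp, ?_, fun hF => ?_⟩
    · rw [← hl, ofPt_lift_closedPoint]
    · have : Subsingleton ↥(stalkEt p F) := AddCommGrpCat.subsingleton_of_isZero hF
      have h0 : (stalkEtι p F ⟨U, l⟩).hom σ = 0 := Subsingleton.elim (α := ↥(stalkEt p F)) _ _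
      obtain ⟨V, φ, hφ, hu⟩ := (germ_eq_zero_iff hX F σ p hp l).1 h0
      rw [hl] at hu
      exact h V φ hφ hu

end Groth.Agent.H3.AlgSpProp
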