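import Groth.Agent.Lib.Helper3.AlgSpProp.EtNbhd
import Groth.Agent.Lib.Helper3.AlgSpProp.FieldMono
import Groth.Agent.Lib.Helper3.AlgSpProp.Vanishing
import Groth.Agent.Lib.Helper5.AlgSp.Decent

set_option autoImplicit false
set_option linter.unusedSectionVars false

universe u

open CategoryTheory CategoryTheory.Limits AlgebraicGeometry MorphismProperty Opposite Topology

namespace Groth.Agent.H3.ElemNbhd

open _root_.AlgSp Groth.Agent.H5.AlgSp Groth.Agent.H3.AlgSpProp

variable {S : Scheme.{u}} {X : Sp S}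

/-- the canonical lift `Spec κ(u) ⟶ U` of the field point defined by `u`. -/
noncomputable def canLift {U : Over S} (a : (yon S).obj U ⟶ X) (u : ↥U.left) :
    (FieldPt.ofPt a u).pt ⟶ U :=
  Over.homMk (U.left.fromSpecResidueField u) rfl

lemma canLift_toHom {U : Over S} (a : (yon S).obj U ⟶ X) (u : ↥U.left) :
    (yon S).map (canLift a u) ≫ a = (FieldPt.ofPt a u).toHom := by
  apply (J S).uliftYonedaEquiv.injective
  rw [FieldPt.uliftYonedaEquiv_toHom]
  rfl

lemma canLift_left_apply {U : Over S} (a : (yon S).obj U ⟶ X) (u : ↥U.left)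
    (z : ↥(FieldPt.ofPt a u).pt.left) : (canLift a u).left z = u :=
  Scheme.fromSpecResidueField_apply _ _

/-- a lift of a field point `p` to `U` factors through the residue field of the image point. -/
theorem exists_factor_canLift (p : FieldPt X) {U : Over S} (a : (yon S).obj U ⟶ X)
    (l : p.pt ⟶ U) (hl : (yon S).map l ≫ a = p.toHom) (u : ↥U.left)
    (hu : l.left (IsLocalRing.closedPoint p.K) = u) :
    ∃ d : p.pt ⟶ (FieldPt.ofPt a u).pt, d ≫ canLift a u = l ∧
      (yon S).map d ≫ (FieldPt.ofPt a u).toHom = p.toHom := by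
  subst hu
  let f : Spec (CommRingCat.of p.K) ⟶ U.left := l.left
  have h1 : Spec.map (Scheme.descResidueField (Scheme.stalkClosedPointTo f)) ≫
      U.left.fromSpecResidueField (f (IsLocalRing.closedPoint p.K)) = f :=
    Scheme.descResidueField_stalkClosedPointTo_fromSpecResidueField p.K U.left f
  have hw : Spec.map (Scheme.descResidueField (Scheme.stalkClosedPointTo f)) ≫
      (FieldPt.ofPt a (f (IsLocalRing.closedPoint p.K))).str = p.str := by
    change _ ≫ (U.left.fromSpecResidueField _ ≫ U.hom) = p.str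
    rw [← Category.assoc, h1]
    exact Over.w l
  let d : p.pt ⟶ (FieldPt.ofPt a (f (IsLocalRing.closedPoint p.K))).pt :=
    CategoryTheory.Over.homMk (U := p.pt)
      (V := (FieldPt.ofPt a (f (IsLocalRing.closedPoint p.K))).pt)
      (Spec.map (Scheme.descResidueField (Scheme.stalkClosedPointTo f))) hw
  have hd : d ≫ canLift a (f (IsLocalRing.closedPoint p.K)) = l :=
    Over.OverMorphism.ext h1
  refine ⟨d, hd, ?_⟩
  rw [← canLift_toHom, ← Category.assoc, ← Functor.map_comp, hd, hl]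

/-- a morphism from a monomorphic field point to an equivalent field point, compatible with the
maps to `X`, is an isomorphism, and the target is monomorphic as well. -/
theorem isIso_of_mono_of_factor (hX : IsAlgSpace X) (p q : FieldPt X) [Mono p.toHom]
    (h : Points.mk p = Points.mk q) (d : p.pt ⟶ q.pt)
    (hd : (yon S).map d ≫ q.toHom = p.toHom) : IsIso d ∧ Mono q.toHom := by
  obtain ⟨c, hc, -⟩ := existsUnique_factor_of_mono_fieldPt hX p q h
  have hdc : d ≫ c = 𝟙 p.pt := by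
    apply (yon S).map_injective
    rw [← cancel_mono p.toHom, Functor.map_comp, Category.assoc, hc, hd,
      CategoryTheory.Functor.map_id, Category.id_comp]
  let dl : Spec (CommRingCat.of p.K) ⟶ Spec (CommRingCat.of q.K) := d.left
  let cl : Spec (CommRingCat.of q.K) ⟶ Spec (CommRingCat.of p.K) := c.left
  have hdcl : dl ≫ cl = 𝟙 _ := congrArg (fun k => k.left) hdc
  let δ : CommRingCat.of q.K ⟶ CommRingCat.of p.K := Spec.preimage dl
  let γ : CommRingCat.of p.K ⟶ CommRingCat.of q.K := Spec.preimage cl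
  have hγδ : γ ≫ δ = 𝟙 _ := by
    apply Spec.map_injective
    rw [Spec.map_comp, Spec.map_preimage, Spec.map_preimage, hdcl, Spec.map_id]
  have hsurj : Function.Surjective δ.hom := by
    intro x
    refine ⟨γ.hom x, ?_⟩
    have := congrArg (fun k => k.hom x) hγδ
    exact this
  have hinj : Function.Injective δ.hom := δ.hom.injective
  have hδ : IsIso δ := (ConcreteCategory.isIso_iff_bijective δ).mpr ⟨hinj, hsurj⟩
  have hdl : IsIso dl := by
    have : dl = Spec.map δ := (Spec.map_preimage dl).symm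
    rw [this]; infer_instance
  have hdiso : IsIso d :=
    have : IsIso ((Over.forget S).map d) := hdl
    isIso_of_reflects_iso _ (Over.forget S)
  refine ⟨hdiso, ?_⟩
  have hq : q.toHom = (yon S).map (inv d) ≫ p.toHom := by
    rw [← hd, ← Category.assoc, ← Functor.map_comp, IsIso.inv_hom_id,
      CategoryTheory.Functor.map_id, Category.id_comp]
  rw [hq]
  exact mono_comp _ _

/-- two étale neighbourhoods of a field point are dominated by a third. -/
theorem exists_prod_nbhd (p : FieldPt X) (N₁ N₂ : EtNbhd p) :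
    ∃ (N : EtNbhd p) (_ : N ⟶ N₁) (_ : N ⟶ N₂), True := by
  obtain ⟨E₁, u₁⟩ := N₁
  obtain ⟨E₂, u₂⟩ := N₂
  let l : p.pt ⟶ (EtOver.prodObj E₁ E₂).obj.left :=
    E₂.property.1.lift' u₂.1 u₁.1 (by rw [u₁.2, u₂.2])
  have hl1 : l ≫ (EtOver.prodFst E₁ E₂).hom.left = u₁.1 :=
    Functor.relativelyRepresentable.lift'_snd _ _ _ _
  have hl2 : l ≫ (EtOver.prodSnd E₁ E₂).hom.left = u₂.1 :=
    Functor.relativelyRepresentable.lift'_fst _ _ _ _
  have hl : (yon S).map l ≫ (EtOver.prodObj E₁ E₂).obj.hom = p.toHom := by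
    rw [← EtOver.w (EtOver.prodFst E₁ E₂), ← Category.assoc, ← Functor.map_comp, hl1]
    exact u₁.2
  exact ⟨⟨EtOver.prodObj E₁ E₂, ⟨l, hl⟩⟩, ⟨EtOver.prodFst E₁ E₂, Subtype.ext hl1⟩,
    ⟨EtOver.prodSnd E₁ E₂, Subtype.ext hl2⟩, trivial⟩

/-- two parallel morphisms of étale neighbourhoods of a field point are equalized by a third. -/
theorem exists_eq_nbhd (p : FieldPt X) {N₁ N₂ : EtNbhd p} (f g : N₁ ⟶ N₂) :
    ∃ (N : EtNbhd p) (h : N ⟶ N₁), h ≫ f = h ≫ g := by
  obtain ⟨E₁, u₁⟩ := N₁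
  obtain ⟨E₂, u₂⟩ := N₂
  obtain ⟨f, hf⟩ := f
  obtain ⟨g, hg⟩ := g
  have hf' : u₁.1 ≫ f.hom.left = u₂.1 := congrArg Subtype.val hf
  have hg' : u₁.1 ≫ g.hom.left = u₂.1 := congrArg Subtype.val hg
  have hgr : u₁.1 ≫ (graph f).hom.left = u₁.1 ≫ (graph g).hom.left := by
    apply Functor.relativelyRepresentable.hom_ext' E₂.property.1
    · have e1 : (graph f).hom.left ≫ (EtOver.prodSnd E₁ E₂).hom.left = f.hom.left :=
        congrArg (fun k => k.hom.left) (graph_snd f)
      have e2 : (graph g).hom.left ≫ (EtOver.prodSnd E₁ E₂).hom.left = g.hom.left :=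
        congrArg (fun k => k.hom.left) (graph_snd g)
      change (u₁.1 ≫ (graph f).hom.left) ≫ (EtOver.prodSnd E₁ E₂).hom.left =
        (u₁.1 ≫ (graph g).hom.left) ≫ (EtOver.prodSnd E₁ E₂).hom.left
      rw [Category.assoc, Category.assoc, e1, e2, hf', hg']
    · have e1 : (graph f).hom.left ≫ (EtOver.prodFst E₁ E₂).hom.left = 𝟙 _ :=
        congrArg (fun k => k.hom.left) (graph_fst f)
      have e2 : (graph g).hom.left ≫ (EtOver.prodFst E₁ E₂).hom.left = 𝟙 _ :=
        congrArg (fun k => k.hom.left) (graph_fst g)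
      change (u₁.1 ≫ (graph f).hom.left) ≫ (EtOver.prodFst E₁ E₂).hom.left =
        (u₁.1 ≫ (graph g).hom.left) ≫ (EtOver.prodFst E₁ E₂).hom.left
      rw [Category.assoc, Category.assoc, e1, e2]
  let l : p.pt ⟶ (EtOver.pullbackObj (graph f) (graph g)).obj.left :=
    pullback.lift u₁.1 u₁.1 hgr
  have hl1 : l ≫ (EtOver.pullbackFst (graph f) (graph g)).hom.left = u₁.1 :=
    pullback.lift_fst _ _ _
  have hl : (yon S).map l ≫ (EtOver.pullbackObj (graph f) (graph g)).obj.hom = p.toHom := by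
    rw [← EtOver.w (EtOver.pullbackFst (graph f) (graph g)), ← Category.assoc,
      ← Functor.map_comp, hl1]
    exact u₁.2
  have hπ : EtOver.pullbackFst (graph f) (graph g) = EtOver.pullbackSnd (graph f) (graph g) := by
    have := congrArg (fun k => k ≫ EtOver.prodFst E₁ E₂)
      (EtOver.pullback_condition (graph f) (graph g))
    simpa only [Category.assoc, graph_fst, Category.comp_id] using this
  refine ⟨⟨EtOver.pullbackObj (graph f) (graph g), ⟨l, hl⟩⟩,
    ⟨EtOver.pullbackFst (graph f) (graph g), Subtype.ext hl1⟩, ?_⟩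
  apply Subtype.ext
  change EtOver.pullbackFst (graph f) (graph g) ≫ f = EtOver.pullbackFst (graph f) (graph g) ≫ g
  have := congrArg (fun k => k ≫ EtOver.prodSnd E₁ E₂)
    (EtOver.pullback_condition (graph f) (graph g))
  simp only [Category.assoc, graph_snd] at this
  rw [this, hπ]

section Elem

variable (hX : IsAlgSpace X)

include hX

/-- an elementary étale neighbourhood of the point of a monomorphic field point `p` receives a
lift of `p` through the chosen point. -/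
theorem exists_lift_of_isElemEtaleNbhd (p : FieldPt X) [Mono p.toHom] {U : Over S}
    {a : (yon S).obj U ⟶ X} {u : ↥U.left} (h : IsElemEtaleNbhd a u (Points.mk p)) :
    ∃ l : (FieldPt.liftsTo p).obj (EtOver.mk a h.etale),
      l.1.left (IsLocalRing.closedPoint p.K) = u := by
  have := h.mono
  obtain ⟨c, hc, -⟩ := existsUnique_factor_of_mono_fieldPt hX (FieldPt.ofPt a u) p h.ofPt_eq
  refine ⟨⟨c ≫ canLift a u, ?_⟩, ?_⟩
  · change (yon S).map (c ≫ canLift a u) ≫ a = p.toHom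
    rw [Functor.map_comp, Category.assoc, canLift_toHom, hc]
  · change (canLift a u).left (c.left (IsLocalRing.closedPoint p.K)) = u
    exact canLift_left_apply a u _

/-- an étale neighbourhood of a monomorphic field point is an elementary étale neighbourhood of
its point. -/
theorem isElemEtaleNbhd_of_lift (p : FieldPt X) [Mono p.toHom] (E : EtOver X)
    (l : (FieldPt.liftsTo p).obj E) :
    IsElemEtaleNbhd E.obj.hom (l.1.left (IsLocalRing.closedPoint p.K)) (Points.mk p) := by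
  have hpt := ofPt_lift_closedPoint p l
  obtain ⟨d, -, hd⟩ := exists_factor_canLift p E.obj.hom l.1 l.2 _ rfl
  exact ⟨E.property, hpt, (isIso_of_mono_of_factor hX p _ hpt.symm d hd).2⟩

/-- **elementary étale neighbourhoods are cofiltered, part 1**. -/
theorem exists_common_refinement (x : Points X) {U₁ U₂ : Over S}
    (a₁ : (yon S).obj U₁ ⟶ X) (a₂ : (yon S).obj U₂ ⟶ X) (u₁ : ↥U₁.left) (u₂ : ↥U₂.left)
    (h₁ : IsElemEtaleNbhd a₁ u₁ x) (h₂ : IsElemEtaleNbhd a₂ u₂ x) :
    ∃ (U : Over S) (a : (yon S).obj U ⟶ X) (v : ↥U.left) (k₁ : U ⟶ U₁) (k₂ : U ⟶ U₂),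
      IsElemEtaleNbhd a v x ∧ (yon S).map k₁ ≫ a₁ = a ∧ (yon S).map k₂ ≫ a₂ = a ∧
        k₁.left v = u₁ ∧ k₂.left v = u₂ := by
  obtain rfl : Points.mk (FieldPt.ofPt a₁ u₁) = x := h₁.ofPt_eq
  have := h₁.mono
  set p := FieldPt.ofPt a₁ u₁ with hp
  obtain ⟨l₁, hl₁⟩ := exists_lift_of_isElemEtaleNbhd hX p h₁
  obtain ⟨l₂, hl₂⟩ := exists_lift_of_isElemEtaleNbhd hX p h₂
  obtain ⟨N, f₁, f₂, -⟩ := exists_prod_nbhd p ⟨EtOver.mk a₁ h₁.etale, l₁⟩
    ⟨EtOver.mk a₂ h₂.etale, l₂⟩
  refine ⟨N.1.obj.left, N.1.obj.hom, N.2.1.left (IsLocalRing.closedPoint p.K),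
    f₁.1.hom.left, f₂.1.hom.left, isElemEtaleNbhd_of_lift hX p N.1 N.2, EtOver.w f₁.1,
    EtOver.w f₂.1, ?_, ?_⟩
  · have := congrArg (fun t => t.1.left (IsLocalRing.closedPoint p.K)) f₁.2
    exact this.trans hl₁
  · have := congrArg (fun t => t.1.left (IsLocalRing.closedPoint p.K)) f₂.2
    exact this.trans hl₂

/-- **elementary étale neighbourhoods are cofiltered, part 2**. -/
theorem exists_equalizing_refinement (x : Points X) {U₁ U₂ : Over S}
    (a₁ : (yon S).obj U₁ ⟶ X) (a₂ : (yon S).obj U₂ ⟶ X) (u₁ : ↥U₁.left) (u₂ : ↥U₂.left)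
    (b c : U₁ ⟶ U₂) (h₁ : IsElemEtaleNbhd a₁ u₁ x) (h₂ : IsElemEtaleNbhd a₂ u₂ x)
    (hb : (yon S).map b ≫ a₂ = a₁) (hc : (yon S).map c ≫ a₂ = a₁)
    (hbu : b.left u₁ = u₂) (hcu : c.left u₁ = u₂) :
    ∃ (U : Over S) (a : (yon S).obj U ⟶ X) (v : ↥U.left) (k : U ⟶ U₁),
      IsElemEtaleNbhd a v x ∧ (yon S).map k ≫ a₁ = a ∧ k.left v = u₁ ∧ k ≫ b = k ≫ c := by
  obtain rfl : Points.mk (FieldPt.ofPt a₁ u₁) = x := h₁.ofPt_eq
  have := h₁.mono
  have := h₂.mono
  set p := FieldPt.ofPt a₁ u₁ with hp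
  let l₁ : (FieldPt.liftsTo p).obj (EtOver.mk a₁ h₁.etale) :=
    ⟨canLift a₁ u₁, canLift_toHom a₁ u₁⟩
  have hl₁ : l₁.1.left (IsLocalRing.closedPoint p.K) = u₁ := canLift_left_apply a₁ u₁ _
  -- the two composites to `U₂` agree
  have hlb : (yon S).map (canLift a₁ u₁ ≫ b) ≫ a₂ = p.toHom := by
    rw [Functor.map_comp, Category.assoc, hb, canLift_toHom]
  have hlc : (yon S).map (canLift a₁ u₁ ≫ c) ≫ a₂ = p.toHom := by
    rw [Functor.map_comp, Category.assoc, hc, canLift_toHom]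
  obtain ⟨db, hdb1, hdb2⟩ := exists_factor_canLift p a₂ (canLift a₁ u₁ ≫ b) hlb u₂ (by
    change b.left ((canLift a₁ u₁).left _) = u₂
    rw [canLift_left_apply, hbu])
  obtain ⟨dc, hdc1, hdc2⟩ := exists_factor_canLift p a₂ (canLift a₁ u₁ ≫ c) hlc u₂ (by
    change c.left ((canLift a₁ u₁).left _) = u₂
    rw [canLift_left_apply, hcu])
  have hdd : db = dc := by
    apply (yon S).map_injective
    rw [← cancel_mono (FieldPt.ofPt a₂ u₂).toHom, hdb2, hdc2]
  have hbc : canLift a₁ u₁ ≫ b = canLift a₁ u₁ ≫ c := by rw [← hdb1, ← hdc1, hdd]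
  let E₁ : EtOver X := EtOver.mk a₁ h₁.etale
  let E₂ : EtOver X := EtOver.mk a₂ h₂.etale
  let l₂ : (FieldPt.liftsTo p).obj E₂ := ⟨canLift a₁ u₁ ≫ b, hlb⟩
  let fb : E₁ ⟶ E₂ := EtOver.homMk b hb
  let fc : E₁ ⟶ E₂ := EtOver.homMk c hc
  let N₁ : EtNbhd p := ⟨E₁, l₁⟩
  let N₂ : EtNbhd p := ⟨E₂, l₂⟩
  let Fb : N₁ ⟶ N₂ := ⟨fb, rfl⟩
  let Fc : N₁ ⟶ N₂ := ⟨fc, Subtype.ext hbc.symm⟩
  obtain ⟨N, k, hk⟩ := exists_eq_nbhd p Fb Fc
  refine ⟨N.1.obj.left, N.1.obj.hom, N.2.1.left (IsLocalRing.closedPoint p.K),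
    k.1.hom.left, isElemEtaleNbhd_of_lift hX p N.1 N.2, EtOver.w k.1, ?_, ?_⟩
  · have := congrArg (fun t => t.1.left (IsLocalRing.closedPoint p.K)) k.2
    exact this.trans hl₁
  · have := congrArg (fun t => t.1.hom.left) hk
    exact this

end Elem

end Groth.Agent.H3.ElemNbhd
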