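import Groth.Agent.Lib.Helper3.AlgSpProp.ElemNbhd
import Groth.Agent.Lib.Helper5.AlgSp.AffineChart
import Groth.Prelude.Def_Hens2

set_option autoImplicit false
set_option linter.unusedSectionVars false

universe u

open CategoryTheory CategoryTheory.Limits AlgebraicGeometry MorphismProperty Opposite Topology

namespace Groth.Agent.H3.ElemNbhd

open _root_.AlgSp Groth.Agent.H5.AlgSp Groth.Agent.H3.AlgSpProp

variable {S : Scheme.{u}} {X : Sp S}

/-- the morphism `Spec κ(v) ⟶ Spec κ(k v)` induced by a morphism `k : U ⟶ U₁` over `X`. -/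
noncomputable def resHom {U U₁ : Over S} (a₁ : (yon S).obj U₁ ⟶ X) (k : U ⟶ U₁) (v : ↥U.left) :
    (FieldPt.ofPt ((yon S).map k ≫ a₁) v).pt ⟶ (FieldPt.ofPt a₁ (k.left v)).pt :=
  Over.homMk (Spec.map (k.left.residueFieldMap v)) (by
    change Spec.map (k.left.residueFieldMap v) ≫ (U₁.left.fromSpecResidueField _ ≫ U₁.hom) =
      U.left.fromSpecResidueField v ≫ U.hom
    rw [← Category.assoc, Scheme.Hom.SpecMap_residueFieldMap_fromSpecResidueField,
      Category.assoc, Over.w k])

lemma resHom_canLift {U U₁ : Over S} (a₁ : (yon S).obj U₁ ⟶ X) (k : U ⟶ U₁) (v : ↥U.left) :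
    resHom a₁ k v ≫ canLift a₁ (k.left v) = canLift ((yon S).map k ≫ a₁) v ≫ k :=
  Over.OverMorphism.ext (Scheme.Hom.SpecMap_residueFieldMap_fromSpecResidueField k.left v)

lemma resHom_toHom {U U₁ : Over S} (a₁ : (yon S).obj U₁ ⟶ X) (k : U ⟶ U₁) (v : ↥U.left) :
    (yon S).map (resHom a₁ k v) ≫ (FieldPt.ofPt a₁ (k.left v)).toHom =
      (FieldPt.ofPt ((yon S).map k ≫ a₁) v).toHom := by
  rw [← canLift_toHom, ← Category.assoc, ← Functor.map_comp, resHom_canLift, Functor.map_comp,
    Category.assoc, canLift_toHom]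

lemma bijective_residueFieldMap_of_isIso_resHom {U U₁ : Over S} (a₁ : (yon S).obj U₁ ⟶ X)
    (k : U ⟶ U₁) (v : ↥U.left) (h : IsIso (resHom a₁ k v)) :
    Function.Bijective (k.left.residueFieldMap v) := by
  have h1 : IsIso ((Over.forget S).map (resHom a₁ k v)) := inferInstance
  have h2 : IsIso (Spec.map (k.left.residueFieldMap v)) := h1
  have h3 : IsIso (k.left.residueFieldMap v) := by
    have : IsIso (Scheme.Spec.map (k.left.residueFieldMap v).op) := h2
    have := isIso_of_reflects_iso (k.left.residueFieldMap v).op Scheme.Spec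
    exact isIso_of_op _
  exact (ConcreteCategory.isIso_iff_bijective _).mp h3

lemma isIso_resHom_of_bijective {U U₁ : Over S} (a₁ : (yon S).obj U₁ ⟶ X)
    (k : U ⟶ U₁) (v : ↥U.left) (h : Function.Bijective (k.left.residueFieldMap v)) :
    IsIso (resHom a₁ k v) := by
  have h3 : IsIso (k.left.residueFieldMap v) := (ConcreteCategory.isIso_iff_bijective _).mpr h
  have h2 : IsIso (Spec.map (k.left.residueFieldMap v)) := inferInstance
  have : IsIso ((Over.forget S).map (resHom a₁ k v)) := h2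
  exact isIso_of_reflects_iso _ (Over.forget S)

/-- a morphism of elementary étale neighbourhoods is an elementary étale neighbourhood of
schemes. -/
theorem isEtaleNbhd_of_isElemEtaleNbhd (hX : IsAlgSpace X) (x : Points X) {U U₁ : Over S}
    (a₁ : (yon S).obj U₁ ⟶ X) (k : U ⟶ U₁) (v : ↥U.left)
    (h : IsElemEtaleNbhd ((yon S).map k ≫ a₁) v x) (h₁ : IsElemEtaleNbhd a₁ (k.left v) x) :
    Hens2.IsEtaleNbhd k.left v (k.left v) := by
  refine ⟨?_, rfl, ?_⟩
  · let f : EtOver.mk ((yon S).map k ≫ a₁) h.etale ⟶ EtOver.mk a₁ h₁.etale := EtOver.homMk k rfl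
    exact EtOver.etale_left f
  · have := h.mono
    have hpts : Points.mk (FieldPt.ofPt ((yon S).map k ≫ a₁) v) =
        Points.mk (FieldPt.ofPt a₁ (k.left v)) := h.ofPt_eq.trans h₁.ofPt_eq.symm
    exact bijective_residueFieldMap_of_isIso_resHom a₁ k v
      (isIso_of_mono_of_factor hX _ _ hpts (resHom a₁ k v) (resHom_toHom a₁ k v)).1

/-- an elementary étale neighbourhood (of schemes) of an elementary étale neighbourhood of `(X, x)`
is an elementary étale neighbourhood of `(X, x)`. -/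
theorem isElemEtaleNbhd_of_isEtaleNbhd (x : Points X) {U U₁ : Over S}
    (a₁ : (yon S).obj U₁ ⟶ X) (k : U ⟶ U₁) (v : ↥U.left)
    (h₁ : IsElemEtaleNbhd a₁ (k.left v) x) (hk : Hens2.IsEtaleNbhd k.left v (k.left v)) :
    IsElemEtaleNbhd ((yon S).map k ≫ a₁) v x := by
  have := hk.etale
  refine ⟨repWith_comp_yon_map @Etale k hk.etale h₁.etale, ?_, ?_⟩
  · rw [← h₁.ofPt_eq]
    exact ofPt_yon_map_comp _ _ _
  · have := h₁.mono
    have hiso := isIso_resHom_of_bijective a₁ k v hk.residue_bijective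
    rw [← resHom_toHom a₁ k v]
    exact mono_comp _ _

end Groth.Agent.H3.ElemNbhd
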