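import Mathlib
import Groth.Agent.Lib.Helper5.AlgSp.PointsTop
import Groth.Prelude.Def_AlgSpEt

set_option autoImplicit false
set_option linter.unusedSectionVars false
set_option backward.isDefEq.respectTransparency false

universe u

open CategoryTheory CategoryTheory.Limits AlgebraicGeometry MorphismProperty Opposite Topology

namespace Groth.Agent.H3.AlgSpProp

open _root_.AlgSp Groth.Agent.H5.AlgSp

variable {S : Scheme.{u}} {X Y : Sp S} (f : X ⟶ Y) (hf : IsEtaleMor f)

/-- The image of the fibre product square of the small étale site of `X` is a fibre product square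
in the small étale site of `Y`. -/
noncomputable def postcompPullbackIsLimit {E₁ E₂ E₀ : EtOver X} (g₁ : E₁ ⟶ E₀) (g₂ : E₂ ⟶ E₀) :
    IsLimit (PullbackCone.mk ((EtOver.postcomp f hf).map (EtOver.pullbackFst g₁ g₂))
      ((EtOver.postcomp f hf).map (EtOver.pullbackSnd g₁ g₂))
      (by rw [← Functor.map_comp, ← Functor.map_comp, EtOver.pullback_condition])) :=
  PullbackCone.IsLimit.mk _
    (fun s => EtOver.homMk (pullback.lift s.fst.hom.left s.snd.hom.left
        (congrArg (fun k => k.hom.left) s.condition)) (by
      change (yon S).map _ ≫ ((yon S).map _ ≫ E₁.obj.hom) ≫ f = s.pt.obj.hom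
      rw [← Category.assoc, ← Category.assoc, ← Functor.map_comp, pullback.lift_fst, Category.assoc]
      exact EtOver.w s.fst))
    (fun s => EtOver.hom_ext _ _ (pullback.lift_fst _ _ _))
    (fun s => EtOver.hom_ext _ _ (pullback.lift_snd _ _ _))
    (fun s m h₁ h₂ => EtOver.hom_ext _ _ (pullback.hom_ext
      ((congrArg (fun k => k.hom.left) h₁).trans (pullback.lift_fst _ _ _).symm)
      ((congrArg (fun k => k.hom.left) h₂).trans (pullback.lift_snd _ _ _).symm)))

instance preservesLimit_cospan_postcomp {E₁ E₂ E₀ : EtOver X} (g₁ : E₁ ⟶ E₀) (g₂ : E₂ ⟶ E₀) :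
    PreservesLimit (cospan g₁ g₂) (EtOver.postcomp f hf) :=
  preservesLimit_of_preserves_limit_cone (EtOver.pullbackIsLimit g₁ g₂)
    ((isLimitMapConePullbackConeEquiv _ _).symm (postcompPullbackIsLimit f hf g₁ g₂))

instance preservesPullbacks_postcomp :
    PreservesLimitsOfShape WalkingCospan (EtOver.postcomp f hf) where
  preservesLimit {K} := preservesLimit_of_iso_diagram _ (diagramIsoCospan K).symm

theorem postcomp_isContinuous :
    (EtOver.postcomp f hf).IsContinuous (etTop X) (etTop Y) := by
  unfold etTop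
  exact Functor.isContinuous_toGrothendieck_of_pullbacksPreservedBy (EtOver.postcomp f hf)
    (etPre X) (etPre Y) (le_of_eq (by
      unfold etPre
      exact Precoverage.comap_comp (EtOver.postcomp f hf) (EtOver.toScheme Y) Scheme.etalePrecoverage))

/-- An object of the small étale site of `Y` over `j(E)` comes from the small étale site of `X`. -/
noncomputable def liftObj {E : EtOver X} {V : EtOver Y} (g : V ⟶ (EtOver.postcomp f hf).obj E) :
    EtOver X :=
  EtOver.mk ((yon S).map g.hom.left ≫ E.obj.hom)
    ((repWith_isMultiplicative (S := S) @Etale).comp_mem _ _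
      ((repWith_yon_map_iff _ _).2 (EtOver.etale_left g)) E.property)

noncomputable def liftHom {E : EtOver X} {V : EtOver Y} (g : V ⟶ (EtOver.postcomp f hf).obj E) :
    liftObj f hf g ⟶ E :=
  EtOver.homMk g.hom.left rfl

theorem postcomp_isCocontinuous :
    (EtOver.postcomp f hf).IsCocontinuous (etTop X) (etTop Y) := by
  refine ⟨fun {E} T hT => ?_⟩
  unfold etTop at hT
  rw [Precoverage.mem_toGrothendieck_iff_of_isStableUnderComposition] at hT
  obtain ⟨R, hR, hle⟩ := hT
  obtain ⟨ι, V, g, rfl⟩ := R.exists_eq_ofArrows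
  rw [ofArrows_mem_etPre_iff] at hR
  have hcov : Sieve.ofArrows (fun i => liftObj f hf (g i)) (fun i => liftHom f hf (g i)) ∈
      etTop X E := ofArrows_mem_etTop _ _ hR
  refine (etTop X).superset_covering ?_ hcov
  rw [Sieve.ofArrows, Sieve.generate_le_iff]
  rintro _ _ ⟨i⟩
  change T ((EtOver.postcomp f hf).map (liftHom f hf (g i)))
  have hfac : (EtOver.postcomp f hf).map (liftHom f hf (g i)) =
      (EtOver.homMk (𝟙 _) (by
        change (yon S).map (𝟙 _) ≫ (V i).obj.hom = ((yon S).map (g i).hom.left ≫ E.obj.hom) ≫ f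
        rw [CategoryTheory.Functor.map_id, Category.id_comp, Category.assoc]
        exact (EtOver.w (g i)).symm) :
        (EtOver.postcomp f hf).obj (liftObj f hf (g i)) ⟶ V i) ≫ g i := by
    apply EtOver.hom_ext
    change (g i).hom.left = 𝟙 _ ≫ (g i).hom.left
    rw [Category.id_comp]
  rw [hfac]
  exact T.downward_closed (hle _ _ (Presieve.ofArrows.mk i)) _

end Groth.Agent.H3.AlgSpProp
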