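import Mathlib
import Groth.Agent.H4.SmRed2
import Groth.Prelude.Def_FDesc

/-!
# Geometric reducedness at a point along étale and flat morphisms of schemes over a field
-/

set_option autoImplicit false
universe u
open CategoryTheory CategoryTheory.Limits AlgebraicGeometry

namespace Groth.Agent.H3.GeomRedEt

variable {k : Type u} [Field k]

/-- the base change of a `k`-morphism to an extension field. -/
noncomputable abbrev bcMap {W U : Scheme.{u}} (q : W ⟶ U) (fU : U ⟶ Spec (CommRingCat.of k))
    (K : Type u) [Field K] [Algebra k K] : FBase.bc (q ≫ fU) K ⟶ FBase.bc fU K :=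
  pullback.map (q ≫ fU) (Spec.map (CommRingCat.ofHom (algebraMap k K))) fU
    (Spec.map (CommRingCat.ofHom (algebraMap k K))) q (𝟙 _) (𝟙 _) (by simp) (by simp)

lemma bcMap_π {W U : Scheme.{u}} (q : W ⟶ U) (fU : U ⟶ Spec (CommRingCat.of k))
    (K : Type u) [Field K] [Algebra k K] :
    bcMap q fU K ≫ FBase.bcπ fU K = FBase.bcπ (q ≫ fU) K ≫ q :=
  pullback.lift_fst _ _ _

lemma isPullback_bcMap {W U : Scheme.{u}} (q : W ⟶ U) (fU : U ⟶ Spec (CommRingCat.of k))
    (K : Type u) [Field K] [Algebra k K] :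
    IsPullback (FBase.bcπ (q ≫ fU) K) (bcMap q fU K) q (FBase.bcπ fU K) := by
  refine IsPullback.of_bot ?_ (bcMap_π q fU K).symm
    (IsPullback.of_hasPullback fU (Spec.map (CommRingCat.ofHom (algebraMap k K))))
  have : bcMap q fU K ≫ pullback.snd fU (Spec.map (CommRingCat.ofHom (algebraMap k K))) =
      pullback.snd (q ≫ fU) (Spec.map (CommRingCat.ofHom (algebraMap k K))) :=
    (pullback.lift_snd _ _ _).trans (Category.comp_id _)
  rw [this]
  exact IsPullback.of_hasPullback (q ≫ fU) _

/-- geometric reducedness at a point ascends along étale (even smooth) morphisms. -/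
theorem isGeomReducedAt_of_smooth {W U : Scheme.{u}} (fW : W ⟶ Spec (CommRingCat.of k))
    (fU : U ⟶ Spec (CommRingCat.of k)) (q : W ⟶ U) (hq : q ≫ fU = fW) [Smooth q] (w : W)
    (h : FBase.IsGeomReducedAt fU (q w)) : FBase.IsGeomReducedAt fW w := by
  subst hq
  intro K _ _ w' hw'
  have hsm : Smooth (bcMap q fU K) :=
    MorphismProperty.of_isPullback (P := @Smooth) (isPullback_bcMap q fU K) inferInstance
  have h1 : (FBase.bcπ fU K) (bcMap q fU K w') = q w := by
    rw [← Scheme.Hom.comp_apply, bcMap_π, Scheme.Hom.comp_apply, hw']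
  have : _root_.IsReduced ((FBase.bc fU K).presheaf.stalk (bcMap q fU K w')) := h K _ h1
  exact Groth.Agent.H4.SmRed.isReduced_stalk_of_smooth (bcMap q fU K) w'

/-- geometric reducedness at a point descends along flat morphisms. -/
theorem isGeomReducedAt_of_flat {W U : Scheme.{u}} (fW : W ⟶ Spec (CommRingCat.of k))
    (fU : U ⟶ Spec (CommRingCat.of k)) (π : W ⟶ U) (hπ : π ≫ fU = fW) [Flat π] (w : W)
    (h : FBase.IsGeomReducedAt fW w) : FBase.IsGeomReducedAt fU (π w) := by
  subst hπ
  intro K _ _ u' hu'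
  have sq := isPullback_bcMap π fU K
  obtain ⟨w', hw1, hw2⟩ := Scheme.Pullback.exists_preimage_pullback (f := π)
    (g := FBase.bcπ fU K) w u' hu'.symm
  -- transport to the chosen pullback
  let e := sq.isoPullback
  have he1 : e.hom ≫ pullback.fst π (FBase.bcπ fU K) = FBase.bcπ (π ≫ fU) K := sq.isoPullback_hom_fst
  have he2 : e.hom ≫ pullback.snd π (FBase.bcπ fU K) = bcMap π fU K := sq.isoPullback_hom_snd
  let w'' := e.inv w'
  have hw''1 : (FBase.bcπ (π ≫ fU) K) w'' = w := by
    have : e.inv ≫ FBase.bcπ (π ≫ fU) K = pullback.fst π (FBase.bcπ fU K) := by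
      rw [← he1, Iso.inv_hom_id_assoc]
    change (FBase.bcπ (π ≫ fU) K) (e.inv w') = w
    rw [← Scheme.Hom.comp_apply, this]
    exact hw1
  have hw''2 : (bcMap π fU K) w'' = u' := by
    have : e.inv ≫ bcMap π fU K = pullback.snd π (FBase.bcπ fU K) := by
      rw [← he2, Iso.inv_hom_id_assoc]
    change (bcMap π fU K) (e.inv w') = u'
    rw [← Scheme.Hom.comp_apply, this]
    exact hw2
  have hred : _root_.IsReduced ((FBase.bc (π ≫ fU) K).presheaf.stalk w'') := h K w'' hw''1
  have hfl : Flat (bcMap π fU K) :=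
    MorphismProperty.of_isPullback (P := @Flat) sq inferInstance
  subst hw''2
  have hfl' : ((bcMap π fU K).stalkMap w'').hom.Flat := Flat.stalkMap _ w''
  algebraize [((bcMap π fU K).stalkMap w'').hom]
  have hloc : IsLocalHom (algebraMap ((FBase.bc fU K).presheaf.stalk ((bcMap π fU K) w''))
      ((FBase.bc (π ≫ fU) K).presheaf.stalk w'')) :=
    inferInstanceAs (IsLocalHom ((bcMap π fU K).stalkMap w'').hom)
  have : Module.FaithfullyFlat ((FBase.bc fU K).presheaf.stalk ((bcMap π fU K) w''))
      ((FBase.bc (π ≫ fU) K).presheaf.stalk w'') :=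
    Module.FaithfullyFlat.of_flat_of_isLocalHom
  exact isReduced_of_injective (algebraMap ((FBase.bc fU K).presheaf.stalk ((bcMap π fU K) w''))
    ((FBase.bc (π ≫ fU) K).presheaf.stalk w'')) (FaithfulSMul.algebraMap_injective _ _)

end Groth.Agent.H3.GeomRedEt
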