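import Mathlib
import Groth.Agent.Lib.Helper3.AlgSpProp.Vanishing
import Groth.Agent.Lib.Helper3.AlgSpProp.ImageOpen

set_option autoImplicit false
set_option linter.unusedSectionVars false
set_option backward.isDefEq.respectTransparency false

universe u

open CategoryTheory CategoryTheory.Limits AlgebraicGeometry MorphismProperty Opposite Topology

namespace Groth.Agent.H3.AlgSpProp

open _root_.AlgSp Groth.Agent.H5.AlgSp

variable {S : Scheme.{u}} {X : Sp S}

theorem hasColimitsOfSize_commRingCat : HasColimitsOfSize.{u, u} CommRingCat.{u + 1} :=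
  hasColimitsOfSizeShrink.{u, u, u + 1, u + 1} _

theorem preservesFilteredColimits_forget_commRingCat :
    PreservesFilteredColimitsOfSize.{u, u} (forget CommRingCat.{u + 1}) :=
  preservesFilteredColimitsOfSize_shrink.{u, u + 1, u, u + 1} (forget CommRingCat.{u + 1})

attribute [local instance] hasColimitsOfSize_commRingCat preservesFilteredColimits_forget_commRingCat

/-- Every point of an algebraic space is the class of a geometric point which lifts to a given
atlas. -/
theorem exists_geometric_point_of_point (hX : IsAlgSpace X) (x : Points X) :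
    ∃ p : FieldPt X, p.IsGeometric ∧ Points.mk p = x := by
  obtain ⟨U, a, hae, has⟩ := hX.atlas
  obtain ⟨u, rfl⟩ := ofPt_surjective_of_repWith has x
  obtain ⟨p, hp, l, hl⟩ := exists_geometric_lift (EtOver.mk a hae) u
  exact ⟨p, hp, by rw [← hl]; exact (ofPt_lift_closedPoint p l).symm⟩

/-- A geometric point over `ofPt E.hom e` lifts to `E` through `e`. -/
theorem exists_lift_of_mk_eq (p : FieldPt X) (hp : p.IsGeometric) (E : EtOver X)
    (e : ↥E.obj.left.left) (h : Points.mk p = Points.ofPt E.obj.hom e) :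
    ∃ l : (FieldPt.liftsTo p).obj E, l.1.left (IsLocalRing.closedPoint p.K) = e := by
  obtain ⟨ubar, h1, h2⟩ := exists_lift_geometric_point (IsAlgSpace.yon_obj E.obj.left) E.obj.hom
    (isEtaleMor_of_repWith E.obj.hom E.property) p hp (Points.ofScheme E.obj.left e)
    (by rw [← Points.ofPt_eq_map_ofScheme, h])
  obtain ⟨u', hu'⟩ := (yon S).map_surjective ubar
  refine ⟨⟨u', by rw [hu']; exact h1⟩, ?_⟩
  rw [← hu'] at h2
  have h3 := congrArg (Points.toScheme E.obj.left) h2
  rwa [Points.toScheme_ofPt, Points.toScheme_ofScheme] at h3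

theorem isClosed_support_ring (hX : IsAlgSpace X) (O' : EtSh X CommRingCat.{u + 1}) :
    IsClosed {x : Points X |
      ∃ p : FieldPt X, p.IsGeometric ∧ Points.mk p = x ∧ Nontrivial ↥(stalkEt p O')} := by
  rw [← isOpen_compl_iff]
  have hW : {x : Points X | ∃ p : FieldPt X, p.IsGeometric ∧ Points.mk p = x ∧
      Nontrivial ↥(stalkEt p O')}ᶜ = ⋃ (E : {E : EtOver X // (1 : ↥(O'.obj.obj (op E))) = 0}),
        Set.range (Points.ofPt E.1.obj.hom) := by
    ext x
    simp only [Set.mem_compl_iff, Set.mem_ofPred_eq, Set.mem_iUnion, Set.mem_range]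
    constructor
    · intro hx
      obtain ⟨p, hp, rfl⟩ := exists_geometric_point_of_point hX x
      have htriv : Subsingleton ↥(stalkEt p O') := by
        by_contra hne
        rw [not_subsingleton_iff_nontrivial] at hne
        exact hx ⟨p, hp, rfl, hne⟩
      obtain ⟨U, a, hae, has⟩ := hX.atlas
      obtain ⟨l⟩ := nonempty_liftsTo_of_surjective p hp a hae has
      let Φ := etPoint hX p hp
      have h0 : Φ.toPresheafFiber (EtOver.mk a hae) l O'.obj 1 =
          Φ.toPresheafFiber (EtOver.mk a hae) l O'.obj 0 :=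
        Subsingleton.elim (α := ↥(stalkEt p O')) _ _
      obtain ⟨Y, f, y, hy, hst⟩ := (Φ.toPresheafFiber_eq_iff' _ l _ _).1 h0
      rw [map_one, map_zero] at hst
      exact ⟨⟨Y, hst⟩, y.1.left (IsLocalRing.closedPoint p.K), ofPt_lift_closedPoint p y⟩
    · rintro ⟨⟨E, hE⟩, e, rfl⟩ ⟨p, hp, hpe, hnt⟩
      obtain ⟨l, -⟩ := exists_lift_of_mk_eq p hp E e hpe
      let Φ := etPoint hX p hp
      have h1 : (1 : ↥(stalkEt p O')) = 0 := by
        have e1 : Φ.toPresheafFiber E l O'.obj 1 = (1 : ↥(stalkEt p O')) := map_one _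
        have e0 : Φ.toPresheafFiber E l O'.obj 0 = (0 : ↥(stalkEt p O')) := map_zero _
        rw [← e1, ← e0, hE]
      exact one_ne_zero h1
  rw [hW]
  exact isOpen_iUnion fun E => isOpen_range_ofPt E.1.property

end Groth.Agent.H3.AlgSpProp
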