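import Mathlib
import Groth.Agent.Lib.Helper3.AlgSpProp.Support
import Groth.Prelude.Def_ModSite

set_option autoImplicit false
set_option linter.unusedSectionVars false
set_option backward.isDefEq.respectTransparency false

universe u

open CategoryTheory CategoryTheory.Limits AlgebraicGeometry MorphismProperty Opposite Topology

namespace Groth.Agent.H3.AlgSpProp

open _root_.AlgSp Groth.Agent.H5.AlgSp

variable {S : Scheme.{u}} {X : Sp S}

/-- A global function with full non-vanishing locus is a unit. -/
lemma isUnit_of_basicOpen_eq_top {Y : Scheme.{u}} (s : Γ(Y, ⊤)) (h : Y.basicOpen s = ⊤) :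
    IsUnit s := by
  refine Y.toRingedSpace.isUnit_of_isUnit_germ ⊤ s fun y hy => ?_
  have hy' : y ∈ Y.basicOpen s := by rw [h]; trivial
  exact (Y.mem_basicOpen s y hy).1 hy'

/-- The restriction of `f` to `D(f)` is a unit. -/
lemma isUnit_appTop_basicOpen {Y : Scheme.{u}} (f : Γ(Y, ⊤)) :
    IsUnit ((Y.basicOpen f).ι.appTop.hom f) := by
  apply isUnit_of_basicOpen_eq_top
  have := Scheme.preimage_basicOpen_top (Y.basicOpen f).ι f
  rw [← this]
  exact (Y.basicOpen f).ι_preimage_self

/-- The open subscheme of an object of the small étale site, as an object of the site. -/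
noncomputable def openObj (E : EtOver X) (V : E.obj.left.left.Opens) : EtOver X :=
  EtOver.mk ((yon S).map (overOpenι E.obj.left V) ≫ E.obj.hom) (repWith_etale_restrict E.property V)

noncomputable def openHom (E : EtOver X) (V : E.obj.left.left.Opens) : openObj E V ⟶ E :=
  EtOver.homMk (overOpenι E.obj.left V) rfl

theorem isLocallyRinged_OEt : ModSite.IsLocallyRinged (etTop X) (OEt X) := by
  constructor
  · intro U f
    obtain ⟨f₀, rfl⟩ : ∃ f₀ : Γ(U.obj.left.left, ⊤), f = (⟨f₀⟩ : ULift.{u + 1} Γ(U.obj.left.left, ⊤)) :=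
      ⟨f.down, rfl⟩
    let D : Bool → U.obj.left.left.Opens := fun b =>
      if b then U.obj.left.left.basicOpen f₀ else U.obj.left.left.basicOpen (1 - f₀)
    refine ⟨Sieve.ofArrows (fun b => openObj U (D b)) (fun b => openHom U (D b)),
      ofArrows_mem_etTop _ _ fun x => ?_, ?_⟩
    · by_cases hx : x ∈ U.obj.left.left.basicOpen f₀
      · exact ⟨true, ⟨x, hx⟩, rfl⟩
      · refine ⟨false, ⟨x, ?_⟩, rfl⟩
        change x ∈ U.obj.left.left.basicOpen (1 - f₀)
        rw [Scheme.mem_basicOpen_top] at hx ⊢
        have hloc : IsLocalRing ↥(U.obj.left.left.presheaf.stalk x) := inferInstance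
        rw [map_sub, map_one]
        exact (IsLocalRing.isUnit_or_isUnit_one_sub_self _).resolve_left hx
    · rintro V g ⟨W, a, b, ⟨i⟩, rfl⟩
      have hunit : ∀ (h : Γ(U.obj.left.left, ⊤)), 
          IsUnit (((OEt X).obj.map (openHom U (U.obj.left.left.basicOpen h)).op).hom ⟨h⟩) := by
        intro h
        rw [OEt_map]
        have := isUnit_appTop_basicOpen h
        exact this.map (RingEquiv.toRingHom ULift.ringEquiv.symm)
      have hcomp : ∀ s : ↥((OEt X).obj.obj (op U)),
          ((OEt X).obj.map (a ≫ openHom U (D i)).op).hom s =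
            ((OEt X).obj.map a.op).hom (((OEt X).obj.map (openHom U (D i)).op).hom s) := by
        intro s
        rw [op_comp, (OEt X).obj.map_comp]
        rfl
      cases i
      · right
        rw [hcomp]
        exact (hunit (1 - f₀)).map _
      · left
        rw [hcomp]
        exact (hunit f₀).map _
  · intro U h01
    have hemp : IsEmpty ↥U.obj.left.left := by
      refine ⟨fun x => ?_⟩
      have h1 : (0 : Γ(U.obj.left.left, ⊤)) = 1 := congrArg ULift.down h01
      have : Nontrivial ↥(U.obj.left.left.presheaf.stalk x) := inferInstance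
      have h2 := congrArg (U.obj.left.left.presheaf.germ ⊤ x trivial).hom h1
      rw [map_zero, map_one] at h2
      exact zero_ne_one h2
    have : Sieve.ofArrows (fun i : PEmpty.{1} => (PEmpty.elim i : EtOver X))
        (fun i => PEmpty.elim i) ∈ etTop X U :=
      ofArrows_mem_etTop _ _ fun x => (hemp.false x).elim
    refine (etTop X).superset_covering ?_ this
    rw [Sieve.ofArrows, Sieve.generate_le_iff]
    rintro _ _ ⟨i⟩
    exact i.elim

end Groth.Agent.H3.AlgSpProp
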