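import Mathlib
import Groth.Agent.Lib.Helper3.AlgSpProp.LocallyRinged
import Groth.Agent.Lib.Helper3.AlgSpCov.RedNoeth

set_option autoImplicit false
set_option linter.unusedSectionVars false
set_option backward.isDefEq.respectTransparency false

universe u

open CategoryTheory CategoryTheory.Limits AlgebraicGeometry MorphismProperty Opposite Topology

namespace Groth.Agent.H3.AlgSpProp

open _root_.AlgSp Groth.Agent.H5.AlgSp

variable {S : Scheme.{u}} {X : Sp S}

theorem preservesLimitsOfShape_etOver_forget_commRingCat :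
    PreservesLimitsOfShape (EtOver X)ᵒᵖ (forget CommRingCat.{u + 1}) := by
  have : PreservesLimitsOfSize.{u, u + 1} (forget CommRingCat.{u + 1}) :=
    preservesLimitsOfSize_of_univLE.{u + 1, u + 1, u, u + 1} _
  infer_instance

attribute [local instance] preservesLimitsOfShape_etOver_forget_commRingCat

theorem gsectEt_ext (f g : ↥(gsectEt (OEt X)))
    (h : ∀ E : EtOver X, (limit.π (OEt X).obj (op E)) f = (limit.π (OEt X).obj (op E)) g) :
    f = g :=
  Concrete.limit_ext (OEt X).obj f g fun j => h j.unop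

theorem isReduced_gsectEt (hXr : IsReducedSp X) :
    _root_.IsReduced ↥(gsectEt (OEt X)) ∧
      ∀ f : ↥(gsectEt (OEt X)),
        (∀ E : EtOver X,
            E.obj.left.left.basicOpen ((limit.π (OEt X).obj (op E)) f).down = ⊥) →
          f = 0 := by
  have hred : ∀ E : EtOver X, AlgebraicGeometry.IsReduced E.obj.left.left := fun E =>
    Groth.Agent.H3.AlgSpCov.isReduced_of_etale_of_isReducedSp hXr E.obj.hom E.property
  constructor
  · refine ⟨fun f hf => ?_⟩
    obtain ⟨n, hn⟩ := hf
    refine gsectEt_ext f 0 fun E => ?_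
    have := hred E
    have h1 : ((limit.π (OEt X).obj (op E)) f) ^ n = 0 := by
      rw [← map_pow, hn, map_zero]
    rw [map_zero]
    obtain ⟨s, hs⟩ : ∃ s : Γ(E.obj.left.left, ⊤), (limit.π (OEt X).obj (op E)) f =
        (⟨s⟩ : ULift.{u + 1} Γ(E.obj.left.left, ⊤)) := ⟨_, rfl⟩
    rw [hs] at h1 ⊢
    have h2 : s ^ n = 0 := congrArg ULift.down h1
    have h3 : s = 0 := IsReduced.eq_zero _ ⟨n, h2⟩
    rw [h3]
    rfl
  · intro f hf
    refine gsectEt_ext f 0 fun E => ?_
    have := hred E
    rw [map_zero]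
    obtain ⟨s, hs⟩ : ∃ s : Γ(E.obj.left.left, ⊤), (limit.π (OEt X).obj (op E)) f =
        (⟨s⟩ : ULift.{u + 1} Γ(E.obj.left.left, ⊤)) := ⟨_, rfl⟩
    have hfE := hf E
    rw [hs] at hfE ⊢
    have h3 : s = 0 := (basicOpen_eq_bot_iff s).1 hfE
    rw [h3]
    rfl

end Groth.Agent.H3.AlgSpProp
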