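import Groth.Agent.Lib.Helper8.Hens.EtaleHens
import Groth.Agent.Lib.Helper8.Hens.EtaleNbhdSch
import Groth.Agent.Lib.Helper8.Hens.Henselization
import Groth.Agent.Lib.Helper8.Hens.Transfer

/-!
# A henselization of an elementary étale neighbourhood is a henselization of the base (helper3)
-/

set_option autoImplicit false
set_option linter.style.haveILetI false

universe u
open IsLocalRing TensorProduct

namespace Groth.Agent.H3.HensTransfer

open Groth.Agent.H8.Hens Groth.Agent.H8.Hens.EH

/-- unbundled form of `Hensel.IsHenselization`. -/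
def IsHensMap {A R : Type u} [CommRing A] [IsLocalRing A] [CommRing R] [IsLocalRing R]
    (α : A →+* R) : Prop :=
  IsLocalHom α ∧ HenselianLocalRing R ∧
    ∀ (T : Type u) [CommRing T] [HenselianLocalRing T] (f : A →+* T), IsLocalHom f →
      ∃! g : R →+* T, g.comp α = f

theorem isHensMap_algebraMap (A R : Type u) [CommRing A] [IsLocalRing A] [CommRing R]
    [IsLocalRing R] [Algebra A R] [h : IsLocalHom (algebraMap A R)]
    [hS : Hensel.IsHenselization A R] : IsHensMap (algebraMap A R) :=
  ⟨h, hS.henselian, hS.universal⟩

theorem IsHensMap.isHenselization {A R : Type u} [CommRing A] [IsLocalRing A] [CommRing R]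
    [IsLocalRing R] {α : A →+* R} (h : IsHensMap α) :
    letI : Algebra A R := α.toAlgebra
    ∃ (_ : IsLocalHom (algebraMap A R)), Hensel.IsHenselization A R := by
  letI : Algebra A R := α.toAlgebra
  have h1 : IsLocalHom (algebraMap A R) := h.1
  exact ⟨h1, ⟨h.2.1, h.2.2⟩⟩

theorem isLocalHom_ringEquiv {A A' : Type*} [CommSemiring A] [CommSemiring A'] (e : A' ≃+* A) :
    IsLocalHom (e : A' →+* A) :=
  ⟨fun a ha => by
    have := ha.map (e.symm : A →+* A')
    simpa using this⟩

theorem IsHensMap.comp_ringEquiv {A A' R : Type u} [CommRing A] [IsLocalRing A] [CommRing A']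
    [IsLocalRing A'] [CommRing R] [IsLocalRing R] (e : A' ≃+* A) {α : A →+* R}
    (h : IsHensMap α) : IsHensMap (α.comp (e : A' →+* A)) := by
  have he := isLocalHom_ringEquiv e
  have he' := isLocalHom_ringEquiv e.symm
  have hα := h.1
  refine ⟨RingHom.isLocalHom_comp _ _, h.2.1, ?_⟩
  intro T _ _ f hf
  have hfe : IsLocalHom (f.comp (e.symm : A →+* A')) := RingHom.isLocalHom_comp _ _
  obtain ⟨g, hg, hgu⟩ := h.2.2 T (f.comp (e.symm : A →+* A')) hfe
  refine ⟨g, ?_, ?_⟩
  · refine RingHom.ext fun x => ?_
    have h1 := congrArg (fun w => w (e x)) hg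
    simpa using h1
  · intro g' hg'
    apply hgu
    refine RingHom.ext fun x => ?_
    have h1 := congrArg (fun w => w (e.symm x)) hg'
    simpa using h1

theorem IsHensMap.ringEquiv_comp {A R R' : Type u} [CommRing A] [IsLocalRing A] [CommRing R]
    [IsLocalRing R] [CommRing R'] [IsLocalRing R'] (e : R ≃+* R') (hR' : HenselianLocalRing R')
    {α : A →+* R} (h : IsHensMap α) : IsHensMap ((e : R →+* R').comp α) := by
  have he := isLocalHom_ringEquiv e
  have hα := h.1
  refine ⟨RingHom.isLocalHom_comp _ _, hR', ?_⟩
  intro T _ _ f hf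
  obtain ⟨g, hg, hgu⟩ := h.2.2 T f hf
  refine ⟨g.comp (e.symm : R' →+* R), ?_, ?_⟩
  · refine RingHom.ext fun x => ?_
    have h1 := congrArg (fun w => w x) hg
    simpa using h1
  · intro g' hg'
    have h2 : g'.comp (e : R →+* R') = g := by
      apply hgu
      rw [← hg', RingHom.comp_assoc]
    refine RingHom.ext fun x => ?_
    have h1 := congrArg (fun w => w (e.symm x)) h2
    simpa using h1

section Main

variable (R : Type u) [CommRing R] (S : Type u) [CommRing S] [Algebra R S] [Algebra.Etale R S]
  (p : Ideal R) [p.IsPrime] (q : Ideal S) [q.IsPrime]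
  (hq : p = q.comap (algebraMap R S)) (hres : ResTriv R S p q)
  (Rh : Type u) [CommRing Rh] [IsLocalRing Rh] [Algebra (Localization.AtPrime p) Rh]
  [IsLocalHom (algebraMap (Localization.AtPrime p) Rh)]
  [hR : Hensel.IsHenselization (Localization.AtPrime p) Rh]

include hq hres hR in
/-- copy of helper8's `EH.exists_isHenselization`, exporting the compatibility. -/
theorem exists_isHenselization' :
    ∃ (_ : Algebra (Localization.AtPrime q) Rh)
      (_ : IsLocalHom (algebraMap (Localization.AtPrime q) Rh)),
      Hensel.IsHenselization (Localization.AtPrime q) Rh ∧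
      (algebraMap (Localization.AtPrime q) Rh).comp
        (Localization.localRingHom p q (algebraMap R S) hq) =
          algebraMap (Localization.AtPrime p) Rh := by
  haveI : HenselianLocalRing Rh := hR.henselian
  letI : Algebra R Rh :=
    ((algebraMap (Localization.AtPrime p) Rh).comp (algebraMap R (Localization.AtPrime p))).toAlgebra
  haveI : IsScalarTower R (Localization.AtPrime p) Rh := IsScalarTower.of_algebraMap_eq fun _ => rfl
  have hbij := bijective_residueField_map hq hres
  obtain ⟨fS, hfS⟩ := exists_algHom_comap_eq (T := Rh) p S q hq hbij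
  have hunit : ∀ s : q.primeCompl, IsUnit (fS.toRingHom (s : S)) := by
    intro s
    by_contra hnu
    have : (s : S) ∈ (maximalIdeal Rh).comap fS.toRingHom := (mem_maximalIdeal _).mpr hnu
    rw [hfS] at this
    exact s.2 this
  let ψ : Localization.AtPrime q →+* Rh := IsLocalization.lift (M := q.primeCompl) hunit
  have hψ : ∀ c, ψ (algebraMap S _ c) = fS c := fun c => IsLocalization.lift_eq _ _
  letI : Algebra (Localization.AtPrime q) Rh := ψ.toAlgebra
  have hψloc : IsLocalHom (algebraMap (Localization.AtPrime q) Rh) := by
    constructor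
    intro y hy
    obtain ⟨c, t, rfl⟩ := IsLocalization.exists_mk'_eq q.primeCompl y
    have h1 : ψ (IsLocalization.mk' _ c t) * fS (t : S) = fS c := by
      rw [← hψ, ← hψ c, ← map_mul, IsLocalization.mk'_spec]
    have h2 : IsUnit (fS c) := by
      rw [← h1]
      exact (show IsUnit (ψ _) from hy).mul (hunit t)
    have h3 : c ∉ q := by
      intro hc
      rw [← hfS] at hc
      exact ((mem_maximalIdeal _).mp hc) h2
    exact (IsLocalization.AtPrime.isUnit_mk'_iff (Localization.AtPrime q) q c t).mpr h3
  let u : Localization.AtPrime p →+* Localization.AtPrime q :=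
    Localization.localRingHom p q (algebraMap R S) hq
  have hu : IsLocalHom u := inferInstance
  have huv : (algebraMap (Localization.AtPrime q) Rh).comp u =
      algebraMap (Localization.AtPrime p) Rh := by
    apply IsLocalization.ringHom_ext p.primeCompl
    ext r
    simp only [RingHom.comp_apply, u, Localization.localRingHom_to_map]
    show ψ (algebraMap S _ (algebraMap R S r)) = _
    rw [hψ, fS.commutes]
    rfl
  refine ⟨inferInstance, hψloc, ?_, huv⟩
  refine isHenselization_of_epi (S₀ := Localization.AtPrime p) u hu huv ?_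
  intro T _ _ f₁ f₂ h₁ h₂ h12
  -- structure of `R_p`-algebra on `T`
  letI : Algebra (Localization.AtPrime p) T := (f₁.comp u).toAlgebra
  haveI : IsLocalHom (algebraMap (Localization.AtPrime p) T) :=
    RingHom.isLocalHom_comp f₁ u
  letI : Algebra R T :=
    ((algebraMap (Localization.AtPrime p) T).comp (algebraMap R (Localization.AtPrime p))).toAlgebra
  haveI : IsScalarTower R (Localization.AtPrime p) T := IsScalarTower.of_algebraMap_eq fun _ => rfl
  have hcomm : ∀ (f : Localization.AtPrime q →+* T), f.comp u = f₁.comp u →
      ∀ r : R, f (algebraMap S _ (algebraMap R S r)) = algebraMap R T r := by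
    intro f hf r
    have := congrArg (fun w => w (algebraMap R (Localization.AtPrime p) r)) hf
    simp only [RingHom.comp_apply, u, Localization.localRingHom_to_map] at this
    rw [this]
    show _ = f₁ (u (algebraMap R _ r))
    simp only [u, Localization.localRingHom_to_map]
  let F₁ : S →ₐ[R] T :=
    { f₁.comp (algebraMap S (Localization.AtPrime q)) with
      commutes' := fun r => hcomm f₁ rfl r }
  let F₂ : S →ₐ[R] T :=
    { f₂.comp (algebraMap S (Localization.AtPrime q)) with
      commutes' := fun r => hcomm f₂ h12.symm r }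
  have hcomap : ∀ (f : Localization.AtPrime q →+* T), IsLocalHom f →
      (maximalIdeal T).comap (f.comp (algebraMap S (Localization.AtPrime q))) = q := by
    intro f hf
    rw [← Ideal.comap_comap]
    have h3 : (maximalIdeal T).comap f = maximalIdeal (Localization.AtPrime q) :=
      ((local_hom_TFAE f).out 0 4).mp hf
    rw [h3]
    exact IsLocalization.AtPrime.under_maximalIdeal (Localization.AtPrime q) q
  have hF : F₁ = F₂ := algHom_unique_of_comap_eq (T := T) p S q hq hbij F₁ F₂
    (hcomap f₁ h₁) (hcomap f₂ h₂)
  apply IsLocalization.ringHom_ext q.primeCompl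
  ext c
  exact congrArg (fun w => w c) hF

omit [IsLocalRing Rh] [Algebra (Localization.AtPrime p) Rh]
  [IsLocalHom (algebraMap (Localization.AtPrime p) Rh)] hR in
include hres in
/-- a henselization of `S_q` is a henselization of `R_p`. -/
theorem isHensMap_comp_localRingHom {H : Type u} [CommRing H] [IsLocalRing H]
    (β : Localization.AtPrime q →+* H) (hβ : IsHensMap β) :
    IsHensMap (β.comp (Localization.localRingHom p q (algebraMap R S) hq)) := by
  haveI := Groth.Agent.H8.Hens.isHenselization (R := Localization.AtPrime p)
  obtain ⟨alg, hloc, hH, hcompat⟩ :=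
    exists_isHenselization' R S p q hq hres (Henselization (Localization.AtPrime p))
  letI : Algebra (Localization.AtPrime q) H := β.toAlgebra
  haveI : IsLocalHom (algebraMap (Localization.AtPrime q) H) := hβ.1
  haveI : Hensel.IsHenselization (Localization.AtPrime q) H := ⟨hβ.2.1, hβ.2.2⟩
  obtain ⟨e⟩ := nonempty_algEquiv_of_isHenselization (R := Localization.AtPrime q)
    (Henselization (Localization.AtPrime p)) H
  have h1 := (isHensMap_algebraMap (Localization.AtPrime p)
    (Henselization (Localization.AtPrime p))).ringEquiv_comp e.toRingEquiv hβ.2.1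
  have h2 : ((e.toRingEquiv : Henselization (Localization.AtPrime p) →+* H)).comp
      (algebraMap (Localization.AtPrime p) (Henselization (Localization.AtPrime p))) =
      β.comp (Localization.localRingHom p q (algebraMap R S) hq) := by
    rw [← hcompat, ← RingHom.comp_assoc]
    congr 1
    refine RingHom.ext fun x => ?_
    exact e.commutes x
  rw [← h2]
  exact h1

end Main

end Groth.Agent.H3.HensTransfer
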