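import Groth.Agent.Lib.Helper3.AlgSpProp.HensTransfer

set_option autoImplicit false
set_option linter.style.haveILetI false

universe u
open IsLocalRing TensorProduct AlgebraicGeometry CategoryTheory

namespace Groth.Agent.H3.HensTransfer

open Groth.Agent.H8.Hens Groth.Agent.H8.Hens.EH

/-- a henselization of the local ring of an elementary étale neighbourhood is a henselization of
the local ring of the base. -/
theorem isHensMap_comp_stalkMap {V W : Scheme.{u}} (f : V ⟶ W) [Etale f] (v : V)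
    (hsurj : Function.Surjective (f.residueFieldMap v)) {H : Type u} [CommRing H] [IsLocalRing H]
    (β : V.presheaf.stalk v →+* H) (hβ : IsHensMap β) :
    IsHensMap (β.comp (f.stalkMap v).hom) := by
  obtain ⟨W₀, hW₀, hxW₀⟩ : ∃ W₀ : W.Opens, IsAffineOpen W₀ ∧ f v ∈ W₀ := by
    obtain ⟨_, ⟨W₀, hW₀, rfl⟩, hxW₀, -⟩ :=
      W.isBasis_affineOpens.exists_subset_of_mem_open (Set.mem_univ (f v)) isOpen_univ
    exact ⟨W₀, hW₀, hxW₀⟩
  obtain ⟨V₀, hV₀, hvV₀, e⟩ : ∃ V₀ : V.Opens, IsAffineOpen V₀ ∧ v ∈ V₀ ∧ V₀ ≤ f ⁻¹ᵁ W₀ := by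
    obtain ⟨_, ⟨V₀, hV₀, rfl⟩, hxV₀, hVW⟩ :=
      V.isBasis_affineOpens.exists_subset_of_mem_open (show v ∈ (f ⁻¹ᵁ W₀ : Set V) from hxW₀)
        (f ⁻¹ᵁ W₀).isOpen
    exact ⟨V₀, hV₀, hxV₀, hVW⟩
  have hres := resTriv_of_surjective_residueFieldMap f v hsurj hW₀ hV₀ e hvV₀
  have het : (f.appLE W₀ V₀ e).hom.Etale := f.etale_appLE hW₀ hV₀ e
  algebraize [(f.appLE W₀ V₀ e).hom]
  have het' : Algebra.Etale Γ(W, W₀) Γ(V, V₀) := het
  let q := (hV₀.primeIdealOf ⟨v, hvV₀⟩).asIdeal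
  let p := (hW₀.primeIdealOf ⟨f v, e hvV₀⟩).asIdeal
  have hp : p = q.comap (algebraMap Γ(W, W₀) Γ(V, V₀)) := by
    have := IsAffineOpen.comap_primeIdealOf_appLE (f := f) W₀ hW₀ _ hV₀ e hvV₀
    exact (congrArg PrimeSpectrum.asIdeal this).symm
  let _ := W.presheaf.algebra_section_stalk ⟨f v, e hvV₀⟩
  let _ := V.presheaf.algebra_section_stalk ⟨v, hvV₀⟩
  have h1 : IsLocalization.AtPrime (W.presheaf.stalk (f v)) p :=
    hW₀.isLocalization_stalk ⟨f v, e hvV₀⟩
  have h2 : IsLocalization.AtPrime (V.presheaf.stalk v) q := hV₀.isLocalization_stalk ⟨v, hvV₀⟩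
  let eA : W.presheaf.stalk (f v) ≃ₐ[Γ(W, W₀)] Localization.AtPrime p :=
    IsLocalization.algEquiv p.primeCompl _ _
  let eB : V.presheaf.stalk v ≃ₐ[Γ(V, V₀)] Localization.AtPrime q :=
    IsLocalization.algEquiv q.primeCompl _ _
  have hcompat : ∀ y : Γ(W, W₀),
      algebraMap Γ(V, V₀) (V.presheaf.stalk v) (algebraMap Γ(W, W₀) Γ(V, V₀) y) =
      f.stalkMap v (algebraMap Γ(W, W₀) (W.presheaf.stalk (f v)) y) := by
    intro y
    show V.presheaf.germ V₀ v hvV₀ ((f.appLE W₀ V₀ e).hom y) =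
      f.stalkMap v (W.presheaf.germ W₀ (f v) (e hvV₀) y)
    rw [Scheme.Hom.germ_stalkMap_apply, Scheme.Hom.appLE]
    simp only [CommRingCat.hom_comp, RingHom.coe_comp, Function.comp_apply]
    exact V.presheaf.germ_res_apply _ _ _ _
  -- the compatibility square
  have hsq : (eB.toRingEquiv : V.presheaf.stalk v →+* Localization.AtPrime q).comp
      (f.stalkMap v).hom =
      (Localization.localRingHom p q (algebraMap Γ(W, W₀) Γ(V, V₀)) hp).comp
        (eA.toRingEquiv : W.presheaf.stalk (f v) →+* Localization.AtPrime p) := by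
    apply IsLocalization.ringHom_ext p.primeCompl
    ext r
    simp only [RingHom.comp_apply]
    have h3 : (eA.toRingEquiv : W.presheaf.stalk (f v) →+* Localization.AtPrime p)
        (algebraMap Γ(W, W₀) (W.presheaf.stalk (f v)) r) =
        algebraMap Γ(W, W₀) (Localization.AtPrime p) r := eA.commutes r
    rw [h3, Localization.localRingHom_to_map]
    have h4 : (f.stalkMap v).hom (algebraMap Γ(W, W₀) (W.presheaf.stalk (f v)) r) =
        algebraMap Γ(V, V₀) (V.presheaf.stalk v) (algebraMap Γ(W, W₀) Γ(V, V₀) r) :=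
      (hcompat r).symm
    rw [h4]
    exact eB.commutes _
  -- transport
  have s1 : IsHensMap (β.comp (eB.symm.toRingEquiv : Localization.AtPrime q →+* V.presheaf.stalk v)) :=
    hβ.comp_ringEquiv eB.symm.toRingEquiv
  have s2 := isHensMap_comp_localRingHom Γ(W, W₀) Γ(V, V₀) p q hp hres _ s1
  have s3 := s2.comp_ringEquiv eA.toRingEquiv
  have s4 : ((β.comp (eB.symm.toRingEquiv : Localization.AtPrime q →+* V.presheaf.stalk v)).comp
      (Localization.localRingHom p q (algebraMap Γ(W, W₀) Γ(V, V₀)) hp)).comp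
        (eA.toRingEquiv : W.presheaf.stalk (f v) →+* Localization.AtPrime p) =
      β.comp (f.stalkMap v).hom := by
    rw [RingHom.comp_assoc, ← hsq, RingHom.comp_assoc]
    refine RingHom.ext fun x => ?_
    simp
  rw [← s4]
  exact s3

end Groth.Agent.H3.HensTransfer
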