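import Mathlib

/-!
# Minimal primes along flat ring maps (helper3)
-/

set_option autoImplicit false

universe u v

namespace Groth.Agent.H3.MinPrimesFlat

variable {R : Type u} {S : Type v} [CommRing R] [CommRing S] [Algebra R S]

/-- along an injective ring map the number of minimal primes does not decrease -/
theorem encard_minimalPrimes_le_of_injective (h : Function.Injective (algebraMap R S)) :
    (minimalPrimes R).encard ≤ (minimalPrimes S).encard := by
  have h1 := Ideal.minimalPrimes_comap_subset (algebraMap R S) ⊥
  rw [Ideal.comap_bot_of_injective _ h] at h1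
  exact (Set.encard_le_encard h1).trans (Set.encard_image_le _ _)

/-- the contraction of a minimal prime along a flat ring map is a minimal prime -/
theorem comap_mem_minimalPrimes [Module.Flat R S] {P : Ideal S} (hP : P ∈ minimalPrimes S) :
    P.comap (algebraMap R S) ∈ minimalPrimes R := by
  have hPp : P.IsPrime := hP.1.1
  refine ⟨⟨Ideal.comap_isPrime _ _, bot_le⟩, ?_⟩
  rintro Q' ⟨hQ', -⟩ hle
  have : P.LiesOver (P.comap (algebraMap R S)) := ⟨rfl⟩
  obtain ⟨P', hP'le, hP'prime, hP'over⟩ :=
    Ideal.exists_ideal_le_liesOver_of_le (p := Q') (q := P.comap (algebraMap R S)) P hle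
  have hPP' : P ≤ P' := hP.2 ⟨hP'prime, bot_le⟩ hP'le
  have hEq : P' = P := le_antisymm hP'le hPP'
  have h2 : Q' = P'.under R := hP'over.over
  rw [h2, hEq]

/-- finitely many minimal primes of `S` separated by elements coming from `R` give as many minimal
primes of `R`, when `S` is flat over `R` -/
theorem card_le_encard_minimalPrimes [Module.Flat R S] (F : Finset (Ideal S))
    (hF : ∀ P ∈ F, P ∈ minimalPrimes S)
    (hsep : ∀ P ∈ F, ∀ Q ∈ F, P ≠ Q →
      ∃ r : R, algebraMap R S r ∈ P ∧ algebraMap R S r ∉ Q) :
    (F.card : ℕ∞) ≤ (minimalPrimes R).encard := by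
  classical
  have hinj : Set.InjOn (Ideal.comap (algebraMap R S)) (F : Set (Ideal S)) := by
    intro P hP Q hQ hPQ
    by_contra hne
    obtain ⟨r, hr1, hr2⟩ := hsep P hP Q hQ hne
    have : r ∈ Q.comap (algebraMap R S) := by rw [← hPQ]; exact hr1
    exact hr2 this
  have hsub : ((F.image (Ideal.comap (algebraMap R S)) : Finset (Ideal R)) : Set (Ideal R)) ⊆
      minimalPrimes R := by
    intro Q hQ
    rw [Finset.mem_coe, Finset.mem_image] at hQ
    obtain ⟨P, hP, rfl⟩ := hQ
    exact comap_mem_minimalPrimes (hF P hP)
  have h1 := Set.encard_le_encard hsub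
  rw [Set.encard_coe_eq_coe_finsetCard, Finset.card_image_of_injOn hinj] at h1
  exact h1

/-- the number of minimal primes is invariant under ring isomorphisms, across universes -/
theorem encard_minimalPrimes_of_ringEquiv {A : Type u} {B : Type v} [CommRing A] [CommRing B]
    (e : A ≃+* B) : (minimalPrimes A).encard = (minimalPrimes B).encard := by
  let _ : Algebra A B := (e : A →+* B).toAlgebra
  let _ : Algebra B A := (e.symm : B →+* A).toAlgebra
  exact le_antisymm (encard_minimalPrimes_le_of_injective e.injective)
    (encard_minimalPrimes_le_of_injective e.symm.injective)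

end Groth.Agent.H3.MinPrimesFlat
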