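import Mathlib
import Groth.Agent.Lib.Helper3.AlgSpProp.LocallyRinged

set_option autoImplicit false
set_option linter.unusedSectionVars false
set_option backward.isDefEq.respectTransparency false

universe u

open CategoryTheory CategoryTheory.Limits AlgebraicGeometry MorphismProperty Opposite Topology

namespace Groth.Agent.H3.AlgSpProp

open _root_.AlgSp Groth.Agent.H5.AlgSp

variable {S : Scheme.{u}} {X : Sp S}

attribute [local instance] hasColimitsOfSize_commRingCat preservesFilteredColimits_forget_commRingCat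

section Germ

variable (hX : IsAlgSpace X) (p : FieldPt X) (hp : p.IsGeometric)

/-- The germ map `Γ(E, O_E) → O_{X, p}` of an étale neighbourhood `(E, l)`. -/
noncomputable def germ (E : EtOver X) (l : (FieldPt.liftsTo p).obj E) :
    Γ(E.obj.left.left, ⊤) →+* ↥(OEtStalk p) :=
  (stalkEtι p (OEt X) ⟨E, l⟩).hom.comp
    (ULift.ringEquiv.symm : Γ(E.obj.left.left, ⊤) ≃+* ULift.{u + 1} Γ(E.obj.left.left, ⊤)).toRingHom

include hX hp

theorem germ_surjective (a : ↥(OEtStalk p)) :
    ∃ (E : EtOver X) (l : (FieldPt.liftsTo p).obj E) (s : Γ(E.obj.left.left, ⊤)),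
      germ p E l s = a := by
  obtain ⟨E, l, s, rfl⟩ := (etPoint hX p hp).toPresheafFiber_jointly_surjective
    (P := (OEt X).obj) a
  exact ⟨E, l, s.down, rfl⟩

theorem germ_res {E E' : EtOver X} (f : E' ⟶ E) (l' : (FieldPt.liftsTo p).obj E')
    (s : Γ(E.obj.left.left, ⊤)) :
    germ p E' l' (f.hom.left.left.appTop.hom s) = germ p E ((FieldPt.liftsTo p).map f l') s := by
  have := (etPoint hX p hp).toPresheafFiber_w_apply f l' (OEt X).obj ⟨s⟩
  exact this

theorem germ_eq_germ_iff {E : EtOver X} (l : (FieldPt.liftsTo p).obj E)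
    (s t : Γ(E.obj.left.left, ⊤)) :
    germ p E l s = germ p E l t ↔
      ∃ (Y : EtOver X) (f : Y ⟶ E) (y : (FieldPt.liftsTo p).obj Y),
        (FieldPt.liftsTo p).map f y = l ∧
          f.hom.left.left.appTop.hom s = f.hom.left.left.appTop.hom t := by
  have := (etPoint hX p hp).toPresheafFiber_eq_iff' (P := (OEt X).obj) E l ⟨s⟩ ⟨t⟩
  refine Iff.trans this ?_
  constructor
  · rintro ⟨Y, f, y, hy, hst⟩
    exact ⟨Y, f, y, hy, congrArg ULift.down hst⟩
  · rintro ⟨Y, f, y, hy, hst⟩
    exact ⟨Y, f, y, hy, congrArg ULift.up hst⟩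

/-- Two elements of the stalk are germs on a common neighbourhood. -/
theorem germ_surjective₂ (a b : ↥(OEtStalk p)) :
    ∃ (E : EtOver X) (l : (FieldPt.liftsTo p).obj E) (s t : Γ(E.obj.left.left, ⊤)),
      germ p E l s = a ∧ germ p E l t = b := by
  obtain ⟨E, l, s, t, rfl, rfl⟩ := (etPoint hX p hp).toPresheafFiber_jointly_surjective₂
    (P := (OEt X).obj) a b
  exact ⟨E, l, s.down, t.down, rfl, rfl⟩

end Germ

section Eval

variable (p : FieldPt X)

/-- Evaluation of a function on an étale neighbourhood at the geometric point. -/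
noncomputable def evalAt (E : EtOver X) (l : (FieldPt.liftsTo p).obj E) :
    Γ(E.obj.left.left, ⊤) →+* p.K :=
  (Scheme.ΓSpecIso (CommRingCat.of p.K)).hom.hom.comp l.1.left.appTop.hom

theorem evalAt_res {E E' : EtOver X} (f : E' ⟶ E) (l' : (FieldPt.liftsTo p).obj E')
    (s : Γ(E.obj.left.left, ⊤)) :
    evalAt p E' l' (f.hom.left.left.appTop.hom s) = evalAt p E ((FieldPt.liftsTo p).map f l') s := by
  have h1 : ((FieldPt.liftsTo p).map f l').1.left = l'.1.left ≫ f.hom.left.left := rfl
  simp only [evalAt, RingHom.comp_apply]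
  rw [h1, Scheme.Hom.comp_appTop]
  rfl

theorem evalAt_ne_zero_iff {E : EtOver X} (l : (FieldPt.liftsTo p).obj E)
    (s : Γ(E.obj.left.left, ⊤)) :
    evalAt p E l s ≠ 0 ↔
      l.1.left (IsLocalRing.closedPoint p.K) ∈ E.obj.left.left.basicOpen s := by
  have h1 : l.1.left (IsLocalRing.closedPoint p.K) ∈ E.obj.left.left.basicOpen s ↔
      IsLocalRing.closedPoint p.K ∈ l.1.left ⁻¹ᵁ E.obj.left.left.basicOpen s := Iff.rfl
  rw [h1, Scheme.preimage_basicOpen_top]
  have h2 : l.1.left.appTop.hom s =
      (Scheme.ΓSpecIso (CommRingCat.of p.K)).inv.hom (evalAt p E l s) := by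
    simp only [evalAt, RingHom.comp_apply]
    exact (Iso.hom_inv_id_apply (C := CommRingCat) _ _).symm
  rw [h2]
  have h3 : (Spec (CommRingCat.of p.K)).basicOpen
      ((Scheme.ΓSpecIso (CommRingCat.of p.K)).inv.hom (evalAt p E l s)) =
      PrimeSpectrum.basicOpen (evalAt p E l s) := basicOpen_eq_of_affine _
  change _ ↔ IsLocalRing.closedPoint p.K ∈ (Spec (CommRingCat.of p.K)).basicOpen
      ((Scheme.ΓSpecIso (CommRingCat.of p.K)).inv.hom (evalAt p E l s))
  rw [h3]
  change _ ↔ evalAt p E l s ∉ IsLocalRing.maximalIdeal p.K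
  rw [IsLocalRing.maximalIdeal_eq_bot]
  rfl

end Eval

section Local

variable (hX : IsAlgSpace X) (p : FieldPt X) (hp : p.IsGeometric)

include hp in
/-- Refinement of an étale neighbourhood to an open subscheme containing the point. -/
theorem exists_lift_open (E : EtOver X) (l : (FieldPt.liftsTo p).obj E)
    (V : E.obj.left.left.Opens) (hV : l.1.left (IsLocalRing.closedPoint p.K) ∈ V) :
    ∃ l' : (FieldPt.liftsTo p).obj (openObj E V), (FieldPt.liftsTo p).map (openHom E V) l' = l := by
  obtain ⟨y, hy, -⟩ := exists_lift_through p hp (openHom E V) l ⟨_, hV⟩ rfl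
  exact ⟨y, hy⟩

/-- The evaluation map on the étale local ring. -/
noncomputable def evStalk : ↥(OEtStalk p) →+* p.K :=
  (ULift.ringEquiv : ULift.{u + 1} p.K ≃+* p.K).toRingHom.comp
    ((etPoint hX p hp).presheafFiberDesc (P := (OEt X).obj)
      (T := CommRingCat.of (ULift.{u + 1} p.K))
      (fun E l => CommRingCat.ofHom
        ((ULift.ringEquiv.symm : p.K ≃+* ULift.{u + 1} p.K).toRingHom.comp
          ((evalAt p E l).comp
            (ULift.ringEquiv : ULift.{u + 1} Γ(E.obj.left.left, ⊤) ≃+* _).toRingHom)))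
      (by
        intro E' E f l'
        ext s
        exact evalAt_res p f l' s.down)).hom

theorem evStalk_germ (E : EtOver X) (l : (FieldPt.liftsTo p).obj E) (s : Γ(E.obj.left.left, ⊤)) :
    evStalk hX p hp (germ p E l s) = evalAt p E l s := by
  have := (etPoint hX p hp).toPresheafFiber_presheafFiberDesc (P := (OEt X).obj)
      (T := CommRingCat.of (ULift.{u + 1} p.K))
      (fun E l => CommRingCat.ofHom
        ((ULift.ringEquiv.symm : p.K ≃+* ULift.{u + 1} p.K).toRingHom.comp
          ((evalAt p E l).comp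
            (ULift.ringEquiv : ULift.{u + 1} Γ(E.obj.left.left, ⊤) ≃+* _).toRingHom)))
      (by
        intro E' E f l'
        ext s
        exact evalAt_res p f l' s.down) E l
  have h2 := congrArg (fun m => (m.hom ⟨s⟩).down) this
  exact h2

include hX hp in
theorem isUnit_germ_of_evalAt_ne_zero {E : EtOver X} (l : (FieldPt.liftsTo p).obj E)
    (s : Γ(E.obj.left.left, ⊤)) (h : evalAt p E l s ≠ 0) : IsUnit (germ p E l s) := by
  rw [evalAt_ne_zero_iff] at h
  obtain ⟨l', hl'⟩ := exists_lift_open p hp E l (E.obj.left.left.basicOpen s) h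
  rw [← hl', ← germ_res hX p hp]
  exact (isUnit_appTop_basicOpen s).map _

include hX hp in
theorem isUnit_iff_evStalk_ne_zero (a : ↥(OEtStalk p)) :
    IsUnit a ↔ evStalk hX p hp a ≠ 0 := by
  constructor
  · intro h
    exact (h.map (evStalk hX p hp)).ne_zero
  · intro h
    obtain ⟨E, l, s, rfl⟩ := germ_surjective hX p hp a
    rw [evStalk_germ] at h
    exact isUnit_germ_of_evalAt_ne_zero hX p hp l s h

include hX hp in
theorem isLocalRing_OEtStalk : IsLocalRing ↥(OEtStalk p) := by
  have hnt : Nontrivial ↥(OEtStalk p) := by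
    refine ⟨⟨0, 1, fun h => ?_⟩⟩
    have := congrArg (evStalk hX p hp) h
    rw [map_zero, map_one] at this
    exact zero_ne_one this
  refine IsLocalRing.of_isUnit_or_isUnit_one_sub_self fun a => ?_
  rw [isUnit_iff_evStalk_ne_zero hX p hp, isUnit_iff_evStalk_ne_zero hX p hp, map_sub, map_one]
  by_cases h : evStalk hX p hp a = 0
  · right
    rw [h, sub_zero]
    exact one_ne_zero
  · left
    exact h

end Local

end Groth.Agent.H3.AlgSpProp
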