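import Mathlib
import Groth.Agent.Lib.Helper3.AlgSpProp.OEtStalk
import Groth.Agent.Lib.Helper3.AlgSpProp.EtNbhd

set_option autoImplicit false
set_option linter.unusedSectionVars false
set_option backward.isDefEq.respectTransparency false

universe u

open CategoryTheory CategoryTheory.Limits AlgebraicGeometry MorphismProperty Opposite Topology

namespace Groth.Agent.H3.AlgSpProp

open _root_.AlgSp Groth.Agent.H5.AlgSp

variable {S : Scheme.{u}} {X : Sp S}

section EtObj

/-- A scheme étale over an object of the small étale site, as an object of the site. -/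
noncomputable def etObj (E : EtOver X) {W : Scheme.{u}} (g : W ⟶ E.obj.left.left) [Etale g] :
    EtOver X :=
  EtOver.mk ((yon S).map (Over.homMk (U := Over.mk (g ≫ E.obj.left.hom)) g rfl) ≫ E.obj.hom)
    ((repWith_isMultiplicative (S := S) @Etale).comp_mem _ _
      ((repWith_yon_map_iff _ _).2 ‹Etale g›) E.property)

noncomputable def etHom (E : EtOver X) {W : Scheme.{u}} (g : W ⟶ E.obj.left.left) [Etale g] :
    etObj E g ⟶ E :=
  EtOver.homMk (Over.homMk g rfl) rfl

/-- Lifting a lift of a point along an étale morphism, given a lift of scheme morphisms. -/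
noncomputable def liftEt (p : FieldPt X) (E : EtOver X) {W : Scheme.{u}} (g : W ⟶ E.obj.left.left)
    [Etale g] (l : (FieldPt.liftsTo p).obj E) (m : Spec (CommRingCat.of p.K) ⟶ W)
    (hm : m ≫ g = l.1.left) : (FieldPt.liftsTo p).obj (etObj E g) :=
  ⟨Over.homMk m (by
    change m ≫ g ≫ E.obj.left.hom = p.str
    rw [← Category.assoc, hm]
    exact Over.w l.1), by
    change (yon S).map _ ≫ (yon S).map _ ≫ E.obj.hom = p.toHom
    rw [← Category.assoc, ← Functor.map_comp]
    have : (Over.homMk m (by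
        change m ≫ g ≫ E.obj.left.hom = p.str
        rw [← Category.assoc, hm]
        exact Over.w l.1) : p.pt ⟶ Over.mk (g ≫ E.obj.left.hom)) ≫
        (Over.homMk g rfl : Over.mk (g ≫ E.obj.left.hom) ⟶ E.obj.left) = l.1 := by
      ext
      exact hm
    rw [this]
    exact l.2⟩

theorem liftEt_map (p : FieldPt X) (E : EtOver X) {W : Scheme.{u}} (g : W ⟶ E.obj.left.left)
    [Etale g] (l : (FieldPt.liftsTo p).obj E) (m : Spec (CommRingCat.of p.K) ⟶ W)
    (hm : m ≫ g = l.1.left) :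
    (FieldPt.liftsTo p).map (etHom E g) (liftEt p E g l m hm) = l := by
  apply Subtype.ext
  apply Over.OverMorphism.ext
  exact hm

end EtObj


section Common

variable (hX : IsAlgSpace X) (p : FieldPt X) (hp : p.IsGeometric)

include hX hp in
theorem exists_common_nbhd {E₁ E₂ : EtOver X} (l₁ : (FieldPt.liftsTo p).obj E₁)
    (l₂ : (FieldPt.liftsTo p).obj E₂) :
    ∃ (E₃ : EtOver X) (l₃ : (FieldPt.liftsTo p).obj E₃) (f₁ : E₃ ⟶ E₁) (f₂ : E₃ ⟶ E₂),
      (FieldPt.liftsTo p).map f₁ l₃ = l₁ ∧ (FieldPt.liftsTo p).map f₂ l₃ = l₂ := by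
  have := isCofiltered_etNbhd hX p hp
  let N₁ : EtNbhd p := ⟨E₁, l₁⟩
  let N₂ : EtNbhd p := ⟨E₂, l₂⟩
  exact ⟨(IsCofiltered.min N₁ N₂).1, (IsCofiltered.min N₁ N₂).2,
    (IsCofiltered.minToLeft N₁ N₂).1, (IsCofiltered.minToRight N₁ N₂).1,
    (IsCofiltered.minToLeft N₁ N₂).2, (IsCofiltered.minToRight N₁ N₂).2⟩

include hX hp in
theorem exists_germ_finset (s : Finset ↥(OEtStalk p)) :
    ∃ (E : EtOver X) (l : (FieldPt.liftsTo p).obj E), ∀ a ∈ s, ∃ t, germ p E l t = a := by
  classical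
  induction s using Finset.induction_on with
  | empty =>
    obtain ⟨E, l, -, -⟩ := germ_surjective hX p hp 0
    exact ⟨E, l, fun a ha => absurd ha (Finset.notMem_empty a)⟩
  | insert a s _ ih =>
    obtain ⟨E₁, l₁, h₁⟩ := ih
    obtain ⟨E₂, l₂, t₂, ht₂⟩ := germ_surjective hX p hp a
    obtain ⟨E₃, l₃, f₁, f₂, hf₁, hf₂⟩ := exists_common_nbhd hX p hp l₁ l₂
    refine ⟨E₃, l₃, fun b hb => ?_⟩
    rw [Finset.mem_insert] at hb
    rcases hb with rfl | hb
    · exact ⟨f₂.hom.left.left.appTop.hom t₂, by rw [germ_res hX p hp, hf₂, ht₂]⟩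
    · obtain ⟨t, ht⟩ := h₁ b hb
      exact ⟨f₁.hom.left.left.appTop.hom t, by rw [germ_res hX p hp, hf₁, ht]⟩

include hX hp in
theorem exists_monic_lift (f : Polynomial ↥(OEtStalk p)) (hf : f.Monic) :
    ∃ (E : EtOver X) (l : (FieldPt.liftsTo p).obj E) (F : Polynomial Γ(E.obj.left.left, ⊤)),
      F.Monic ∧ F.map (germ p E l) = f := by
  classical
  obtain ⟨E, l, hcoef⟩ := exists_germ_finset hX p hp (f.support.image f.coeff)
  have hlift : f ∈ Polynomial.lifts (germ p E l) := by
    rw [Polynomial.lifts_iff_coeff_lifts]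
    intro n
    by_cases hn : n ∈ f.support
    · exact hcoef _ (Finset.mem_image_of_mem _ hn)
    · rw [Polynomial.notMem_support_iff.1 hn]
      exact ⟨0, map_zero _⟩
  obtain ⟨F, hFf, -, hFm⟩ := Polynomial.lifts_and_natDegree_eq_and_monic hlift hf
  exact ⟨E, l, F, hFm, hFf⟩

end Common

theorem exists_etale_nbhd_of_algebra {Y : Scheme.{u}} {K : Type u} [Field K]
    (m₀ : Spec (CommRingCat.of K) ⟶ Y) (B : Type u) [CommRing B] [Algebra Γ(Y, ⊤) B]
    [Algebra.Etale Γ(Y, ⊤) B] (φ : B →+* K)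
    (hφ : φ.comp (algebraMap Γ(Y, ⊤) B) =
      (Scheme.ΓSpecIso (CommRingCat.of K)).hom.hom.comp m₀.appTop.hom) :
    ∃ (W : Scheme.{u}) (g : W ⟶ Y) (_ : Etale g) (m : Spec (CommRingCat.of K) ⟶ W)
      (ψ : B →+* Γ(W, ⊤)),
      m ≫ g = m₀ ∧ ψ.comp (algebraMap Γ(Y, ⊤) B) = g.appTop.hom ∧
      ((Scheme.ΓSpecIso (CommRingCat.of K)).hom.hom.comp m.appTop.hom).comp ψ = φ := by
  let α : Γ(Y, ⊤) ⟶ CommRingCat.of B := CommRingCat.ofHom (algebraMap Γ(Y, ⊤) B)
  have hα : Etale (Spec.map α) := by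
    rw [HasRingHomProperty.Spec_iff (P := @Etale)]
    exact RingHom.etale_algebraMap.2 inferInstance
  let φ' : CommRingCat.of B ⟶ CommRingCat.of K := CommRingCat.ofHom φ
  have hφ' : α ≫ φ' = m₀.appTop ≫ (Scheme.ΓSpecIso (CommRingCat.of K)).hom := by
    ext x
    exact congrArg (fun h => h x) hφ
  have hcond : m₀ ≫ Y.toSpecΓ = Spec.map φ' ≫ Spec.map α := by
    rw [Scheme.toSpecΓ_naturality, ← SpecMap_ΓSpecIso_hom, ← Spec.map_comp, ← Spec.map_comp, hφ']
  let W := pullback Y.toSpecΓ (Spec.map α)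
  let g : W ⟶ Y := pullback.fst _ _
  have hg : Etale g := inferInstance
  let m : Spec (CommRingCat.of K) ⟶ W := pullback.lift m₀ (Spec.map φ') hcond
  let ψ' : CommRingCat.of B ⟶ Γ(W, ⊤) :=
    (Scheme.ΓSpecIso (CommRingCat.of B)).inv ≫ (pullback.snd Y.toSpecΓ (Spec.map α)).appTop
  refine ⟨W, g, hg, m, ψ'.hom, pullback.lift_fst _ _ _, ?_, ?_⟩
  · have h1 : g ≫ Y.toSpecΓ = pullback.snd Y.toSpecΓ (Spec.map α) ≫ Spec.map α :=
      pullback.condition
    have h2 := congrArg Scheme.Hom.appTop h1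
    rw [Scheme.Hom.comp_appTop, Scheme.Hom.comp_appTop, Scheme.toSpecΓ_appTop] at h2
    have h3 : α ≫ ψ' = g.appTop := by
      change α ≫ (Scheme.ΓSpecIso (CommRingCat.of B)).inv ≫ _ = _
      rw [Scheme.ΓSpecIso_inv_naturality_assoc, ← h2, Iso.inv_hom_id_assoc]
    ext x
    exact congrArg (fun h => h.hom x) h3
  · have h1 : m ≫ pullback.snd Y.toSpecΓ (Spec.map α) = Spec.map φ' := pullback.lift_snd _ _ _
    have h2 := congrArg Scheme.Hom.appTop h1
    rw [Scheme.Hom.comp_appTop] at h2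
    have h3 : ψ' ≫ m.appTop ≫ (Scheme.ΓSpecIso (CommRingCat.of K)).hom = φ' := by
      change ((Scheme.ΓSpecIso (CommRingCat.of B)).inv ≫ _) ≫ _ = _
      rw [Category.assoc, ← Category.assoc (pullback.snd Y.toSpecΓ (Spec.map α)).appTop, h2,
        Scheme.ΓSpecIso_naturality, Iso.inv_hom_id_assoc]
    ext x
    exact congrArg (fun h => h.hom x) h3


section Hensel

variable (hX : IsAlgSpace X) (p : FieldPt X) (hp : p.IsGeometric)

open Polynomial in
include hX hp in
/-- The key lifting property: simple roots in the residue field of the geometric point lift. -/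
theorem exists_root_of_simple_root (f : Polynomial ↥(OEtStalk p)) (hf : f.Monic) (γ : p.K)
    (h0 : (f.map (evStalk hX p hp)).eval γ = 0)
    (h1 : (f.map (evStalk hX p hp)).derivative.eval γ ≠ 0) :
    ∃ a : ↥(OEtStalk p), f.IsRoot a ∧ evStalk hX p hp a = γ := by
  obtain ⟨E, l, F, hFm, hFf⟩ := exists_monic_lift hX p hp f hf
  let A := Γ(E.obj.left.left, ⊤)
  let P : StandardEtalePair A := ⟨F, hFm, derivative F, ⟨1, 0, 1, by simp⟩⟩
  let _ : Algebra A p.K := (evalAt p E l).toAlgebra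
  have hmap : F.map (evalAt p E l) = f.map (evStalk hX p hp) := by
    rw [← hFf, Polynomial.map_map]
    congr 1
    ext s
    exact (evStalk_germ hX p hp E l s).symm
  have hP : P.HasMap γ := by
    constructor
    · change aeval γ F = 0
      rw [aeval_def, ← Polynomial.eval_map]
      change eval γ (F.map (evalAt p E l)) = 0
      rw [hmap]
      exact h0
    · change IsUnit (aeval γ (derivative F))
      rw [isUnit_iff_ne_zero, aeval_def, ← Polynomial.eval_map]
      change eval γ ((derivative F).map (evalAt p E l)) ≠ 0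
      rw [← derivative_map, hmap]
      exact h1
  let φ : P.Ring →ₐ[A] p.K := P.lift γ hP
  have hφ : (φ : P.Ring →+* p.K).comp (algebraMap A P.Ring) =
      (Scheme.ΓSpecIso (CommRingCat.of p.K)).hom.hom.comp l.1.left.appTop.hom := by
    ext x
    exact φ.commutes x
  obtain ⟨W, g, hg, m, ψ, hmg, hψ, hψφ⟩ :=
    exists_etale_nbhd_of_algebra l.1.left P.Ring (φ : P.Ring →+* p.K) hφ
  let E' : EtOver X := etObj E g
  let l' : (FieldPt.liftsTo p).obj E' := liftEt p E g l m hmg
  have hl' : (FieldPt.liftsTo p).map (etHom E g) l' = l := liftEt_map p E g l m hmg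
  let θ : P.Ring →+* ↥(OEtStalk p) := (germ p E' l').comp ψ
  have hθ : θ.comp (algebraMap A P.Ring) = germ p E l := by
    ext x
    change germ p E' l' ((ψ.comp (algebraMap A P.Ring)) x) = _
    rw [hψ]
    have := germ_res hX p hp (etHom E g) l' x
    rw [hl'] at this
    exact this
  refine ⟨θ P.X, ?_, ?_⟩
  · change eval (θ P.X) f = 0
    rw [← hFf, ← hθ, Polynomial.eval_map, ← hom_eval₂]
    have : eval₂ (algebraMap A P.Ring) P.X F = 0 := P.hasMap_X.1
    rw [this, map_zero]
  · change evStalk hX p hp (germ p E' l' (ψ P.X)) = γ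
    rw [evStalk_germ]
    have h2 : evalAt p E' l' (ψ P.X) = φ P.X := congrArg (fun h => h P.X) hψφ
    rw [h2]
    exact P.lift_X γ hP

include hX hp in
theorem mem_maximalIdeal_OEtStalk_iff [IsLocalRing ↥(OEtStalk p)] (a : ↥(OEtStalk p)) :
    a ∈ IsLocalRing.maximalIdeal ↥(OEtStalk p) ↔ evStalk hX p hp a = 0 := by
  rw [IsLocalRing.mem_maximalIdeal, mem_nonunits_iff, isUnit_iff_evStalk_ne_zero hX p hp, not_not]

include hX hp in
theorem henselianLocalRing_OEtStalk : HenselianLocalRing ↥(OEtStalk p) := by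
  have hloc := isLocalRing_OEtStalk hX p hp
  refine { toIsLocalRing := hloc, is_henselian := fun f hf a₀ h₀ h₁ => ?_ }
  have e0 : (f.map (evStalk hX p hp)).eval (evStalk hX p hp a₀) = 0 := by
    rw [Polynomial.eval_map, Polynomial.eval₂_hom]
    exact (mem_maximalIdeal_OEtStalk_iff hX p hp _).1 h₀
  have e1 : (f.map (evStalk hX p hp)).derivative.eval (evStalk hX p hp a₀) ≠ 0 := by
    rw [Polynomial.derivative_map, Polynomial.eval_map, Polynomial.eval₂_hom]
    exact (isUnit_iff_evStalk_ne_zero hX p hp _).1 h₁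
  obtain ⟨a, ha, hav⟩ := exists_root_of_simple_root hX p hp f hf (evStalk hX p hp a₀) e0 e1
  refine ⟨a, ha, ?_⟩
  rw [mem_maximalIdeal_OEtStalk_iff hX p hp, map_sub, hav, sub_self]

include hX hp in
theorem isSepClosed_residueField_OEtStalk [IsLocalRing ↥(OEtStalk p)] :
    IsSepClosed (IsLocalRing.ResidueField ↥(OEtStalk p)) := by
  have hK : IsAlgClosed p.K := hp
  have hlh : IsLocalHom (evStalk hX p hp) :=
    ⟨fun a ha => (isUnit_iff_evStalk_ne_zero hX p hp a).2 ha.ne_zero⟩
  let ι : IsLocalRing.ResidueField ↥(OEtStalk p) →+* p.K :=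
    IsLocalRing.ResidueField.lift (evStalk hX p hp)
  have hι : ι.comp (IsLocalRing.residue ↥(OEtStalk p)) = evStalk hX p hp :=
    IsLocalRing.ResidueField.lift_comp_residue _
  refine IsSepClosed.of_exists_root _ fun q hqm hqi hqs => ?_
  have hlift : q ∈ Polynomial.lifts (IsLocalRing.residue ↥(OEtStalk p)) := by
    rw [Polynomial.lifts_iff_coeff_lifts]
    intro n
    exact IsLocalRing.residue_surjective _
  obtain ⟨Q, hQq, -, hQm⟩ := Polynomial.lifts_and_natDegree_eq_and_monic hlift hqm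
  have hQK : Q.map (evStalk hX p hp) = q.map ι := by
    rw [← hQq, Polynomial.map_map, hι]
  have hdeg : (q.map ι).degree ≠ 0 := by
    rw [Polynomial.degree_map]
    exact Polynomial.degree_pos_of_irreducible hqi |>.ne'
  obtain ⟨γ, hγ⟩ := IsAlgClosed.exists_root (q.map ι) hdeg
  have hsep : (q.map ι).Separable := hqs.map
  have hγ' : (q.map ι).derivative.eval γ ≠ 0 := by
    have := hsep.eval₂_derivative_ne_zero (RingHom.id p.K) (x := γ)
      (by rw [Polynomial.eval₂_id]; exact hγ)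
    rwa [Polynomial.eval₂_id] at this
  obtain ⟨a, ha, -⟩ := exists_root_of_simple_root hX p hp Q hQm γ (by rw [hQK]; exact hγ)
    (by rw [hQK]; exact hγ')
  refine ⟨IsLocalRing.residue _ a, ?_⟩
  rw [← hQq, Polynomial.eval_map, Polynomial.eval₂_hom]
  have : Polynomial.eval a Q = 0 := ha
  rw [this, map_zero]

include hX hp in
theorem isStrictlyHenselian_OEtStalk :
    EtCoh.IsStrictlyHenselianLocalRing ↥(OEtStalk p) :=
  ⟨henselianLocalRing_OEtStalk hX p hp,
    @isSepClosed_residueField_OEtStalk _ _ hX p hp (henselianLocalRing_OEtStalk hX p hp).toIsLocalRing⟩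

end Hensel

end Groth.Agent.H3.AlgSpProp
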