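import Mathlib
import Groth.Prelude.Def_Hensel
import Groth.Agent.Lib.Helper8.Hens.Pointed

/-!
# A criterion for strict henselizations (helper3)

A strictly henselian local ring `S` over a local ring `R` which is a "filtered union" of étale
algebras over a ring `A` of which `R` is an epimorphic image is a strict henselization of `R`.
-/

set_option autoImplicit false
set_option linter.unusedSectionVars false

universe v w

open IsLocalRing TensorProduct

namespace Groth.Agent.H3.StrictHensCrit

open Groth.Agent.H8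

section Crit

variable {A : Type v} [CommRing A] {R S : Type w} [CommRing R] [IsLocalRing R] [CommRing S]
  [IsLocalRing S] [Algebra A R] [Algebra R S] [Algebra A S] [IsScalarTower A R S]
  [IsLocalHom (algebraMap R S)]
  {ι : Type*} (B : ι → Type v) [∀ i, CommRing (B i)] [∀ i, Algebra A (B i)]
  [∀ i, Algebra.Etale A (B i)] (β : ∀ i, B i →ₐ[A] S)

/-- the residue field of `S` is separable over the residue field of `R` -/
theorem isSeparable_residueField
    (h1 : ∀ s : S, ∃ (i : ι) (b : B i), β i b = s) :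
    Algebra.IsSeparable (ResidueField R) (ResidueField S) := by
  refine ⟨fun x => ?_⟩
  obtain ⟨s, rfl⟩ := residue_surjective x
  obtain ⟨i, b, rfl⟩ := h1 s
  let k := ResidueField R
  let L := ResidueField S
  let C := k ⊗[A] B i
  let σ : B i →ₐ[A] L := (IsScalarTower.toAlgHom A S L).comp (β i)
  let ψ : C →ₐ[k] L := Algebra.TensorProduct.lift (Algebra.ofId k L) σ (fun _ _ => Commute.all _ _)
  have hψ : ψ (1 ⊗ₜ b) = residue S (β i b) := by
    change Algebra.TensorProduct.lift (Algebra.ofId k L) σ _ (1 ⊗ₜ b) = _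
    rw [Algebra.TensorProduct.lift_tmul, map_one, one_mul]
    rfl
  rw [← hψ]
  -- the image of `ψ` is a finite separable field extension
  have hfin : Module.Finite k C := Algebra.FormallyUnramified.finite_of_free k C
  have : IsArtinianRing C := IsArtinianRing.of_finite k C
  let 𝔪 : Ideal C := RingHom.ker ψ
  have h𝔪 : 𝔪.IsPrime := RingHom.ker_isPrime _
  have h𝔪' : 𝔪.IsMaximal := IsArtinianRing.isMaximal_of_isPrime 𝔪
  let _ : Field (C ⧸ 𝔪) := Ideal.Quotient.field 𝔪
  have hunr : Algebra.FormallyUnramified k (C ⧸ 𝔪) :=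
    Algebra.FormallyUnramified.of_surjective (Ideal.Quotient.mkₐ k 𝔪) Ideal.Quotient.mk_surjective
  have hsep : Algebra.IsSeparable k (C ⧸ 𝔪) := Algebra.FormallyUnramified.isSeparable k (C ⧸ 𝔪)
  let ψ' : C ⧸ 𝔪 →ₐ[k] L := Ideal.Quotient.liftₐ 𝔪 ψ (fun a ha => ha)
  have h3 : ψ (1 ⊗ₜ b) = ψ' (Ideal.Quotient.mk 𝔪 (1 ⊗ₜ b)) := rfl
  rw [h3]
  exact IsSeparable.map ψ' ψ'.toRingHom.injective (Algebra.IsSeparable.isSeparable k _)

end Crit


section Univ

variable {A : Type v} [CommRing A] {R S : Type w} [CommRing R] [IsLocalRing R] [CommRing S]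
  [IsLocalRing S] [Algebra A R] [Algebra R S] [Algebra A S] [IsScalarTower A R S]
  [IsLocalHom (algebraMap R S)]
  {ι : Type*} (B : ι → Type v) [∀ i, CommRing (B i)] [∀ i, Algebra A (B i)]
  [∀ i, Algebra.Etale A (B i)] (β : ∀ i, B i →ₐ[A] S)

variable {T : Type w} [CommRing T] [HenselianLocalRing T] [Algebra A T]
  (τ : ResidueField S →ₐ[A] ResidueField T)

/-- the point of `B i` with values in the residue field of `S` -/
noncomputable def pt (i : ι) : B i →ₐ[A] ResidueField S :=
  (IsScalarTower.toAlgHom A S (ResidueField S)).comp (β i)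

lemma pt_apply (i : ι) (b : B i) : pt B β i b = residue S (β i b) := rfl

lemma exists_lift (i : ι) : ∃ g : B i →ₐ[A] T, ∀ x, residue T (g x) = τ (pt B β i x) :=
  Hens.exists_algHom_of_henselian (pt B β i) τ

/-- the canonical lift of the chart `B i` to `T` -/
noncomputable def lift (i : ι) : B i →ₐ[A] T := (exists_lift B β τ i).choose

lemma residue_lift (i : ι) (x : B i) : residue T (lift B β τ i x) = τ (residue S (β i x)) :=
  (exists_lift B β τ i).choose_spec x

lemma lift_unique (i : ι) (g : B i →ₐ[A] T) (hg : ∀ x, residue T (g x) = τ (residue S (β i x))) :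
    g = lift B β τ i := by
  apply Hens.algHom_ext_of_sub_mem_maximalIdeal
  intro x
  rw [← residue_eq_zero_iff, map_sub, hg, residue_lift, sub_self]

lemma lift_comp {i j : ι} (φ : B i →ₐ[A] B j) (hφ : (β j).comp φ = β i) :
    (lift B β τ j).comp φ = lift B β τ i := by
  apply lift_unique
  intro x
  rw [AlgHom.comp_apply, residue_lift, ← hφ]
  rfl

variable (h1 : ∀ s : S, ∃ (i : ι) (b : B i), β i b = s)
  (h2 : ∀ i j : ι, ∃ (k : ι) (φ₁ : B i →ₐ[A] B k) (φ₂ : B j →ₐ[A] B k),
    (β k).comp φ₁ = β i ∧ (β k).comp φ₂ = β j)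
  (h3 : ∀ (i : ι) (b : B i), β i b = 0 → ∃ (k : ι) (φ : B i →ₐ[A] B k),
    (β k).comp φ = β i ∧ φ b = 0)

include h2 h3 in
lemma lift_eq_of_eq {i j : ι} (b : B i) (b' : B j) (h : β i b = β j b') :
    lift B β τ i b = lift B β τ j b' := by
  obtain ⟨k, φ₁, φ₂, hφ₁, hφ₂⟩ := h2 i j
  have h0 : β k (φ₁ b - φ₂ b') = 0 := by
    rw [map_sub, ← AlgHom.comp_apply, ← AlgHom.comp_apply, hφ₁, hφ₂, h, sub_self]
  obtain ⟨m, φ, hφ, hφ0⟩ := h3 k _ h0
  rw [map_sub, sub_eq_zero] at hφ0
  rw [← lift_comp B β τ φ₁ hφ₁, ← lift_comp B β τ φ₂ hφ₂, ← lift_comp B β τ φ hφ]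
  simp only [AlgHom.comp_apply, hφ0]

/-- the underlying function of the induced map -/
noncomputable def descFun (s : S) : T :=
  lift B β τ (h1 s).choose (h1 s).choose_spec.choose

include h2 h3 in
lemma descFun_eq (i : ι) (b : B i) : descFun B β τ h1 (β i b) = lift B β τ i b := by
  apply lift_eq_of_eq B β τ h2 h3
  exact (h1 (β i b)).choose_spec.choose_spec

include h2 h3 in
lemma descFun_add (s s' : S) :
    descFun B β τ h1 (s + s') = descFun B β τ h1 s + descFun B β τ h1 s' := by
  obtain ⟨i, b, rfl⟩ := h1 s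
  obtain ⟨j, b', rfl⟩ := h1 s'
  obtain ⟨k, φ₁, φ₂, hφ₁, hφ₂⟩ := h2 i j
  rw [← hφ₁, ← hφ₂]
  simp only [AlgHom.comp_apply]
  rw [← map_add, descFun_eq B β τ h1 h2 h3, descFun_eq B β τ h1 h2 h3,
    descFun_eq B β τ h1 h2 h3, map_add]

include h2 h3 in
lemma descFun_mul (s s' : S) :
    descFun B β τ h1 (s * s') = descFun B β τ h1 s * descFun B β τ h1 s' := by
  obtain ⟨i, b, rfl⟩ := h1 s
  obtain ⟨j, b', rfl⟩ := h1 s'
  obtain ⟨k, φ₁, φ₂, hφ₁, hφ₂⟩ := h2 i j
  rw [← hφ₁, ← hφ₂]
  simp only [AlgHom.comp_apply]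
  rw [← map_mul, descFun_eq B β τ h1 h2 h3, descFun_eq B β τ h1 h2 h3,
    descFun_eq B β τ h1 h2 h3, map_mul]

include h2 h3 in
lemma descFun_algebraMap (a : A) : descFun B β τ h1 (algebraMap A S a) = algebraMap A T a := by
  obtain ⟨i, -, -⟩ := h1 0
  rw [← (β i).commutes a, descFun_eq B β τ h1 h2 h3, AlgHom.commutes]

/-- the induced map `S → T` -/
noncomputable def desc : S →ₐ[A] T where
  toFun := descFun B β τ h1
  map_one' := by
    have := descFun_algebraMap B β τ h1 h2 h3 1
    rwa [map_one, map_one] at this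
  map_mul' := descFun_mul B β τ h1 h2 h3
  map_zero' := by
    have := descFun_algebraMap B β τ h1 h2 h3 0
    rwa [map_zero, map_zero] at this
  map_add' := descFun_add B β τ h1 h2 h3
  commutes' := descFun_algebraMap B β τ h1 h2 h3

lemma desc_apply (i : ι) (b : B i) : desc B β τ h1 h2 h3 (β i b) = lift B β τ i b :=
  descFun_eq B β τ h1 h2 h3 i b

lemma residue_desc (s : S) : residue T (desc B β τ h1 h2 h3 s) = τ (residue S s) := by
  obtain ⟨i, b, rfl⟩ := h1 s
  rw [desc_apply, residue_lift]

include h1 in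
lemma desc_unique (g : S →ₐ[A] T) (hg : ∀ s, residue T (g s) = τ (residue S s)) :
    g = desc B β τ h1 h2 h3 := by
  ext s
  obtain ⟨i, b, rfl⟩ := h1 s
  rw [desc_apply, ← lift_unique B β τ i (g.comp (β i)) (fun x => hg _)]
  rfl

end Univ


section Main

variable {A : Type v} [CommRing A] {R S : Type w} [CommRing R] [IsLocalRing R] [CommRing S]
  [IsLocalRing S] [Algebra A R] [Algebra R S] [Algebra A S] [IsScalarTower A R S]
  [IsLocalHom (algebraMap R S)]
  {ι : Type*} (B : ι → Type v) [∀ i, CommRing (B i)] [∀ i, Algebra A (B i)]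
  [∀ i, Algebra.Etale A (B i)] (β : ∀ i, B i →ₐ[A] S)

/-- **Criterion**: a strictly henselian local `R`-algebra `S` (with `R → S` local) which is a
filtered union of étale `A`-algebras, where `A → R` is an epimorphism of rings, is a strict
henselization of `R`. -/
theorem isStrictHenselization
    (hepi : ∀ (T : Type w) [CommRing T] (f g : R →+* T),
      f.comp (algebraMap A R) = g.comp (algebraMap A R) → f = g)
    (hS : HenselianLocalRing S) (hsc : IsSepClosed (ResidueField S))
    (h1 : ∀ s : S, ∃ (i : ι) (b : B i), β i b = s)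
    (h2 : ∀ i j : ι, ∃ (k : ι) (φ₁ : B i →ₐ[A] B k) (φ₂ : B j →ₐ[A] B k),
      (β k).comp φ₁ = β i ∧ (β k).comp φ₂ = β j)
    (h3 : ∀ (i : ι) (b : B i), β i b = 0 → ∃ (k : ι) (φ : B i →ₐ[A] B k),
      (β k).comp φ = β i ∧ φ b = 0) :
    Hensel.IsStrictHenselization R S where
  henselian := hS
  isSepClosure := ⟨hsc, isSeparable_residueField B β h1⟩
  universal T _ _ f _ τ hτ := by
    let _ : Algebra A T := (f.comp (algebraMap A R)).toAlgebra
    have hAT : ∀ a : A, algebraMap A T a = f (algebraMap A R a) := fun a => rfl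
    let τA : ResidueField S →ₐ[A] ResidueField T :=
      { τ with
        commutes' := fun a => by
          show τ (residue S (algebraMap A S a)) = residue T (algebraMap A T a)
          rw [IsScalarTower.algebraMap_apply A R S, ← ResidueField.map_residue, hAT,
            ← ResidueField.map_residue f]
          exact congrArg (fun w => w (residue R (algebraMap A R a))) hτ }
    have hτA : ∀ x, τA x = τ x := fun x => rfl
    refine ⟨(desc B β τA h1 h2 h3).toRingHom, ⟨?_, ?_⟩, ?_⟩
    · apply hepi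
      ext a
      show desc B β τA h1 h2 h3 (algebraMap R S (algebraMap A R a)) = f (algebraMap A R a)
      rw [← IsScalarTower.algebraMap_apply A R S, AlgHom.commutes]
      rfl
    · intro x
      exact residue_desc B β τA h1 h2 h3 x
    · rintro g ⟨hg1, hg2⟩
      let g' : S →ₐ[A] T :=
        { g with
          commutes' := fun a => by
            show g (algebraMap A S a) = f (algebraMap A R a)
            rw [IsScalarTower.algebraMap_apply A R S]
            exact congrArg (fun w => w (algebraMap A R a)) hg1 }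
      have := desc_unique B β τA h1 h2 h3 g' (fun s => hg2 s)
      rw [← this]

end Main

end Groth.Agent.H3.StrictHensCrit
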