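import Mathlib
import Groth.Agent.Lib.Helper3.AlgSpProp.OEtHensel
import Groth.Agent.Lib.Helper3.AlgSpProp.StrictHensCrit

/-!
# The étale local ring of an algebraic space is a strict henselization (helper3)
-/

set_option autoImplicit false
set_option linter.unusedSectionVars false
set_option backward.isDefEq.respectTransparency false

universe u

open CategoryTheory CategoryTheory.Limits AlgebraicGeometry MorphismProperty Opposite Topology

namespace Groth.Agent.H3.AlgSpProp

open _root_.AlgSp Groth.Agent.H5.AlgSp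

variable {S : Scheme.{u}} {X : Sp S}

attribute [local instance] hasColimitsOfSize_commRingCat preservesFilteredColimits_forget_commRingCat

section Good

variable (hX : IsAlgSpace X) (p : FieldPt X) (hp : p.IsGeometric)
  (E : EtOver X) (l : (FieldPt.liftsTo p).obj E)

/-- an affine étale neighbourhood of `p` over the neighbourhood `(E, l)` -/
structure GoodNbhd where
  N : EtOver X
  l' : (FieldPt.liftsTo p).obj N
  b : N ⟶ E
  hb : (FieldPt.liftsTo p).map b l' = l
  aff : IsAffine N.obj.left.left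

variable {p E l}

/-- the ring of functions of a good neighbourhood -/
abbrev GoodNbhd.B (g : GoodNbhd p E l) : Type u := Γ(g.N.obj.left.left, ⊤)

include hX hp in
theorem exists_equalizing_nbhd {E₁ E₂ : EtOver X} (l₁ : (FieldPt.liftsTo p).obj E₁)
    (l₂ : (FieldPt.liftsTo p).obj E₂) (f g : E₁ ⟶ E₂)
    (hf : (FieldPt.liftsTo p).map f l₁ = l₂) (hg : (FieldPt.liftsTo p).map g l₁ = l₂) :
    ∃ (E₃ : EtOver X) (l₃ : (FieldPt.liftsTo p).obj E₃) (h : E₃ ⟶ E₁),
      (FieldPt.liftsTo p).map h l₃ = l₁ ∧ h ≫ f = h ≫ g := by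
  have := isCofiltered_etNbhd hX p hp
  let N₁ : EtNbhd p := ⟨E₁, l₁⟩
  let N₂ : EtNbhd p := ⟨E₂, l₂⟩
  let f' : N₁ ⟶ N₂ := ⟨f, hf⟩
  let g' : N₁ ⟶ N₂ := ⟨g, hg⟩
  refine ⟨(IsCofiltered.eq f' g').1, (IsCofiltered.eq f' g').2, (IsCofiltered.eqHom f' g').1,
    (IsCofiltered.eqHom f' g').2, ?_⟩
  exact congrArg Subtype.val (IsCofiltered.eq_condition f' g')

include hp in
/-- every neighbourhood over `(E, l)` can be refined to a good one -/
theorem exists_good_refinement (Y : EtOver X) (y : (FieldPt.liftsTo p).obj Y) (f : Y ⟶ E)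
    (hf : (FieldPt.liftsTo p).map f y = l) :
    ∃ (g : GoodNbhd p E l) (m : g.N ⟶ Y), (FieldPt.liftsTo p).map m g.l' = y ∧ m ≫ f = g.b := by
  obtain ⟨W', hW, hyW, -⟩ := exists_isAffineOpen_mem_and_subset
    (x := y.1.left (IsLocalRing.closedPoint p.K)) (U := (⊤ : Y.obj.left.left.Opens)) trivial
  obtain ⟨l', hl'⟩ := exists_lift_open p hp Y y W' hyW
  refine ⟨⟨openObj Y W', l', openHom Y W' ≫ f, ?_, hW⟩, openHom Y W', hl', rfl⟩
  rw [Functor.map_comp_apply, hl', hf]

end Good


section Alg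

variable (hX : IsAlgSpace X) (p : FieldPt X) (hp : p.IsGeometric)
  (E : EtOver X) (l : (FieldPt.liftsTo p).obj E)

/-- the image of the geometric point in the neighbourhood -/
noncomputable abbrev ptOf : ↥E.obj.left.left := l.1.left (IsLocalRing.closedPoint p.K)

variable [hE : IsAffine E.obj.left.left]

/-- the prime ideal of the point -/
noncomputable abbrev primeOf : PrimeSpectrum Γ(E.obj.left.left, ⊤) :=
  (isAffineOpen_top E.obj.left.left).primeIdealOf ⟨ptOf p E l, trivial⟩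

noncomputable instance algSectionStalk :
    Algebra Γ(E.obj.left.left, ⊤) (E.obj.left.left.presheaf.stalk (ptOf p E l)) :=
  TopCat.Presheaf.algebra_section_stalk E.obj.left.left.presheaf
    (⟨ptOf p E l, trivial⟩ : (⊤ : E.obj.left.left.Opens))

lemma algebraMap_stalk_eq (a : Γ(E.obj.left.left, ⊤)) :
    algebraMap Γ(E.obj.left.left, ⊤) (E.obj.left.left.presheaf.stalk (ptOf p E l)) a =
      E.obj.left.left.presheaf.germ ⊤ (ptOf p E l) trivial a := rfl

instance isLocalization_stalk_ptOf :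
    IsLocalization.AtPrime (E.obj.left.left.presheaf.stalk (ptOf p E l)) (primeOf p E l).asIdeal :=
  (isAffineOpen_top E.obj.left.left).isLocalization_stalk ⟨ptOf p E l, trivial⟩

lemma mem_primeCompl_iff (a : Γ(E.obj.left.left, ⊤)) :
    a ∈ (primeOf p E l).asIdeal.primeCompl ↔ evalAt p E l a ≠ 0 := by
  rw [evalAt_ne_zero_iff,
    ← IsLocalization.AtPrime.isUnit_to_map_iff (E.obj.left.left.presheaf.stalk (ptOf p E l))
      (primeOf p E l).asIdeal a, algebraMap_stalk_eq]
  exact (E.obj.left.left.mem_basicOpen a (ptOf p E l) trivial).symm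

include hX hp in
lemma isUnit_germ_of_mem_primeCompl (a : (primeOf p E l).asIdeal.primeCompl) :
    IsUnit (germ p E l a) :=
  isUnit_germ_of_evalAt_ne_zero hX p hp l a ((mem_primeCompl_iff p E l a).1 a.2)

/-- the canonical map from the local ring of the neighbourhood to the étale local ring -/
noncomputable def stalkToOEt :
    E.obj.left.left.presheaf.stalk (ptOf p E l) →+* ↥(OEtStalk p) :=
  IsLocalization.lift (M := (primeOf p E l).asIdeal.primeCompl) (g := germ p E l)
    (isUnit_germ_of_mem_primeCompl hX p hp E l)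

lemma stalkToOEt_algebraMap (a : Γ(E.obj.left.left, ⊤)) :
    stalkToOEt hX p hp E l (algebraMap _ _ a) = germ p E l a :=
  IsLocalization.lift_eq _ a

lemma isLocalHom_stalkToOEt : IsLocalHom (stalkToOEt hX p hp E l) := by
  have := isLocalRing_OEtStalk hX p hp
  constructor
  intro r hr
  obtain ⟨a, y, rfl⟩ := IsLocalization.exists_mk'_eq (primeOf p E l).asIdeal.primeCompl r
  have h1 : stalkToOEt hX p hp E l (IsLocalization.mk' _ a y) * germ p E l y = germ p E l a := by
    rw [← stalkToOEt_algebraMap hX p hp E l y, ← map_mul, IsLocalization.mk'_spec,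
      stalkToOEt_algebraMap]
  have h2 : IsUnit (germ p E l a) := by
    rw [← h1]
    exact hr.mul (isUnit_germ_of_mem_primeCompl hX p hp E l y)
  have h3 : evalAt p E l a ≠ 0 := by
    rw [← evStalk_germ hX p hp]
    exact (isUnit_iff_evStalk_ne_zero hX p hp _).1 h2
  have h4 : a ∈ (primeOf p E l).asIdeal.primeCompl := (mem_primeCompl_iff p E l a).2 h3
  rw [IsLocalization.AtPrime.isUnit_mk'_iff (E.obj.left.left.presheaf.stalk (ptOf p E l))
    (primeOf p E l).asIdeal]
  exact h4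

end Alg


section GoodLemmas

variable (hX : IsAlgSpace X) (p : FieldPt X) (hp : p.IsGeometric)
  (E : EtOver X) (l : (FieldPt.liftsTo p).obj E)

include hX hp in
theorem good_h1 (s : ↥(OEtStalk p)) :
    ∃ (g : GoodNbhd p E l) (b : Γ(g.N.obj.left.left, ⊤)), germ p g.N g.l' b = s := by
  obtain ⟨E', l', t, rfl⟩ := germ_surjective hX p hp s
  obtain ⟨E₃, l₃, f₁, f₂, hf₁, hf₂⟩ := exists_common_nbhd hX p hp l' l
  obtain ⟨g, m, hm, -⟩ := exists_good_refinement hp E₃ l₃ f₂ hf₂
  refine ⟨g, (m ≫ f₁).hom.left.left.appTop.hom t, ?_⟩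
  rw [germ_res hX p hp, Functor.map_comp_apply, hm, hf₁]

include hX hp in
theorem good_h2 (g₁ g₂ : GoodNbhd p E l) :
    ∃ (g₃ : GoodNbhd p E l) (m₁ : g₃.N ⟶ g₁.N) (m₂ : g₃.N ⟶ g₂.N),
      (FieldPt.liftsTo p).map m₁ g₃.l' = g₁.l' ∧ m₁ ≫ g₁.b = g₃.b ∧
      (FieldPt.liftsTo p).map m₂ g₃.l' = g₂.l' ∧ m₂ ≫ g₂.b = g₃.b := by
  obtain ⟨E₃, l₃, f₁, f₂, hf₁, hf₂⟩ := exists_common_nbhd hX p hp g₁.l' g₂.l'
  obtain ⟨E₄, l₄, h, hh, heq⟩ := exists_equalizing_nbhd hX hp l₃ l (f₁ ≫ g₁.b) (f₂ ≫ g₂.b)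
    (by rw [Functor.map_comp_apply, hf₁, g₁.hb]) (by rw [Functor.map_comp_apply, hf₂, g₂.hb])
  obtain ⟨g₃, m, hm, hmb⟩ := exists_good_refinement hp E₄ l₄ (h ≫ f₁ ≫ g₁.b)
    (by rw [Functor.map_comp_apply, Functor.map_comp_apply, hh, hf₁, g₁.hb])
  refine ⟨g₃, m ≫ h ≫ f₁, m ≫ h ≫ f₂, ?_, ?_, ?_, ?_⟩
  · rw [Functor.map_comp_apply, Functor.map_comp_apply, hm, hh, hf₁]
  · rw [← hmb]; simp only [Category.assoc]
  · rw [Functor.map_comp_apply, Functor.map_comp_apply, hm, hh, hf₂]
  · rw [← hmb, heq]; simp only [Category.assoc]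

include hX hp in
theorem good_h3 (g : GoodNbhd p E l) (b : Γ(g.N.obj.left.left, ⊤))
    (hb : germ p g.N g.l' b = 0) :
    ∃ (g' : GoodNbhd p E l) (m : g'.N ⟶ g.N),
      (FieldPt.liftsTo p).map m g'.l' = g.l' ∧ m ≫ g.b = g'.b ∧
      m.hom.left.left.appTop.hom b = 0 := by
  rw [← map_zero (germ p g.N g.l'), germ_eq_germ_iff hX p hp] at hb
  obtain ⟨Y, f, y, hy, hst⟩ := hb
  rw [map_zero] at hst
  obtain ⟨g', m, hm, hmb⟩ := exists_good_refinement hp Y y (f ≫ g.b)
    (by rw [Functor.map_comp_apply, hy, g.hb])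
  refine ⟨g', m ≫ f, ?_, ?_, ?_⟩
  · rw [Functor.map_comp_apply, hm, hy]
  · rw [← hmb, Category.assoc]
  · have : (m ≫ f).hom.left.left = m.hom.left.left ≫ f.hom.left.left := rfl
    rw [this, Scheme.Hom.comp_appTop]
    change m.hom.left.left.appTop.hom (f.hom.left.left.appTop.hom b) = 0
    rw [hst, map_zero]

end GoodLemmas


section Main

variable (hX : IsAlgSpace X) (p : FieldPt X) (hp : p.IsGeometric)
  (E : EtOver X) (l : (FieldPt.liftsTo p).obj E) [hE : IsAffine E.obj.left.left]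

include hX hp in
/-- **The étale local ring is a strict henselization** of the local ring of any affine étale
neighbourhood at the image of the geometric point. -/
theorem exists_isStrictHenselization_OEtStalk :
    ∃ (_ : IsLocalRing ↥(OEtStalk p))
      (_ : IsLocalRing (ULift.{u + 1} (E.obj.left.left.presheaf.stalk (ptOf p E l))))
      (_ : Algebra (ULift.{u + 1} (E.obj.left.left.presheaf.stalk (ptOf p E l))) ↥(OEtStalk p))
      (_ : IsLocalHom (algebraMap (ULift.{u + 1} (E.obj.left.left.presheaf.stalk (ptOf p E l)))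
        ↥(OEtStalk p))),
      Hensel.IsStrictHenselization
        (ULift.{u + 1} (E.obj.left.left.presheaf.stalk (ptOf p E l))) ↥(OEtStalk p) := by
  have i1 := isLocalRing_OEtStalk hX p hp
  let e : ULift.{u + 1} (E.obj.left.left.presheaf.stalk (ptOf p E l)) ≃+*
      E.obj.left.left.presheaf.stalk (ptOf p E l) := ULift.ringEquiv
  have i2 : IsLocalRing (ULift.{u + 1} (E.obj.left.left.presheaf.stalk (ptOf p E l))) :=
    e.symm.isLocalRing
  let alg : Algebra (ULift.{u + 1} (E.obj.left.left.presheaf.stalk (ptOf p E l)))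
      ↥(OEtStalk p) := ((stalkToOEt hX p hp E l).comp e.toRingHom).toAlgebra
  have halg : ∀ r, algebraMap (ULift.{u + 1} (E.obj.left.left.presheaf.stalk (ptOf p E l)))
      ↥(OEtStalk p) r = stalkToOEt hX p hp E l (e r) := fun r => rfl
  have hloc : IsLocalHom (algebraMap
      (ULift.{u + 1} (E.obj.left.left.presheaf.stalk (ptOf p E l))) ↥(OEtStalk p)) := by
    have := isLocalHom_stalkToOEt hX p hp E l
    constructor
    intro r hr
    rw [halg] at hr
    have h1 : IsUnit (e r) := this.map_nonunit _ hr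
    exact (isUnit_map_iff e r).1 h1
  refine ⟨i1, i2, alg, hloc, ?_⟩
  let algA : Algebra Γ(E.obj.left.left, ⊤) ↥(OEtStalk p) := (germ p E l).toAlgebra
  have halgA : ∀ a, algebraMap Γ(E.obj.left.left, ⊤) ↥(OEtStalk p) a = germ p E l a := fun a => rfl
  have : IsScalarTower Γ(E.obj.left.left, ⊤)
      (ULift.{u + 1} (E.obj.left.left.presheaf.stalk (ptOf p E l))) ↥(OEtStalk p) :=
    IsScalarTower.of_algebraMap_eq (fun a => (stalkToOEt_algebraMap hX p hp E l a).symm)
  let algB : ∀ g : GoodNbhd p E l, Algebra Γ(E.obj.left.left, ⊤) Γ(g.N.obj.left.left, ⊤) :=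
    fun g => g.b.hom.left.left.appTop.hom.toAlgebra
  have halgB : ∀ (g : GoodNbhd p E l) a, algebraMap Γ(E.obj.left.left, ⊤)
      Γ(g.N.obj.left.left, ⊤) a = g.b.hom.left.left.appTop.hom a := fun g a => rfl
  have het : ∀ g : GoodNbhd p E l, Algebra.Etale Γ(E.obj.left.left, ⊤) Γ(g.N.obj.left.left, ⊤) := by
    intro g
    have h1 : Etale g.b.hom.left.left := EtOver.etale_left g.b
    have h2 := g.aff
    exact HasRingHomProperty.appTop (P := @Etale) _ h1
  let β : ∀ g : GoodNbhd p E l, Γ(g.N.obj.left.left, ⊤) →ₐ[Γ(E.obj.left.left, ⊤)] ↥(OEtStalk p) :=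
    fun g => { germ p g.N g.l' with
      commutes' := fun a => by
        show germ p g.N g.l' (g.b.hom.left.left.appTop.hom a) = germ p E l a
        rw [germ_res hX p hp, g.hb] }
  have hβ : ∀ (g : GoodNbhd p E l) x, β g x = germ p g.N g.l' x := fun g x => rfl
  have hmap : ∀ (g g' : GoodNbhd p E l) (m : g'.N ⟶ g.N),
      (FieldPt.liftsTo p).map m g'.l' = g.l' → m ≫ g.b = g'.b →
      ∃ φ : Γ(g.N.obj.left.left, ⊤) →ₐ[Γ(E.obj.left.left, ⊤)] Γ(g'.N.obj.left.left, ⊤),
        (β g').comp φ = β g ∧ ∀ x, φ x = m.hom.left.left.appTop.hom x := by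
    intro g g' m hm hmb
    refine ⟨{ m.hom.left.left.appTop.hom with
      commutes' := fun a => by
        show m.hom.left.left.appTop.hom (g.b.hom.left.left.appTop.hom a) =
          g'.b.hom.left.left.appTop.hom a
        rw [← hmb]
        have : (m ≫ g.b).hom.left.left = m.hom.left.left ≫ g.b.hom.left.left := rfl
        rw [this, Scheme.Hom.comp_appTop]
        rfl }, ?_, fun x => rfl⟩
    ext x
    show germ p g'.N g'.l' (m.hom.left.left.appTop.hom x) = germ p g.N g.l' x
    rw [germ_res hX p hp, hm]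
  refine StrictHensCrit.isStrictHenselization
    (fun g : GoodNbhd p E l => Γ(g.N.obj.left.left, ⊤)) β ?_
    (henselianLocalRing_OEtStalk hX p hp) (isSepClosed_residueField_OEtStalk hX p hp) ?_ ?_ ?_
  · intro T _ f g hfg
    have h1 : (f.comp e.symm.toRingHom).comp (algebraMap Γ(E.obj.left.left, ⊤) _) =
        (g.comp e.symm.toRingHom).comp (algebraMap Γ(E.obj.left.left, ⊤) _) := by
      ext a
      exact congrArg (fun w => w a) hfg
    have h2 := IsLocalization.ringHom_ext (primeOf p E l).asIdeal.primeCompl h1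
    ext r
    have := congrArg (fun w => w (e r)) h2
    simpa using this
  · intro s
    obtain ⟨g, b, hb⟩ := good_h1 hX p hp E l s
    exact ⟨g, b, hb⟩
  · intro g₁ g₂
    obtain ⟨g₃, m₁, m₂, h1, h2, h3, h4⟩ := good_h2 hX p hp E l g₁ g₂
    obtain ⟨φ₁, hφ₁, -⟩ := hmap g₁ g₃ m₁ h1 h2
    obtain ⟨φ₂, hφ₂, -⟩ := hmap g₂ g₃ m₂ h3 h4
    exact ⟨g₃, φ₁, φ₂, hφ₁, hφ₂⟩
  · intro g b hb
    obtain ⟨g', m, h1, h2, h3⟩ := good_h3 hX p hp E l g b hb
    obtain ⟨φ, hφ, hφx⟩ := hmap g g' m h1 h2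
    exact ⟨g', φ, hφ, (hφx b).trans h3⟩

end Main

end Groth.Agent.H3.AlgSpProp
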