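import Mathlib
import Groth.Agent.Lib.Helper3.AlgSpProp.OEtStrict
import Groth.Agent.Lib.Helper8.Hens.Strict

/-!
# The étale local ring as a strict henselization, with explicit structure map (helper3)
-/

set_option autoImplicit false
set_option linter.unusedSectionVars false
set_option backward.isDefEq.respectTransparency false

universe u

open CategoryTheory CategoryTheory.Limits AlgebraicGeometry MorphismProperty Opposite Topology

namespace Groth.Agent.H3.AlgSpProp

open _root_.AlgSp Groth.Agent.H5.AlgSp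

variable {S : Scheme.{u}} {X : Sp S}

attribute [local instance] hasColimitsOfSize_commRingCat preservesFilteredColimits_forget_commRingCat

section Main

variable (hX : IsAlgSpace X) (p : FieldPt X) (hp : p.IsGeometric)
  (E : EtOver X) (l : (FieldPt.liftsTo p).obj E) [hE : IsAffine E.obj.left.left]

/-- the explicit algebra structure of the étale local ring over the lifted local ring of an affine
étale neighbourhood -/
@[reducible] noncomputable def algULift :
    Algebra (ULift.{u + 1} (E.obj.left.left.presheaf.stalk (ptOf p E l))) ↥(OEtStalk p) :=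
  ((stalkToOEt hX p hp E l).comp
    (ULift.ringEquiv : ULift.{u + 1} (E.obj.left.left.presheaf.stalk (ptOf p E l)) ≃+* _).toRingHom).toAlgebra

include hX hp in
theorem exists_isStrictHenselization_OEtStalk_explicit :
    ∃ (i1 : IsLocalRing ↥(OEtStalk p))
      (i2 : IsLocalRing (ULift.{u + 1} (E.obj.left.left.presheaf.stalk (ptOf p E l))))
      (hloc : @IsLocalHom _ _ _ _ _ _ (@algebraMap _ _ _ _ (algULift hX p hp E l))),
      @Hensel.IsStrictHenselization
        (ULift.{u + 1} (E.obj.left.left.presheaf.stalk (ptOf p E l))) ↥(OEtStalk p) _ i2 _ i1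
        (algULift hX p hp E l) hloc := by
  have i1 := isLocalRing_OEtStalk hX p hp
  let e : ULift.{u + 1} (E.obj.left.left.presheaf.stalk (ptOf p E l)) ≃+*
      E.obj.left.left.presheaf.stalk (ptOf p E l) := ULift.ringEquiv
  have i2 : IsLocalRing (ULift.{u + 1} (E.obj.left.left.presheaf.stalk (ptOf p E l))) :=
    e.symm.isLocalRing
  letI alg : Algebra (ULift.{u + 1} (E.obj.left.left.presheaf.stalk (ptOf p E l)))
      ↥(OEtStalk p) := algULift hX p hp E l
  have halg : ∀ r, algebraMap (ULift.{u + 1} (E.obj.left.left.presheaf.stalk (ptOf p E l)))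
      ↥(OEtStalk p) r = stalkToOEt hX p hp E l (e r) := fun r => rfl
  have hloc : IsLocalHom (algebraMap
      (ULift.{u + 1} (E.obj.left.left.presheaf.stalk (ptOf p E l))) ↥(OEtStalk p)) := by
    have := isLocalHom_stalkToOEt hX p hp E l
    constructor
    intro r hr
    rw [halg] at hr
    have h1 : IsUnit (e r) := this.map_nonunit _ hr
    exact (isUnit_map_iff e r).1 h1
  refine ⟨i1, i2, hloc, ?_⟩
  let algA : Algebra Γ(E.obj.left.left, ⊤) ↥(OEtStalk p) := (germ p E l).toAlgebra
  have halgA : ∀ a, algebraMap Γ(E.obj.left.left, ⊤) ↥(OEtStalk p) a = germ p E l a := fun a => rfl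
  have : IsScalarTower Γ(E.obj.left.left, ⊤)
      (ULift.{u + 1} (E.obj.left.left.presheaf.stalk (ptOf p E l))) ↥(OEtStalk p) :=
    IsScalarTower.of_algebraMap_eq (fun a => (stalkToOEt_algebraMap hX p hp E l a).symm)
  let algB : ∀ g : GoodNbhd p E l, Algebra Γ(E.obj.left.left, ⊤) Γ(g.N.obj.left.left, ⊤) :=
    fun g => g.b.hom.left.left.appTop.hom.toAlgebra
  have halgB : ∀ (g : GoodNbhd p E l) a, algebraMap Γ(E.obj.left.left, ⊤)
      Γ(g.N.obj.left.left, ⊤) a = g.b.hom.left.left.appTop.hom a := fun g a => rfl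
  have het : ∀ g : GoodNbhd p E l, Algebra.Etale Γ(E.obj.left.left, ⊤) Γ(g.N.obj.left.left, ⊤) := by
    intro g
    have h1 : Etale g.b.hom.left.left := EtOver.etale_left g.b
    have h2 := g.aff
    exact HasRingHomProperty.appTop (P := @Etale) _ h1
  let β : ∀ g : GoodNbhd p E l, Γ(g.N.obj.left.left, ⊤) →ₐ[Γ(E.obj.left.left, ⊤)] ↥(OEtStalk p) :=
    fun g => { germ p g.N g.l' with
      commutes' := fun a => by
        show germ p g.N g.l' (g.b.hom.left.left.appTop.hom a) = germ p E l a
        rw [germ_res hX p hp, g.hb] }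
  have hβ : ∀ (g : GoodNbhd p E l) x, β g x = germ p g.N g.l' x := fun g x => rfl
  have hmap : ∀ (g g' : GoodNbhd p E l) (m : g'.N ⟶ g.N),
      (FieldPt.liftsTo p).map m g'.l' = g.l' → m ≫ g.b = g'.b →
      ∃ φ : Γ(g.N.obj.left.left, ⊤) →ₐ[Γ(E.obj.left.left, ⊤)] Γ(g'.N.obj.left.left, ⊤),
        (β g').comp φ = β g ∧ ∀ x, φ x = m.hom.left.left.appTop.hom x := by
    intro g g' m hm hmb
    refine ⟨{ m.hom.left.left.appTop.hom with
      commutes' := fun a => by
        show m.hom.left.left.appTop.hom (g.b.hom.left.left.appTop.hom a) =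
          g'.b.hom.left.left.appTop.hom a
        rw [← hmb]
        have : (m ≫ g.b).hom.left.left = m.hom.left.left ≫ g.b.hom.left.left := rfl
        rw [this, Scheme.Hom.comp_appTop]
        rfl }, ?_, fun x => rfl⟩
    ext x
    show germ p g'.N g'.l' (m.hom.left.left.appTop.hom x) = germ p g.N g.l' x
    rw [germ_res hX p hp, hm]
  refine StrictHensCrit.isStrictHenselization
    (fun g : GoodNbhd p E l => Γ(g.N.obj.left.left, ⊤)) β ?_
    (henselianLocalRing_OEtStalk hX p hp) (isSepClosed_residueField_OEtStalk hX p hp) ?_ ?_ ?_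
  · intro T _ f g hfg
    have h1 : (f.comp e.symm.toRingHom).comp (algebraMap Γ(E.obj.left.left, ⊤) _) =
        (g.comp e.symm.toRingHom).comp (algebraMap Γ(E.obj.left.left, ⊤) _) := by
      ext a
      exact congrArg (fun w => w a) hfg
    have h2 := IsLocalization.ringHom_ext (primeOf p E l).asIdeal.primeCompl h1
    ext r
    have := congrArg (fun w => w (e r)) h2
    simpa using this
  · intro s
    obtain ⟨g, b, hb⟩ := good_h1 hX p hp E l s
    exact ⟨g, b, hb⟩
  · intro g₁ g₂
    obtain ⟨g₃, m₁, m₂, h1, h2, h3, h4⟩ := good_h2 hX p hp E l g₁ g₂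
    obtain ⟨φ₁, hφ₁, -⟩ := hmap g₁ g₃ m₁ h1 h2
    obtain ⟨φ₂, hφ₂, -⟩ := hmap g₂ g₃ m₂ h3 h4
    exact ⟨g₃, φ₁, φ₂, hφ₁, hφ₂⟩
  · intro g b hb
    obtain ⟨g', m, h1, h2, h3⟩ := good_h3 hX p hp E l g b hb
    obtain ⟨φ, hφ, hφx⟩ := hmap g g' m h1 h2
    exact ⟨g', φ, hφ, (hφx b).trans h3⟩


lemma algebraMap_algULift (r : ULift.{u + 1} (E.obj.left.left.presheaf.stalk (ptOf p E l))) :
    @algebraMap _ _ _ _ (algULift hX p hp E l) r = stalkToOEt hX p hp E l r.down := rfl

lemma algebraMap_algULift_germ (s : Γ(E.obj.left.left, ⊤)) :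
    @algebraMap _ _ _ _ (algULift hX p hp E l)
      (ULift.up (E.obj.left.left.presheaf.germ ⊤ (ptOf p E l) trivial s)) = germ p E l s :=
  stalkToOEt_algebraMap hX p hp E l s

end Main

end Groth.Agent.H3.AlgSpProp
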