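import Mathlib
import Groth.Agent.Lib.Helper3.AlgSpProp.OEtStrict
import Groth.Agent.Lib.Helper3.AlgSpProp.GeomPoint
import Groth.Agent.Lib.Helper3.AlgSpProp.EtPoint
import Groth.Agent.Lib.Helper3.AlgSpProp.Vanishing
import Groth.Agent.Lib.Helper8.Hens.Dim
import Groth.Agent.Lib.Helper8.Hens.Noeth

/-!
# Consequences of the strict henselization property of étale local rings (helper3)
-/

set_option autoImplicit false
set_option linter.unusedSectionVars false
set_option backward.isDefEq.respectTransparency false

universe u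

open CategoryTheory CategoryTheory.Limits AlgebraicGeometry MorphismProperty Opposite Topology

namespace Groth.Agent.H3.AlgSpProp

open _root_.AlgSp Groth.Agent.H5.AlgSp

variable {S : Scheme.{u}} {X : Sp S}

section Lift

variable (hX : IsAlgSpace X) (p : FieldPt X) (hp : p.IsGeometric)

include hp in
/-- a geometric point lifts to any étale chart through any point over it -/
theorem exists_lift_at {U : Over S} (a : (yon S).obj U ⟶ X) (hae : RepWith @Etale a)
    (u : ↥U.left) (hu : Points.ofPt a u = Points.mk p) :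
    ∃ l : (FieldPt.liftsTo p).obj (EtOver.mk a hae), l.1.left (IsLocalRing.closedPoint p.K) = u := by
  obtain ⟨ubar, h1, h2⟩ := exists_lift_geometric_point (IsAlgSpace.yon_obj U) a
    (isEtaleMor_of_repWith a hae) p hp (Points.ofScheme U u)
    (by rw [← Points.ofPt_eq_map_ofScheme, hu])
  obtain ⟨u', hu'⟩ := (yon S).map_surjective ubar
  refine ⟨⟨u', by rw [hu']; exact h1⟩, ?_⟩
  have h3 := congrArg (Points.toScheme U) h2
  rw [← hu', Points.toScheme_ofPt, Points.toScheme_ofScheme] at h3
  exact h3

include hp in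
/-- a geometric point has an affine étale neighbourhood inside any étale chart through any point
over it, with the same local ring -/
theorem exists_affine_nbhd_at {U : Over S} (a : (yon S).obj U ⟶ X) (hae : RepWith @Etale a)
    (u : ↥U.left) (hu : Points.ofPt a u = Points.mk p) :
    ∃ (E : EtOver X) (l : (FieldPt.liftsTo p).obj E), IsAffine E.obj.left.left ∧
      Nonempty (E.obj.left.left.presheaf.stalk (ptOf p E l) ≃+* U.left.presheaf.stalk u) := by
  obtain ⟨l, hl⟩ := exists_lift_at p hp a hae u hu
  obtain ⟨W, hW, huW, -⟩ := exists_isAffineOpen_mem_and_subset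
    (x := u) (U := (⊤ : U.left.Opens)) trivial
  let E₀ : EtOver X := EtOver.mk a hae
  let W' : E₀.obj.left.left.Opens := W
  obtain ⟨l', hl'⟩ := exists_lift_open p hp E₀ l W' (by rw [hl]; exact huW)
  refine ⟨openObj E₀ W', l', hW, ?_⟩
  have h1 : W'.ι (ptOf p (openObj E₀ W') l') = u := by
    have := congrArg (fun z => z.1.left (IsLocalRing.closedPoint p.K)) hl'
    exact this.trans hl
  have e1 := (Scheme.Opens.stalkIso (X := U.left) W (ptOf p (openObj E₀ W') l'))
  have e2 : U.left.presheaf.stalk (W'.ι (ptOf p (openObj E₀ W') l')) ≃+* U.left.presheaf.stalk u :=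
    (U.left.presheaf.stalkCongr (Inseparable.of_eq h1)).commRingCatIsoToRingEquiv
  exact ⟨e1.commRingCatIsoToRingEquiv.trans e2⟩

include hX hp in
/-- every geometric point has an affine étale neighbourhood -/
theorem exists_affine_nbhd :
    ∃ (E : EtOver X) (l : (FieldPt.liftsTo p).obj E), IsAffine E.obj.left.left := by
  obtain ⟨U, a, hae, has⟩ := hX.atlas
  obtain ⟨u, hu⟩ := ofPt_surjective_of_repWith has (Points.mk p)
  obtain ⟨E, l, hE, -⟩ := exists_affine_nbhd_at p hp a hae u hu
  exact ⟨E, l, hE⟩

end Lift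

section Props

variable (hX : IsAlgSpace X) (p : FieldPt X) (hp : p.IsGeometric)
  (E : EtOver X) (l : (FieldPt.liftsTo p).obj E) [hE : IsAffine E.obj.left.left]

include hX hp in
theorem ringKrullDim_OEtStalk_eq :
    ringKrullDim ↥(OEtStalk p) = ringKrullDim (E.obj.left.left.presheaf.stalk (ptOf p E l)) := by
  obtain ⟨i1, i2, alg, hloc, hsh⟩ := exists_isStrictHenselization_OEtStalk hX p hp E l
  rw [Groth.Agent.H8.Hens.ringKrullDim_eq_of_isStrictHenselization
    (R := ULift.{u + 1} (E.obj.left.left.presheaf.stalk (ptOf p E l))) ↥(OEtStalk p)]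
  exact ringKrullDim_eq_of_ringEquiv ULift.ringEquiv

include hX hp in
theorem isNoetherianRing_OEtStalk_iff :
    IsNoetherianRing ↥(OEtStalk p) ↔
      IsNoetherianRing (E.obj.left.left.presheaf.stalk (ptOf p E l)) := by
  obtain ⟨i1, i2, alg, hloc, hsh⟩ := exists_isStrictHenselization_OEtStalk hX p hp E l
  rw [← Groth.Agent.H8.Hens.isNoetherianRing_iff_of_isStrictHenselization
    (R := ULift.{u + 1} (E.obj.left.left.presheaf.stalk (ptOf p E l))) ↥(OEtStalk p)]
  exact ⟨fun h => isNoetherianRing_of_ringEquiv _ ULift.ringEquiv,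
    fun h => isNoetherianRing_of_ringEquiv _ ULift.ringEquiv.symm⟩

end Props

end Groth.Agent.H3.AlgSpProp
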