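import Mathlib
import Groth.Agent.Lib.Helper3.AlgSpProp.OEtStalk
import Groth.Agent.Lib.Helper3.AlgSpProp.HasAt

set_option autoImplicit false
set_option linter.unusedSectionVars false
set_option backward.isDefEq.respectTransparency false

universe u

open CategoryTheory CategoryTheory.Limits AlgebraicGeometry MorphismProperty Opposite Topology

namespace Groth.Agent.H3.AlgSpProp

open _root_.AlgSp Groth.Agent.H5.AlgSp

variable {S : Scheme.{u}} {X : Sp S}

/-- A global function whose germ at `e` vanishes restricts to zero on an open neighbourhood. -/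
lemma exists_open_appTop_eq_zero {Y : Scheme.{u}} (t : Γ(Y, ⊤)) (e : ↥Y)
    (h : Y.presheaf.germ ⊤ e trivial t = 0) :
    ∃ V : Y.Opens, e ∈ V ∧ V.ι.appTop.hom t = 0 := by
  have h' : Y.presheaf.germ ⊤ e trivial t = Y.presheaf.germ ⊤ e trivial 0 := by rw [h, map_zero]
  obtain ⟨W, hW, iU, iV, hUV⟩ := Y.presheaf.germ_eq (U := ⊤) (V := ⊤) e trivial trivial t 0 h'
  let W' : Y.Opens := W
  refine ⟨W', hW, ?_⟩
  rw [Scheme.Opens.ι_appTop]
  have hle : W'.ι ''ᵁ ⊤ ≤ W' := by rw [Scheme.Opens.ι_image_top]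
  have : (homOfLE (le_top : W'.ι ''ᵁ ⊤ ≤ ⊤)).op = iU.op ≫ (homOfLE hle).op := rfl
  rw [this, Y.presheaf.map_comp, CommRingCat.comp_apply, hUV, map_zero, map_zero]

theorem isReduced_OEtStalk_of_hasAt (hX : IsAlgSpace X) (p : FieldPt X) (hp : p.IsGeometric)
    (h : HasAt (fun U u => _root_.IsReduced ↥(U.presheaf.stalk u)) X (Points.mk p)) :
    _root_.IsReduced ↥(OEtStalk p) := by
  have hall := (hasAt_iff_forall etaleLocalAt_isReduced_stalk hX _).1 h
  refine ⟨fun a ha => ?_⟩
  obtain ⟨n, hn⟩ := ha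
  obtain ⟨E, l, s, rfl⟩ := germ_surjective hX p hp a
  rw [← map_pow, ← map_zero (germ p E l), germ_eq_germ_iff hX p hp] at hn
  obtain ⟨Y, f, y, hy, hst⟩ := hn
  rw [map_pow, map_zero] at hst
  rw [← hy, ← germ_res hX p hp]
  set t := f.hom.left.left.appTop.hom s with ht
  have hred : _root_.IsReduced ↥(Y.obj.left.left.presheaf.stalk
      (y.1.left (IsLocalRing.closedPoint p.K))) :=
    hall Y.obj.left Y.obj.hom _ Y.property (ofPt_lift_closedPoint p y)
  have hg : Y.obj.left.left.presheaf.germ ⊤ (y.1.left (IsLocalRing.closedPoint p.K)) trivial t = 0 := by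
    apply IsReduced.eq_zero
    exact ⟨n, by rw [← map_pow, hst, map_zero]⟩
  obtain ⟨V, hV, htV⟩ := exists_open_appTop_eq_zero t _ hg
  obtain ⟨l', hl'⟩ := exists_lift_open p hp Y y V hV
  rw [← hl', ← germ_res hX p hp]
  have : (openHom Y V).hom.left.left.appTop.hom t = 0 := htV
  rw [this, map_zero]


/-- Vanishing of germs descends along flat morphisms. -/
lemma germ_eq_zero_of_flat {Y Z : Scheme.{u}} (f : Y ⟶ Z) [Flat f] (y : ↥Y) (s : Γ(Z, ⊤))
    (z : ↥Z) (hz : f y = z)
    (h : Y.presheaf.germ ⊤ y trivial (f.appTop.hom s) = 0) :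
    Z.presheaf.germ ⊤ z trivial s = 0 := by
  subst hz
  have hfl : (f.stalkMap y).hom.Flat := Flat.stalkMap f y
  algebraize [(f.stalkMap y).hom]
  have hloc : IsLocalHom (algebraMap (Z.presheaf.stalk (f y)) (Y.presheaf.stalk y)) :=
    inferInstanceAs (IsLocalHom (f.stalkMap y).hom)
  have : Module.FaithfullyFlat (Z.presheaf.stalk (f y)) (Y.presheaf.stalk y) :=
    Module.FaithfullyFlat.of_flat_of_isLocalHom
  apply FaithfulSMul.algebraMap_injective (Z.presheaf.stalk (f y)) (Y.presheaf.stalk y)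
  rw [map_zero]
  have := Scheme.Hom.germ_stalkMap_apply f ⊤ y trivial s
  exact this.trans h

theorem hasAt_of_isReduced_OEtStalk (hX : IsAlgSpace X) (p : FieldPt X) (hp : p.IsGeometric)
    (h : _root_.IsReduced ↥(OEtStalk p)) :
    HasAt (fun U u => _root_.IsReduced ↥(U.presheaf.stalk u)) X (Points.mk p) := by
  obtain ⟨U, a, hae, has⟩ := hX.atlas
  obtain ⟨l⟩ := nonempty_liftsTo_of_surjective p hp a hae has
  set E : EtOver X := EtOver.mk a hae with hE
  set u : ↥U.left := l.1.left (IsLocalRing.closedPoint p.K) with hu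
  refine ⟨U, a, u, hae, ofPt_lift_closedPoint p l, ⟨fun b hb => ?_⟩⟩
  obtain ⟨n, hn⟩ := hb
  obtain ⟨V, hV, s, rfl⟩ := TopCat.Presheaf.exists_germ_eq U.left.presheaf b
  let VS : Scheme.{u} := Scheme.Opens.toScheme (X := U.left) V
  let u' : ↥V := ⟨u, hV⟩
  let E₁ : EtOver X := openObj E V
  obtain ⟨l₁, hl₁, hl₁u⟩ := exists_lift_through p hp (openHom E V) l u' rfl
  let s' : Γ(VS, ⊤) := (Scheme.Opens.topIso (X := U.left) V).inv.hom s
  have hc : U.left.presheaf.germ V u hV s =
      (Scheme.Opens.stalkIso (X := U.left) V u').hom.hom (VS.presheaf.germ ⊤ u' trivial s') := by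
    have h1 := Scheme.Opens.germ_stalkIso_hom (X := U.left) V (V := ⊤) u' trivial
    have h2 := congrArg (fun m => m.hom s') h1
    refine Eq.trans ?_ h2.symm
    have h3 : ∀ (W : U.left.Opens) (hW : u ∈ W) (i : W ⟶ V),
        U.left.presheaf.germ V u hV s =
          U.left.presheaf.germ W u hW (U.left.presheaf.map i.op s) :=
      fun W hW i => (TopCat.Presheaf.germ_res_apply U.left.presheaf i u hW s).symm
    exact h3 _ _ (eqToHom (Scheme.Opens.ι_image_top (X := U.left) V))
  rw [hc] at hn ⊢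
  rw [← map_pow, ← map_pow] at hn
  have hinj : Function.Injective (Scheme.Opens.stalkIso (X := U.left) V u').hom.hom :=
    ((ConcreteCategory.isIso_iff_bijective (Scheme.Opens.stalkIso (X := U.left) V u').hom).1
      inferInstance).1
  rw [← map_zero (Scheme.Opens.stalkIso (X := U.left) V u').hom.hom] at hn
  have hn' := hinj hn
  suffices hs : VS.presheaf.germ ⊤ u' trivial s' = 0 by rw [hs, map_zero]
  obtain ⟨W', hW', htW⟩ := exists_open_appTop_eq_zero (Y := VS) (s' ^ n) u' hn'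
  let E₂ : EtOver X := openObj E₁ W'
  obtain ⟨l₂, hl₂, hl₂u⟩ := exists_lift_through p hp (openHom E₁ W') l₁ ⟨u', hW'⟩ hl₁u.symm
  let t : Γ(E₂.obj.left.left, ⊤) := W'.ι.appTop.hom s'
  have htn : t ^ n = 0 := (map_pow W'.ι.appTop.hom s' n).symm.trans htW
  have hg0 : germ p E₂ l₂ t = germ p E₂ l₂ 0 := by
    rw [map_zero]
    apply IsReduced.eq_zero
    exact ⟨n, by rw [← map_pow, htn, map_zero]⟩
  obtain ⟨Y, f, y, hy, hft⟩ := (germ_eq_germ_iff hX p hp l₂ t 0).1 hg0
  rw [map_zero] at hft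
  have : Etale (f ≫ openHom E₁ W').hom.left.left := EtOver.etale_left _
  refine germ_eq_zero_of_flat (Z := VS) (f ≫ openHom E₁ W').hom.left.left
    (y.1.left (IsLocalRing.closedPoint p.K)) s' u' ?_ ?_
  · have h1 := congrArg (fun z => z.1.left (IsLocalRing.closedPoint p.K)) hy
    have h2 : f.hom.left.left (y.1.left (IsLocalRing.closedPoint p.K)) = ⟨u', hW'⟩ :=
      h1.trans hl₂u
    change W'.ι (f.hom.left.left (y.1.left (IsLocalRing.closedPoint p.K))) = u'
    rw [h2]
    rfl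
  · have h3 : (f ≫ openHom E₁ W').hom.left.left = f.hom.left.left ≫ W'.ι := rfl
    rw [h3, Scheme.Hom.comp_appTop]
    change Y.obj.left.left.presheaf.germ ⊤ _ trivial (f.hom.left.left.appTop.hom t) = 0
    rw [hft, map_zero]

end Groth.Agent.H3.AlgSpProp
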