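import Mathlib
import Groth.Prelude.Def_Hensel
import Groth.Agent.Lib.Helper3.AlgSpProp.StrictHensCrit
import Groth.Agent.Lib.Helper8.Hens.IndEtale
import Groth.Agent.Lib.Helper8.Hens.Strict
import Groth.Agent.Lib.Helper8.Hens.StrictTransfer
import Groth.Agent.Lib.Helper8.Hens.UniqueMinPrime

/-!
# Strict henselizations and universe lifts (helper3)

The universe lift of the strict henselization of a local ring `R : Type u` is a strict
henselization of `ULift R` in the next universe.  Hence every strict henselization of `ULift R`
is isomorphic, as a ring, to the strict henselization of `R`.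
-/

set_option autoImplicit false
set_option linter.unusedSectionVars false

universe u v

open IsLocalRing TensorProduct Polynomial

namespace Groth.Agent.H3.ULiftStrict

open Groth.Agent.H8.Hens Groth.Agent.H4.IndEtCrit

lemma mem_maximalIdeal_iff_of_ringEquiv {R : Type u} {R' : Type v} [CommRing R] [CommRing R']
    [IsLocalRing R] [IsLocalRing R'] (e : R ≃+* R') (x : R) :
    e x ∈ maximalIdeal R' ↔ x ∈ maximalIdeal R := by
  rw [mem_maximalIdeal, mem_maximalIdeal, mem_nonunits_iff, mem_nonunits_iff, isUnit_map_iff e x]

/-- being henselian is invariant under ring isomorphisms, across universes -/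
theorem henselianLocalRing_of_ringEquiv {R : Type u} {R' : Type v} [CommRing R] [CommRing R']
    [hR : HenselianLocalRing R] (e : R ≃+* R') : HenselianLocalRing R' := by
  have := e.isLocalRing
  refine { is_henselian := fun f hf a₀ h1 h2 => ?_ }
  have hev : ∀ (q : R'[X]) (a : R'),
      (q.map (e.symm : R' →+* R)).eval (e.symm a) = e.symm (q.eval a) := fun q a => by
    rw [Polynomial.eval_map]
    exact (Polynomial.hom_eval₂ q (RingHom.id R') (e.symm : R' →+* R) a).symm.trans (by simp)
  obtain ⟨a, ha, haa⟩ := hR.is_henselian (f.map (e.symm : R' →+* R)) (hf.map _) (e.symm a₀)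
    (by rw [hev]; exact (mem_maximalIdeal_iff_of_ringEquiv e.symm _).2 h1)
    (by rw [Polynomial.derivative_map, hev]; exact (isUnit_map_iff e.symm _).2 h2)
  refine ⟨e a, ?_, ?_⟩
  · have h3 : e.symm (f.eval (e a)) = 0 := by
      rw [← hev, e.symm_apply_apply]; exact ha
    rw [Polynomial.IsRoot.def]
    exact (map_eq_zero_iff _ e.symm.injective).1 h3
  · have : e a - a₀ = e (a - e.symm a₀) := by simp
    rw [this]
    exact (mem_maximalIdeal_iff_of_ringEquiv e _).2 haa


section Main

variable (R : Type u) [CommRing R] [IsLocalRing R]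

/-- index: étale algebras mapping to the strict henselization -/
structure EtIdx where
  C : Type u
  [ring : CommRing C]
  [alg : Algebra R C]
  [et : Algebra.Etale R C]
  g : C →ₐ[R] StrictHenselization R

attribute [instance] EtIdx.ring EtIdx.alg EtIdx.et

/-- The universe lift of the strict henselization is a strict henselization of the universe lift. -/
theorem exists_isStrictHenselization_ulift :
    ∃ (_ : IsLocalRing (ULift.{u + 1} R))
      (_ : IsLocalRing (ULift.{u + 1} (StrictHenselization R)))
      (_ : Algebra (ULift.{u + 1} R) (ULift.{u + 1} (StrictHenselization R)))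
      (_ : IsLocalHom (algebraMap (ULift.{u + 1} R) (ULift.{u + 1} (StrictHenselization R)))),
      Hensel.IsStrictHenselization (ULift.{u + 1} R) (ULift.{u + 1} (StrictHenselization R)) := by
  have hsh := isStrictHenselization (R := R)
  let eR : ULift.{u + 1} R ≃+* R := ULift.ringEquiv
  let eS : ULift.{u + 1} (StrictHenselization R) ≃+* StrictHenselization R := ULift.ringEquiv
  have i1 : IsLocalRing (ULift.{u + 1} R) := eR.symm.isLocalRing
  have i2 : IsLocalRing (ULift.{u + 1} (StrictHenselization R)) := eS.symm.isLocalRing
  let alg : Algebra (ULift.{u + 1} R) (ULift.{u + 1} (StrictHenselization R)) :=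
    ((eS.symm.toRingHom.comp (algebraMap R (StrictHenselization R))).comp eR.toRingHom).toAlgebra
  have halg : ∀ r, algebraMap (ULift.{u + 1} R) (ULift.{u + 1} (StrictHenselization R)) r =
      eS.symm (algebraMap R (StrictHenselization R) (eR r)) := fun r => rfl
  have hloc : IsLocalHom (algebraMap (ULift.{u + 1} R) (ULift.{u + 1} (StrictHenselization R))) := by
    constructor
    intro r hr
    rw [halg, isUnit_map_iff eS.symm] at hr
    exact (isUnit_map_iff eR r).1 (isUnit_of_map_unit (algebraMap R (StrictHenselization R)) _ hr)
  refine ⟨i1, i2, alg, hloc, ?_⟩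
  have hS : HenselianLocalRing (ULift.{u + 1} (StrictHenselization R)) :=
    henselianLocalRing_of_ringEquiv eS.symm
  have hsc0 : IsSepClosed (ResidueField (StrictHenselization R)) := hsh.isSepClosure.sep_closed
  have hsc : IsSepClosed (ResidueField (ULift.{u + 1} (StrictHenselization R))) :=
    isSepClosed_of_ringEquiv (ResidueField.mapEquiv eS.symm)
  have hcrit : Crit R (StrictHenselization R) := crit_H
  have : @IsScalarTower R (ULift.{u + 1} R) (ULift.{u + 1} (StrictHenselization R))
      Algebra.toSMul Algebra.toSMul Algebra.toSMul :=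
    IsScalarTower.of_algebraMap_eq fun _ => rfl
  let β : ∀ i : EtIdx R, i.C →ₐ[R] ULift.{u + 1} (StrictHenselization R) := fun i =>
    (ULift.algEquiv (R := R) (A := StrictHenselization R)).symm.toAlgHom.comp i.g
  have hβ : ∀ (i : EtIdx R) x, β i x = ULift.up (i.g x) := fun i x => rfl
  refine StrictHensCrit.isStrictHenselization (A := R) (fun i : EtIdx R => i.C) β ?_ hS hsc ?_ ?_ ?_
  · intro T _ f g hfg
    ext r
    have := congrArg (fun w => w r.down) hfg
    exact this
  · intro s
    obtain ⟨C, _, _, _, g, c, hc⟩ := hcrit.lift s.down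
    exact ⟨⟨C, g⟩, c, by rw [hβ]; exact congrArg ULift.up hc⟩
  · intro i j
    refine ⟨⟨i.C ⊗[R] j.C, Algebra.TensorProduct.lift i.g j.g (fun _ _ => Commute.all _ _)⟩,
      Algebra.TensorProduct.includeLeft, Algebra.TensorProduct.includeRight, ?_, ?_⟩
    · ext x
      rw [AlgHom.comp_apply, hβ, hβ]
      simp
    · ext x
      rw [AlgHom.comp_apply, hβ, hβ]
      simp
  · intro i b hb
    have hb' : i.g b = 0 := by
      have := congrArg ULift.down hb
      rwa [hβ] at this
    obtain ⟨C', _, _, _, h, g', hg', hh⟩ := hcrit.kill i.C i.g b hb'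
    refine ⟨⟨C', g'⟩, h, ?_, hh⟩
    ext x
    rw [AlgHom.comp_apply, hβ, hβ]
    exact congrArg (fun w => w x) hg'

end Main


/-- Any strict henselization of `ULift R` in the next universe is isomorphic, as a ring, to the
strict henselization of `R`. -/
theorem nonempty_ringEquiv_strictHenselization (R : Type u) [CommRing R] [IsLocalRing R]
    (S : Type (u + 1)) [CommRing S] [IsLocalRing S] [IsLocalRing (ULift.{u + 1} R)]
    [Algebra (ULift.{u + 1} R) S] [IsLocalHom (algebraMap (ULift.{u + 1} R) S)]
    [Hensel.IsStrictHenselization (ULift.{u + 1} R) S] :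
    Nonempty (S ≃+* StrictHenselization R) := by
  obtain ⟨i1, i2, alg, hloc, h⟩ := exists_isStrictHenselization_ulift R
  obtain ⟨e⟩ := nonempty_algEquiv_of_isStrictHenselization (R := ULift.{u + 1} R) S
    (ULift.{u + 1} (StrictHenselization R))
  exact ⟨e.toRingEquiv.trans ULift.ringEquiv⟩


/-- prime nilradical is invariant under ring isomorphisms, across universes -/
theorem isPrime_nilradical_of_ringEquiv {A : Type u} {B : Type v} [CommRing A] [CommRing B]
    (e : A ≃+* B) (h : (nilradical A).IsPrime) : (nilradical B).IsPrime := by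
  have : nilradical B = Ideal.comap (e.symm : B →+* A) (nilradical A) := by
    ext x
    rw [Ideal.mem_comap, mem_nilradical, mem_nilradical]
    constructor
    · intro hx
      exact hx.map (e.symm : B →+* A)
    · intro hx
      have := hx.map (e : A →+* B)
      simpa using this
  rw [this]
  exact Ideal.comap_isPrime _ _

/-- having a unique minimal prime is invariant under ring isomorphisms, across universes -/
theorem hasUniqueMinimalPrime_iff_of_ringEquiv {A : Type u} {B : Type v} [CommRing A] [CommRing B]
    (e : A ≃+* B) : CAlgX.HasUniqueMinimalPrime A ↔ CAlgX.HasUniqueMinimalPrime B := by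
  rw [UMP.hasUniqueMinimalPrime_iff, UMP.hasUniqueMinimalPrime_iff]
  exact ⟨isPrime_nilradical_of_ringEquiv e, isPrime_nilradical_of_ringEquiv e.symm⟩

end Groth.Agent.H3.ULiftStrict
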