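import Mathlib
import Groth.Agent.Lib.Helper3.AlgSpProp.OEtStrictApps
import Groth.Agent.Lib.Helper3.AlgSpProp.OEtReduced
import Groth.Agent.Lib.Helper8.Hens.StrictQuot
import Groth.Agent.Lib.Helper8.Hens.EtaleGU2
import Groth.Agent.Lib.Helper8.Brnch.GUCrit
import Groth.Agent.Lib.Helper3.AlgSpProp.ULiftStrict

/-!
# Unibranch points of algebraic spaces via étale local rings (helper3)
-/

set_option autoImplicit false
set_option linter.unusedSectionVars false
set_option backward.isDefEq.respectTransparency false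

universe u

open CategoryTheory CategoryTheory.Limits AlgebraicGeometry MorphismProperty Opposite Topology

namespace Groth.Agent.H3.AlgSpProp

open _root_.AlgSp Groth.Agent.H5.AlgSp Groth.Agent.H8.Hens

variable {S : Scheme.{u}} {X : Sp S}

section Props

variable (hX : IsAlgSpace X) (p : FieldPt X) (hp : p.IsGeometric)

include hX hp in
/-- the étale local ring is isomorphic to the strict henselization of the local ring of any affine
étale neighbourhood -/
theorem nonempty_ringEquiv_OEtStalk (E : EtOver X) (l : (FieldPt.liftsTo p).obj E)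
    [hE : IsAffine E.obj.left.left] :
    Nonempty (↥(OEtStalk p) ≃+*
      StrictHenselization (E.obj.left.left.presheaf.stalk (ptOf p E l))) := by
  obtain ⟨i1, i2, alg, hloc, hsh⟩ := exists_isStrictHenselization_OEtStalk hX p hp E l
  exact Groth.Agent.H3.ULiftStrict.nonempty_ringEquiv_strictHenselization _ _

include hX hp in
theorem isGeomUnibranch_stalk_iff_OEtStalk (E : EtOver X) (l : (FieldPt.liftsTo p).obj E)
    [hE : IsAffine E.obj.left.left] :
    CAlg2.IsGeomUnibranch (E.obj.left.left.presheaf.stalk (ptOf p E l)) ↔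
      CAlgX.HasUniqueMinimalPrime ↥(OEtStalk p) := by
  obtain ⟨e⟩ := nonempty_ringEquiv_OEtStalk hX p hp E l
  have := isStrictHenselization (R := E.obj.left.left.presheaf.stalk (ptOf p E l))
  rw [Groth.Agent.H3.ULiftStrict.hasUniqueMinimalPrime_iff_of_ringEquiv e]
  exact UMP.isGeomUnibranch_iff

include hX hp in
/-- if the étale local ring has a unique minimal prime then every chart through the point is
geometrically unibranch there -/
theorem isGeomUnibranch_of_hasUniqueMinimalPrime_OEtStalk
    (h : CAlgX.HasUniqueMinimalPrime ↥(OEtStalk p))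
    {U : Over S} (a : (yon S).obj U ⟶ X) (hae : RepWith @Etale a)
    (u : ↥U.left) (hu : Points.ofPt a u = Points.mk p) :
    CAlg2.IsGeomUnibranch (U.left.presheaf.stalk u) := by
  obtain ⟨E, l, hE, ⟨e⟩⟩ := exists_affine_nbhd_at p hp a hae u hu
  exact isGeomUnibranch_of_ringEquiv e ((isGeomUnibranch_stalk_iff_OEtStalk hX p hp E l).2 h)

include hX hp in
/-- if all étale neighbourhoods have prime nilradical at the point, so does the étale local ring -/
theorem hasUniqueMinimalPrime_OEtStalk_of_forall
    (h : ∀ (Y : EtOver X) (y : (FieldPt.liftsTo p).obj Y),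
      (nilradical (Y.obj.left.left.presheaf.stalk (ptOf p Y y))).IsPrime) :
    CAlgX.HasUniqueMinimalPrime ↥(OEtStalk p) := by
  have := isLocalRing_OEtStalk hX p hp
  rw [UMP.hasUniqueMinimalPrime_iff, Groth.Agent.H8.Brnch.isPrime_nilradical_iff]
  refine ⟨inferInstance, fun a b hab => ?_⟩
  obtain ⟨n, hn⟩ := hab
  obtain ⟨E, l, s, t, rfl, rfl⟩ := germ_surjective₂ hX p hp a b
  rw [← map_mul, ← map_pow, ← map_zero (germ p E l), germ_eq_germ_iff hX p hp] at hn
  obtain ⟨Y, f, y, hy, hst⟩ := hn
  rw [map_zero, map_pow, map_mul] at hst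
  set s' := f.hom.left.left.appTop.hom s with hs'
  set t' := f.hom.left.left.appTop.hom t with ht'
  have hY := (Groth.Agent.H8.Brnch.isPrime_nilradical_iff _).1 (h Y y)
  have hnil : IsNilpotent (Y.obj.left.left.presheaf.germ ⊤ (ptOf p Y y) trivial s' *
      Y.obj.left.left.presheaf.germ ⊤ (ptOf p Y y) trivial t') :=
    ⟨n, by rw [← map_mul, ← map_pow, hst, map_zero]⟩
  have key : ∀ r : Γ(Y.obj.left.left, ⊤),
      IsNilpotent (Y.obj.left.left.presheaf.germ ⊤ (ptOf p Y y) trivial r) →
      IsNilpotent (germ p Y y r) := by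
    rintro r ⟨m, hm⟩
    rw [← map_pow] at hm
    obtain ⟨V, hV, hrV⟩ := exists_open_appTop_eq_zero (r ^ m) _ hm
    obtain ⟨l', hl'⟩ := exists_lift_open p hp Y y V hV
    refine ⟨m, ?_⟩
    rw [← map_pow, ← hl', ← germ_res hX p hp]
    have : (openHom Y V).hom.left.left.appTop.hom (r ^ m) = 0 := hrV
    rw [this, map_zero]
  have hs'' : germ p E l s = germ p Y y s' := by rw [hs', germ_res hX p hp, hy]
  have ht'' : germ p E l t = germ p Y y t' := by rw [ht', germ_res hX p hp, hy]
  rw [hs'', ht'']
  rcases hY.2 _ _ hnil with h1 | h1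
  · exact Or.inl (key _ h1)
  · exact Or.inr (key _ h1)

end Props

end Groth.Agent.H3.AlgSpProp
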