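import Mathlib
import Groth.Agent.Lib.Helper3.AlgSpProp.OEtStrict2
import Groth.Agent.Lib.Helper3.AlgSpProp.OEtStrictApps
import Groth.Agent.Lib.Helper3.AlgSpProp.OEtUnibranch
import Groth.Agent.Lib.Helper3.AlgSpProp.MinPrimesFlat
import Groth.Agent.Lib.Helper8.Brnch.NumGeomBranches
import Groth.Agent.Lib.Helper8.Hens.GeomUnibranch

/-!
# Geometric branches of algebraic spaces via étale local rings (helper3)
-/

set_option autoImplicit false
set_option linter.unusedSectionVars false
set_option backward.isDefEq.respectTransparency false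

universe u

open CategoryTheory CategoryTheory.Limits AlgebraicGeometry MorphismProperty Opposite Topology

namespace Groth.Agent.H3.AlgSpProp

open _root_.AlgSp Groth.Agent.H5.AlgSp Groth.Agent.H8.Hens Groth.Agent.H3.MinPrimesFlat

variable {S : Scheme.{u}} {X : Sp S}

/-- the number of geometric branches is invariant under ring isomorphisms -/
theorem numGeomBranches_eq_of_ringEquiv {A A' : Type u} [CommRing A] [IsLocalRing A] [CommRing A']
    [IsLocalRing A'] (e : A ≃+* A') : Brnch.numGeomBranches A = Brnch.numGeomBranches A' := by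
  have hsh := isStrictHenselization (R := A)
  letI : Algebra A' (StrictHenselization A) :=
    ((algebraMap A (StrictHenselization A)).comp (e.symm : A' →+* A)).toAlgebra
  have he : (algebraMap A' (StrictHenselization A)).comp (e : A →+* A') =
      algebraMap A (StrictHenselization A) := by
    refine RingHom.ext fun a => ?_
    show algebraMap A (StrictHenselization A) (e.symm (e a)) = _
    rw [e.symm_apply_apply]
  haveI : IsLocalHom (algebraMap A' (StrictHenselization A)) := by
    constructor
    intro a ha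
    have h1 : IsUnit (e.symm a) :=
      isUnit_of_map_unit (algebraMap A (StrictHenselization A)) _ ha
    exact (isUnit_map_iff e.symm a).1 h1
  haveI := Groth.Agent.H8.Hens.GU.isStrictHenselization_of_ringEquiv (S := StrictHenselization A) e he
  rw [← Groth.Agent.H8.Brnch.card_minimalPrimes_eq_numGeomBranches A (StrictHenselization A),
    ← Groth.Agent.H8.Brnch.card_minimalPrimes_eq_numGeomBranches A' (StrictHenselization A)]

section Props

variable (hX : IsAlgSpace X) (p : FieldPt X) (hp : p.IsGeometric)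

include hX hp in
theorem numGeomBranches_stalk_eq (E : EtOver X) (l : (FieldPt.liftsTo p).obj E)
    [hE : IsAffine E.obj.left.left] :
    Brnch.numGeomBranches (E.obj.left.left.presheaf.stalk (ptOf p E l)) =
      (minimalPrimes ↥(OEtStalk p)).encard := by
  obtain ⟨e⟩ := nonempty_ringEquiv_OEtStalk hX p hp E l
  have hsh := isStrictHenselization (R := E.obj.left.left.presheaf.stalk (ptOf p E l))
  rw [encard_minimalPrimes_of_ringEquiv e,
    ← Groth.Agent.H8.Brnch.card_minimalPrimes_eq_numGeomBranches
      (E.obj.left.left.presheaf.stalk (ptOf p E l))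
      (StrictHenselization (E.obj.left.left.presheaf.stalk (ptOf p E l)))]
  rfl

include hX hp in
/-- the number of geometric branches of any chart at a point over `p` is the number of minimal
primes of the étale local ring -/
theorem numGeomBranchesAt_eq {U : Over S} (a : (yon S).obj U ⟶ X) (hae : RepWith @Etale a)
    (u : ↥U.left) (hu : Points.ofPt a u = Points.mk p) :
    Brnch.numGeomBranchesAt U.left u = (minimalPrimes ↥(OEtStalk p)).encard := by
  obtain ⟨E, l, hE, ⟨e⟩⟩ := exists_affine_nbhd_at p hp a hae u hu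
  rw [← numGeomBranches_stalk_eq hX p hp E l]
  exact (numGeomBranches_eq_of_ringEquiv e).symm

include hX hp in
theorem encard_minimalPrimes_stalk_le_aff (E : EtOver X) (l : (FieldPt.liftsTo p).obj E)
    [hE : IsAffine E.obj.left.left] :
    (minimalPrimes (E.obj.left.left.presheaf.stalk (ptOf p E l))).encard ≤
      (minimalPrimes ↥(OEtStalk p)).encard := by
  obtain ⟨i1, i2, hloc, hsh⟩ := exists_isStrictHenselization_OEtStalk_explicit hX p hp E l
  letI := algULift hX p hp E l
  have hff : Module.FaithfullyFlat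
      (ULift.{u + 1} (E.obj.left.left.presheaf.stalk (ptOf p E l))) ↥(OEtStalk p) :=
    faithfullyFlat_of_isStrictHenselization _
  rw [encard_minimalPrimes_of_ringEquiv
    (ULift.ringEquiv.symm : E.obj.left.left.presheaf.stalk (ptOf p E l) ≃+* ULift.{u + 1} _)]
  exact encard_minimalPrimes_le_of_injective (FaithfulSMul.algebraMap_injective _ _)

include hX hp in
/-- every chart through the point has at most as many minimal primes in its local ring as the
étale local ring -/
theorem encard_minimalPrimes_stalk_le {U : Over S} (a : (yon S).obj U ⟶ X) (hae : RepWith @Etale a)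
    (u : ↥U.left) (hu : Points.ofPt a u = Points.mk p) :
    (minimalPrimes (U.left.presheaf.stalk u)).encard ≤ (minimalPrimes ↥(OEtStalk p)).encard := by
  obtain ⟨E, l, hE, ⟨e⟩⟩ := exists_affine_nbhd_at p hp a hae u hu
  rw [← encard_minimalPrimes_of_ringEquiv e]
  exact encard_minimalPrimes_stalk_le_aff hX p hp E l

include hX hp in
/-- finitely many minimal primes of the étale local ring are already separated in the local ring
of some étale neighbourhood -/
theorem exists_nbhd_card_le (F : Finset (Ideal ↥(OEtStalk p)))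
    (hF : ∀ P ∈ F, P ∈ minimalPrimes ↥(OEtStalk p)) :
    ∃ (Y : EtOver X) (y : (FieldPt.liftsTo p).obj Y),
      (F.card : ℕ∞) ≤ (minimalPrimes (Y.obj.left.left.presheaf.stalk (ptOf p Y y))).encard := by
  classical
  have hsep0 : ∀ P ∈ F, ∀ Q ∈ F, P ≠ Q → ∃ a : ↥(OEtStalk p), a ∈ P ∧ a ∉ Q := by
    intro P hP Q hQ hne
    have hnle : ¬ P ≤ Q := by
      intro hle
      have hQP : Q ≤ P := (hF Q hQ).2 ⟨(hF P hP).1.1, bot_le⟩ hle
      exact hne (le_antisymm hle hQP)
    exact SetLike.not_le_iff_exists.1 hnle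
  let a : Ideal ↥(OEtStalk p) → Ideal ↥(OEtStalk p) → ↥(OEtStalk p) := fun P Q =>
    if h : P ∈ F ∧ Q ∈ F ∧ P ≠ Q then (hsep0 P h.1 Q h.2.1 h.2.2).choose else 0
  have ha : ∀ P ∈ F, ∀ Q ∈ F, P ≠ Q → a P Q ∈ P ∧ a P Q ∉ Q := by
    intro P hP Q hQ hne
    have h : P ∈ F ∧ Q ∈ F ∧ P ≠ Q := ⟨hP, hQ, hne⟩
    simp only [a, dif_pos h]
    exact (hsep0 P h.1 Q h.2.1 h.2.2).choose_spec
  let T : Finset ↥(OEtStalk p) := (F ×ˢ F).image (fun PQ => a PQ.1 PQ.2)
  obtain ⟨E₁, l₁, hcoef⟩ := exists_germ_finset hX p hp T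
  obtain ⟨g, m, hm, -⟩ := exists_good_refinement (E := E₁) (l := l₁) hp E₁ l₁ (𝟙 E₁)
    (by rw [CategoryTheory.Functor.map_id]; rfl)
  have := g.aff
  refine ⟨g.N, g.l', ?_⟩
  obtain ⟨i1, i2, hloc, hsh⟩ := exists_isStrictHenselization_OEtStalk_explicit hX p hp g.N g.l'
  letI := algULift hX p hp g.N g.l'
  have hfl : Module.Flat (ULift.{u + 1} (g.N.obj.left.left.presheaf.stalk (ptOf p g.N g.l')))
      ↥(OEtStalk p) := flat_of_isStrictHenselization _
  rw [encard_minimalPrimes_of_ringEquiv
    (ULift.ringEquiv.symm : g.N.obj.left.left.presheaf.stalk (ptOf p g.N g.l') ≃+* ULift.{u + 1} _)]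
  refine card_le_encard_minimalPrimes F hF ?_
  intro P hP Q hQ hne
  have hmem : a P Q ∈ T :=
    Finset.mem_image.2 ⟨(P, Q), Finset.mem_product.2 ⟨hP, hQ⟩, rfl⟩
  obtain ⟨t, ht⟩ := hcoef _ hmem
  have hkey : algebraMap (ULift.{u + 1} (g.N.obj.left.left.presheaf.stalk (ptOf p g.N g.l')))
      ↥(OEtStalk p) (ULift.up (g.N.obj.left.left.presheaf.germ ⊤ (ptOf p g.N g.l') trivial
        (m.hom.left.left.appTop.hom t))) = a P Q := by
    rw [algebraMap_algULift_germ, germ_res hX p hp, hm, ht]
  refine ⟨ULift.up (g.N.obj.left.left.presheaf.germ ⊤ (ptOf p g.N g.l') trivial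
        (m.hom.left.left.appTop.hom t)), ?_, ?_⟩
  · rw [hkey]; exact (ha P hP Q hQ hne).1
  · rw [hkey]; exact (ha P hP Q hQ hne).2

end Props

end Groth.Agent.H3.AlgSpProp
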