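import Mathlib
import Groth.Agent.Lib.Helper3.AlgSpProp.OEtStrictApps
import Groth.Agent.Lib.Helper8.Hens.Strict
import Groth.Agent.Lib.Helper1.RegFlat

/-!
# Regularity of étale local rings of algebraic spaces (helper3)
-/

set_option autoImplicit false
set_option linter.unusedSectionVars false
set_option backward.isDefEq.respectTransparency false

universe u

open CategoryTheory CategoryTheory.Limits AlgebraicGeometry MorphismProperty Opposite Topology

namespace Groth.Agent.H3.AlgSpProp

open _root_.AlgSp Groth.Agent.H5.AlgSp

variable {S : Scheme.{u}} {X : Sp S}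

/-- regularity passes up and down a strict henselization -/
theorem isRegularLocalRing_iff_of_isStrictHenselization {R S : Type u} [CommRing R] [IsLocalRing R]
    [CommRing S] [IsLocalRing S] [Algebra R S] [IsLocalHom (algebraMap R S)]
    [hS : Hensel.IsStrictHenselization R S] :
    IsRegularLocalRing S ↔ IsRegularLocalRing R := by
  have hfl : Module.Flat R S := Groth.Agent.H8.Hens.flat_of_isStrictHenselization (R := R) S
  have hm := Groth.Agent.H8.Hens.map_maximalIdeal_of_isStrictHenselization (R := R) S
  have hN := Groth.Agent.H8.Hens.isNoetherianRing_iff_of_isStrictHenselization (R := R) S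
  constructor
  · intro h
    have : IsNoetherianRing R := hN.2 inferInstance
    exact Groth.Agent.H1.Reg.isRegularLocalRing_of_flat R S
  · intro h
    have : IsNoetherianRing S := hN.1 inferInstance
    exact Groth.Agent.H1.RegFlat.isRegularLocalRing_of_flat_of_map_eq R S hm

section Props

variable (hX : IsAlgSpace X) (p : FieldPt X) (hp : p.IsGeometric)
  (E : EtOver X) (l : (FieldPt.liftsTo p).obj E) [hE : IsAffine E.obj.left.left]

include hX hp in
theorem isRegularLocalRing_OEtStalk_iff :
    IsRegularLocalRing ↥(OEtStalk p) ↔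
      IsRegularLocalRing (E.obj.left.left.presheaf.stalk (ptOf p E l)) := by
  obtain ⟨i1, i2, alg, hloc, hsh⟩ := exists_isStrictHenselization_OEtStalk hX p hp E l
  rw [isRegularLocalRing_iff_of_isStrictHenselization
    (R := ULift.{u + 1} (E.obj.left.left.presheaf.stalk (ptOf p E l))) (S := ↥(OEtStalk p))]
  exact ⟨fun h => IsRegularLocalRing.of_ringEquiv ULift.ringEquiv,
    fun h => IsRegularLocalRing.of_ringEquiv ULift.ringEquiv.symm⟩

end Props


section HasAtReg

variable (hX : IsAlgSpace X) (p : FieldPt X) (hp : p.IsGeometric)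

include hX hp in
theorem hasAt_isRegularLocalRing_iff :
    HasAt (fun U u => IsRegularLocalRing ↥(U.presheaf.stalk u)) X (Points.mk p) ↔
      IsRegularLocalRing ↥(OEtStalk p) := by
  constructor
  · rintro ⟨U, a, u, hae, hu, hreg⟩
    obtain ⟨E, l, hE, ⟨e⟩⟩ := exists_affine_nbhd_at p hp a hae u hu
    rw [isRegularLocalRing_OEtStalk_iff hX p hp E l]
    exact IsRegularLocalRing.of_ringEquiv e.symm
  · intro h
    obtain ⟨E, l, hE⟩ := exists_affine_nbhd hX p hp
    exact ⟨E.obj.left, E.obj.hom, _, E.property, ofPt_lift_closedPoint p l,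
      (isRegularLocalRing_OEtStalk_iff hX p hp E l).1 h⟩

end HasAtReg

end Groth.Agent.H3.AlgSpProp
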