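import Mathlib
import Groth.Agent.Lib.Helper3.AlgSpCov.RedNoeth
import Groth.Agent.Lib.Helper5.AlgSp.ProdSp

/-!
# Reducedness of the base change of an algebraic space over a field, via an atlas
-/

set_option autoImplicit false
universe u
open CategoryTheory CategoryTheory.Limits AlgebraicGeometry

namespace Groth.Agent.H3.RedBC

open _root_.AlgSp Groth.Agent.H5.AlgSp Groth.Agent.H3.AlgSpCov

variable {S : Scheme.{u}}

/-- the product chart of an atlas with a representable factor. -/
theorem isReducedSp_prod_yon_iff {X : Sp S} {U : Over S} (a : (yon S).obj U ⟶ X)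
    (hae : RepWith @Etale a) (has : RepWith @Surjective a) (T : Over S) :
    IsReducedSp (X ⨯ (yon S).obj T) ↔ AlgebraicGeometry.IsReduced (pullback U.hom T.hom) := by
  have hce : RepWith @Etale (prodComparison (yon S) U T ≫ prod.map a (𝟙 ((yon S).obj T))) :=
    repWith_prodComparison_comp_prod_map hae (repWith_id _ T)
  have hcs : RepWith @Surjective (prodComparison (yon S) U T ≫ prod.map a (𝟙 ((yon S).obj T))) :=
    repWith_prodComparison_comp_prod_map has (repWith_id _ T)
  constructor
  · intro h
    have := isReduced_of_etale_of_isReducedSp h _ hce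
    exact isReduced_of_isOpenImmersion (Over.prodLeftIsoPullback U T).inv
  · intro h
    refine ⟨U ⨯ T, _, hce, hcs, ?_⟩
    exact isReduced_of_isOpenImmersion (Over.prodLeftIsoPullback U T).hom

end Groth.Agent.H3.RedBC
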