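import Mathlib
import Groth.Agent.Lib.Helper3.AlgSpProp.Support

set_option autoImplicit false
set_option linter.unusedSectionVars false
set_option backward.isDefEq.respectTransparency false

universe u

open CategoryTheory CategoryTheory.Limits AlgebraicGeometry MorphismProperty Opposite Topology

namespace Groth.Agent.H3.AlgSpProp

open _root_.AlgSp Groth.Agent.H5.AlgSp

variable {S : Scheme.{u}} {X : Sp S}

/-- A point of `E ×_X E'` over a pair of points with the same image in `|X|`. -/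
theorem exists_point_prodObj (E E' : EtOver X) (e : ↥E.obj.left.left) (e' : ↥E'.obj.left.left)
    (h : Points.ofPt E'.obj.hom e' = Points.ofPt E.obj.hom e) :
    ∃ z : ↥(EtOver.prodObj E E').obj.left.left, (EtOver.prodFst E E').hom.left.left z = e := by
  have sq := E'.property.1.isPullback E.obj.hom
  obtain ⟨v, hv, -⟩ := exists_point_of_isPullback sq (Points.ofScheme E'.obj.left e') e
    (by rw [← Points.ofPt_eq_map_ofScheme, h])
  exact ⟨v, hv⟩

theorem existsUnique_open_of_subsingleton (hX : IsAlgSpace X) (F : EtSh X (Type (u + 1)))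
    (hF : ∀ E : EtOver X, Subsingleton (F.obj.obj (op E))) :
    ∃! W : Set (Points X), IsOpen W ∧
      ∀ E : EtOver X, Nonempty (F.obj.obj (op E)) ↔ Set.range (Points.ofPt E.obj.hom) ⊆ W := by
  have huniq : ∀ W₁ W₂ : Set (Points X), IsOpen W₁ →
      (∀ E : EtOver X, Nonempty (F.obj.obj (op E)) ↔ Set.range (Points.ofPt E.obj.hom) ⊆ W₁) →
      (∀ E : EtOver X, Nonempty (F.obj.obj (op E)) ↔ Set.range (Points.ofPt E.obj.hom) ⊆ W₂) →
      W₁ ⊆ W₂ := by
    intro W₁ W₂ ho h₁ h₂ x hx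
    obtain ⟨U₀, a₀, hae, has⟩ := hX.atlas
    obtain ⟨u, rfl⟩ := ofPt_surjective_of_repWith has x
    let V : U₀.left.Opens := ⟨Points.ofPt a₀ ⁻¹' W₁, ho.preimage (Points.continuous_ofPt a₀)⟩
    let E : EtOver X := EtOver.mk ((yon S).map (overOpenι U₀ V) ≫ a₀) (repWith_etale_restrict hae V)
    have hsub : Set.range (Points.ofPt E.obj.hom) ⊆ W₁ := by
      rintro _ ⟨v, rfl⟩
      change Points.ofPt ((yon S).map (overOpenι U₀ V) ≫ a₀) v ∈ W₁
      rw [ofPt_restrict]
      exact v.2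
    have := (h₂ E).1 ((h₁ E).2 hsub) ⟨⟨u, hx⟩, rfl⟩
    change Points.ofPt ((yon S).map (overOpenι U₀ V) ≫ a₀) _ ∈ W₂ at this
    rwa [ofPt_restrict] at this
  let W : Set (Points X) := ⋃ (E : {E : EtOver X // Nonempty (F.obj.obj (op E))}),
    Set.range (Points.ofPt E.1.obj.hom)
  have hWo : IsOpen W := isOpen_iUnion fun E => isOpen_range_ofPt E.1.property
  have hW : ∀ E : EtOver X, Nonempty (F.obj.obj (op E)) ↔
      Set.range (Points.ofPt E.obj.hom) ⊆ W := by
    intro E
    constructor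
    · intro hne
      exact Set.subset_iUnion (fun E : {E : EtOver X // Nonempty (F.obj.obj (op E))} =>
        Set.range (Points.ofPt E.1.obj.hom)) ⟨E, hne⟩
    · intro hsub
      have key : ∀ e : ↥E.obj.left.left, ∃ (Y : EtOver X) (f : Y ⟶ E),
          Nonempty (F.obj.obj (op Y)) ∧ e ∈ Set.range f.hom.left.left := by
        intro e
        obtain ⟨⟨E', ⟨s'⟩⟩, e', he'⟩ := Set.mem_iUnion.1 (hsub ⟨e, rfl⟩)
        obtain ⟨z, hz⟩ := exists_point_prodObj E E' e e' he'
        exact ⟨EtOver.prodObj E E', EtOver.prodFst E E',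
          ⟨F.obj.map (EtOver.prodSnd E E').op s'⟩, z, hz⟩
      choose Y f hf1 hf2 using key
      have hT : Sieve.ofArrows Y f ∈ etTop X E := ofArrows_mem_etTop Y f fun e => ⟨e, hf2 e⟩
      have hne : ∀ ⦃Z : EtOver X⦄ (g : Z ⟶ E), (Sieve.ofArrows Y f) g →
          Nonempty (F.obj.obj (op Z)) := by
        rintro Z g ⟨W, a, b, ⟨e⟩, rfl⟩
        obtain ⟨s⟩ := hf1 e
        exact ⟨F.obj.map a.op s⟩
      let x : Presieve.FamilyOfElements F.obj (Sieve.ofArrows Y f).arrows :=
        fun Z g hg => Classical.choice (hne g hg)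
      have hx : x.Compatible := fun _ _ _ _ _ _ _ _ _ _ =>
        Subsingleton.elim (h := hF _) _ _
      exact ⟨(((isSheaf_iff_isSheaf_of_type _ _).1 F.property) _ hT).amalgamate x hx⟩
  refine ⟨W, ⟨hWo, hW⟩, fun W' ⟨hW'o, hW'⟩ => ?_⟩
  exact Set.Subset.antisymm (huniq W' W hW'o hW' hW) (huniq W W' hWo hW hW')

end Groth.Agent.H3.AlgSpProp
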