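import Mathlib
import Groth.Agent.Lib.Helper3.AlgSpProp.GlobalSections
import Groth.Agent.Lib.Helper5.AlgSp.Presentation
import Groth.Agent.Lib.Helper5.AlgSp.Cover

set_option autoImplicit false
set_option linter.unusedSectionVars false
set_option backward.isDefEq.respectTransparency false

universe u

open CategoryTheory CategoryTheory.Limits AlgebraicGeometry MorphismProperty Opposite Topology

namespace Groth.Agent.H3.AlgSpProp

open _root_.AlgSp Groth.Agent.H5.AlgSp

lemma eq_of_toSpecΓ_comp_specMap_eq {Y : Scheme.{u}} {A : CommRingCat.{u}} (α β : A ⟶ Γ(Y, ⊤))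
    (h : Y.toSpecΓ ≫ Spec.map α = Y.toSpecΓ ≫ Spec.map β) : α = β := by
  have h2 := congrArg Scheme.Hom.appTop h
  rw [Scheme.Hom.comp_appTop, Scheme.Hom.comp_appTop, Scheme.toSpecΓ_appTop,
    Scheme.ΓSpecIso_naturality, Scheme.ΓSpecIso_naturality] at h2
  exact (cancel_epi _).1 h2

lemma exists_hom_of_appTop {Y T : Scheme.{u}} [IsAffine T] (ψ : Γ(T, ⊤) ⟶ Γ(Y, ⊤)) :
    ∃ m : Y ⟶ T, m.appTop = ψ := by
  refine ⟨Y.toSpecΓ ≫ Spec.map ψ ≫ T.isoSpec.inv, ?_⟩
  apply eq_of_toSpecΓ_comp_specMap_eq
  rw [← Scheme.toSpecΓ_naturality, Category.assoc, Category.assoc, Scheme.isoSpec_inv_toSpecΓ,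
    Category.comp_id]


variable {S : Scheme.{u}} {X : Sp S}

/-- The component at `E` of a ring map to the global sections of the structure sheaf. -/
noncomputable def compOf {A : Type u} [CommRing A] (φ : A →+* ↥(gsectEt (OEt X))) (E : EtOver X) :
    A →+* Γ(E.obj.left.left, ⊤) :=
  (ULift.ringEquiv : ULift.{u + 1} Γ(E.obj.left.left, ⊤) ≃+* _).toRingHom.comp
    ((limit.π (OEt X).obj (op E)).hom.comp φ)

lemma compOf_res {A : Type u} [CommRing A] (φ : A →+* ↥(gsectEt (OEt X))) {E' E : EtOver X}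
    (g : E' ⟶ E) : g.hom.left.left.appTop.hom.comp (compOf φ E) = compOf φ E' := by
  ext r
  have := limit.w (OEt X).obj g.op
  have h2 := congrArg (fun m => (m.hom (φ r)).down) this
  exact h2

theorem existsUnique_hom_to_affine (hS : IsTerminal S) (hX : IsAlgSpace X) (T : Over S)
    [IsAffine T.left] (φ : Γ(T.left, ⊤) →+* ↥(gsectEt (OEt X))) :
    ∃! f : X ⟶ (yon S).obj T, ∀ (E : EtOver X) (r : Γ(T.left, ⊤)),
        ((limit.π (OEt X).obj (op E)) (φ r)).down =
          ((yon S).preimage (E.obj.hom ≫ f)).left.appTop r := by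
  have hm : ∀ E : EtOver X, ∃ m : E.obj.left ⟶ T,
      m.left.appTop = CommRingCat.ofHom (compOf φ E) := by
    intro E
    obtain ⟨m, hm⟩ := exists_hom_of_appTop (Y := E.obj.left.left) (T := T.left)
      (CommRingCat.ofHom (compOf φ E))
    exact ⟨Over.homMk m (hS.hom_ext _ _), hm⟩
  choose m hm using hm
  have hcompat : ∀ {E' E : EtOver X} (g : E' ⟶ E), g.hom.left ≫ m E = m E' := by
    intro E' E g
    apply Over.OverMorphism.ext
    apply ext_of_isAffine
    rw [Over.comp_left, Scheme.Hom.comp_appTop, hm, hm]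
    ext r
    exact congrArg (fun k => k r) (compOf_res φ g)
  obtain ⟨U, a, hae, has⟩ := hX.atlas
  let E₀ : EtOver X := EtOver.mk a hae
  have hls : Sheaf.IsLocallySurjective a := isLocallySurjective_of_etale_surjective a hae has
  have sqR := hae.rep.isPullback a
  obtain ⟨hc⟩ := nonempty_isColimit_cofork_of_isLocallySurjective a sqR
  obtain ⟨r₁, hr₁⟩ := (yon S).map_surjective (hae.rep.fst a)
  have hfe : RepWith @Etale (hae.rep.fst a) :=
    MorphismProperty.of_isPullback (P := RepWith @Etale) sqR.flip hae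
  let ER : EtOver X := EtOver.mk (hae.rep.fst a ≫ a)
    ((repWith_isMultiplicative (S := S) @Etale).comp_mem _ _ hfe hae)
  let p₁ : ER ⟶ E₀ := EtOver.homMk r₁ (by
    change (yon S).map r₁ ≫ a = hae.rep.fst a ≫ a
    rw [hr₁])
  let p₂ : ER ⟶ E₀ := EtOver.homMk (hae.rep.snd a) sqR.w.symm
  have w : hae.rep.fst a ≫ (yon S).map (m E₀) =
      (yon S).map (hae.rep.snd a) ≫ (yon S).map (m E₀) := by
    rw [← hr₁, ← Functor.map_comp, ← Functor.map_comp]
    congr 1
    exact (hcompat p₁).trans (hcompat p₂).symm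
  let f : X ⟶ (yon S).obj T := hc.desc (Cofork.ofπ ((yon S).map (m E₀)) w)
  have hf : a ≫ f = (yon S).map (m E₀) := hc.fac _ WalkingParallelPair.one
  have hepi : Epi a := inferInstance
  -- the key formula
  have hkey : ∀ E : EtOver X, E.obj.hom ≫ f = (yon S).map (m E) := by
    intro E
    let E' := EtOver.prodObj E E₀
    have hpe : RepWith @Etale ((yon S).map (EtOver.prodFst E E₀).hom.left) :=
      (repWith_yon_map_iff _ _).2 (EtOver.etale_left _)
    have hps : RepWith @Surjective ((yon S).map (EtOver.prodFst E E₀).hom.left) :=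
      (repWith_yon_map_iff _ _).2 (has.property_snd E.obj.hom)
    have : Sheaf.IsLocallySurjective ((yon S).map (EtOver.prodFst E E₀).hom.left) :=
      isLocallySurjective_of_etale_surjective _ hpe hps
    have : Epi ((yon S).map (EtOver.prodFst E E₀).hom.left) := inferInstance
    rw [← cancel_epi ((yon S).map (EtOver.prodFst E E₀).hom.left)]
    rw [← Category.assoc, EtOver.w (EtOver.prodFst E E₀), ← EtOver.w (EtOver.prodSnd E E₀),
      Category.assoc]
    change _ ≫ a ≫ f = _
    rw [hf, ← Functor.map_comp, ← Functor.map_comp, hcompat, hcompat]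
  refine ⟨f, ?_, ?_⟩
  · intro E r
    rw [hkey E, Functor.preimage_map, hm]
    rfl
  · intro f' hf'
    rw [← cancel_epi a, hf]
    have h1 : a ≫ f' = (yon S).map ((yon S).preimage (a ≫ f')) := ((yon S).map_preimage _).symm
    rw [h1]
    congr 1
    apply Over.OverMorphism.ext
    apply ext_of_isAffine
    rw [hm]
    ext r
    exact (hf' E₀ r).symm

end Groth.Agent.H3.AlgSpProp
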